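import Cfsg.Agent.Base.Glob

/-!
# The choice of the eigenvector: the anisotropic part
-/

set_option autoImplicit false
set_option linter.unusedSectionVars false

namespace Cfsg.Lib.Base

open Subgroup Setup
open scoped commutatorElement

universe u

variable {K V : Type*} {Γ : Type u} [Field K] [AddCommGroup V] [Module K V] [Group Γ]
  [DistribMulAction Γ V] [Nontrivial V] {S : Setup K V Γ} {r : ℕ} {M L : Subgroup Γ} {x : V}

theorem Setup.conj_neg_one [FaithfulSMul Γ V] (S : Setup K V Γ) (g : Γ) :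
    g * S.ι (-1) * g⁻¹ = S.ι (-1) :=
  eq_of_smul_eq_smul fun v : V => by simp [mul_smul, S.ι_smul]

theorem Eig.smul_eq (h : Heis S r M) (e : Eig S M L x) {g m c : Γ} (hg : g ∈ S.A) (hm : m ∈ M)
    (h1 : g • m • x = m • x) (h2 : m⁻¹ * c ∈ L) : g • c • x = c • x := by
  obtain ⟨u, hu⟩ := e.exists_unit h2
  rw [mul_smul, inv_smul_eq_iff, smul_smul (h.le_A hm)] at hu
  rw [hu, smul_smul hg, h1]

theorem Lag.exists_norm [Finite Γ] [Finite K] (h : Heis S 2 M) (hL : Lag S 2 M L) {c : Γ}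
    (hc : c ∈ Cz M L) (h1 : c ∉ L) : ∃ u : Kˣ, S.ι u * c ∈ Cz M L ∧ (S.ι u * c) ^ 2 = S.ι (-1) := by
  obtain ⟨u, hu⟩ := h.exists_norm hc.1
  have h2 : S.ι u * c ∈ Cz M L := mul_mem ⟨h.ι_mem u, hL.comm (hL.U_le (ι_mem u))⟩ hc
  obtain ⟨w, hw⟩ := h.pow _ h2.1
  rw [show ex 2 = 2 * 2 from rfl, pow_mul, ← hw, ← map_pow, map_eq_one_iff _ ι_injective] at hu
  refine ⟨u, h2, hw ▸ congrArg _ ((units_sq_eq_one hu).resolve_left fun e => h1 ?_)⟩
  exact (mul_mem_cancel_left (hL.U_le (ι_mem u))).1 (hL.max _ h2 ⟨1, by rw [← hw, e, one_pow]⟩)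

theorem Lag.cm_eq (h : Heis S 2 M) (hL : Lag S 2 M L) {a b : Γ} (ha : a ∈ Cz M L)
    (hb : b ∈ Cz M L) (h1 : a ^ 2 = S.ι (-1)) (h2 : b ^ 2 = S.ι (-1)) (h3 : a⁻¹ * b ∉ L) :
    S.cm b a = -1 ∧ (a * b) ^ 2 = S.ι (-1) := by
  have h4 : (a * b) ^ 2 = S.ι (S.cm b a) := by
    rw [h.mul_pow_eq ha.1 hb.1, h1, h2, ← map_mul, ← map_mul]; simp
  have h5 := (units_sq_eq_one (h.cm_pow hb.1 ha.1)).resolve_left fun e => h3 (by
    have h6 := mul_mem (inv_mem (hL.U_le (h.pow a ha.1)))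
      (hL.max _ (mul_mem ha hb) ⟨1, by rw [h4, e, one_pow]⟩)
    rwa [pow_two, mul_inv_rev, mul_assoc, inv_mul_cancel_left] at h6)
  exact ⟨h5, by rw [h4, h5]⟩

theorem exists_gen (K : Type*) [Field K] [Finite K] :
    ∃ γ : Kˣ, ∀ u : Kˣ, ∃ n : ℕ, γ ^ n = u := IsCyclic.exists_monoid_generator

theorem mem_A_of_gen {g : Γ} {γ : Kˣ} (h : ∀ u : Kˣ, ∃ n : ℕ, γ ^ n = u)
    (h1 : g * S.ι γ * g⁻¹ = S.ι γ) : g ∈ S.A := by
  rintro _ ⟨u, rfl⟩
  obtain ⟨n, rfl⟩ := h u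
  rw [map_pow]
  exact (Commute.pow_right (mul_inv_eq_iff_eq_mul.1 h1) n).eq.symm

theorem Eig.linear [FaithfulSMul Γ V] (h : Heis S 2 M) (e : Eig S M L x)
    (hK : ¬ IsSquare (-1 : K)) {γ : Kˣ} (hγ : ∀ u : Kˣ, ∃ n : ℕ, γ ^ n = u) {a g : Γ}
    (ha : a ∈ Cz M L) (h1 : a ^ 2 = S.ι (-1)) (hg : g • x = x)
    (h2 : g • ((γ ^ 2 : Kˣ) : K) • a • x = ((γ ^ 2 : Kˣ) : K) • a • x) :
    g ∈ S.A ∧ g • a • x = a • x := by
  obtain ⟨δ, hδ⟩ := S.normal.conj_mem _ (ι_mem γ) g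
  have h3 : ∀ v : V, g • ((γ ^ 2 : Kˣ) : K) • v = ((δ ^ 2 : Kˣ) : K) • g • v := fun v => by
    rw [← S.ι_smul, ← S.ι_smul, map_pow, map_pow, hδ, conj_pow, mul_smul, mul_smul, inv_smul_smul]
  have h4 : (a⁻¹ * (g * a * g⁻¹)) • x = (((γ / δ) ^ 2 : Kˣ) : K) • x := by
    rw [h3] at h2
    rw [mul_smul, inv_smul_eq_iff, mul_smul, mul_smul, inv_smul_eq_iff.2 hg.symm,
      smul_smul (h.le_A ha.1), div_pow, div_eq_inv_mul, Units.val_mul, mul_smul, ← h2,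
      _root_.smul_smul ((δ ^ 2)⁻¹ : Kˣ).1, Units.inv_mul, one_smul]
  have h5 := (e.mem _).2 ⟨mul_mem (inv_mem ha.1) (h.conj_mem ha.1 g), _, h4⟩
  have h6 : (a⁻¹ * (g * a * g⁻¹)) ^ 2 = 1 := by
    have h7 := Commute.mul_pow (ha.2 _ h5).symm 2
    rw [mul_inv_cancel_left, conj_pow, h1, S.conj_neg_one] at h7
    exact left_eq_mul.1 h7
  have h7 : ((γ / δ) ^ 2) ^ 2 = 1 := Units.ext (eq_of_smul_eq e.ne (by
    rw [pow_two, Units.val_mul, mul_smul, ← h4, ← smul_smul (h.le_A (e.le h5)), ← h4,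
      ← mul_smul, ← pow_two, h6, Units.val_one, one_smul,
      one_smul]))
  have h8 := (units_sq_eq_one h7).resolve_right fun e => hK ⟨(γ / δ : Kˣ), by
    rw [← Units.val_mul, ← pow_two, e]; rfl⟩
  have h9 : δ ^ 2 = γ ^ 2 := by rwa [div_pow, div_eq_one, eq_comm] at h8
  refine ⟨?_, smul_right_injective V (Units.ne_zero _) (by rwa [h3, h9] at h2)⟩
  obtain ⟨n, hn⟩ := hγ (-1)
  have h10 : Odd n := Nat.not_even_iff_odd.1 fun ⟨k, hk⟩ => hK ⟨(γ ^ k : Kˣ), by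
    rw [← Units.val_mul, ← pow_add, ← hk, hn]; rfl⟩
  obtain ⟨k, rfl⟩ := h10
  refine mem_A_of_gen hγ (hδ ▸ congrArg _ ?_)
  have h11 : δ ^ (2 * k + 1) = -1 := ι_injective (S := S)
    (by rw [map_pow, hδ, conj_pow, ← map_pow, hn, S.conj_neg_one])
  rw [← hn, pow_succ, pow_succ, pow_mul, pow_mul, h9] at h11
  exact mul_left_cancel h11

theorem Lag.quat (h : Heis S 2 M) (hL : Lag S 2 M L) (e : Eig S M L x) {a b : Γ}
    (ha : a ∈ Cz M L) (hb : b ∈ Cz M L) (ha' : a ∉ L) (hb' : b ∉ L) (h1 : a ^ 2 = S.ι (-1))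
    (h2 : b ^ 2 = S.ι (-1)) (h3 : a⁻¹ * b ∉ L)
    (h4 : ∀ c ∈ Cz M L, c ∈ L ∨ a⁻¹ * c ∈ L ∨ b⁻¹ * c ∈ L ∨ (a * b)⁻¹ * c ∈ L) {α β ε : K}
    (h5 : α ^ 2 + β ^ 2 = -1) (hz : α • b • x + β • a • b • x = ε • x) {g : Γ} (hg : g ∈ S.A)
    (hx : g • x = x) (h6 : g • a • x = a • x) : ∀ c ∈ Cz M L, g • c • x = c • x := by
  have hA := h.le_A ha.1
  have hB := h.le_A hb.1
  have haa : ∀ v : V, a • a • v = -v := fun v => by rw [← mul_smul, ← pow_two, h1, S.ι_smul]; simp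
  have hbb : ∀ v : V, b • b • v = -v := fun v => by rw [← mul_smul, ← pow_two, h2, S.ι_smul]; simp
  have hba : ∀ v : V, b • a • v = -(a • b • v) := fun v => by
    rw [h.smul_smul_eq hb.1 ha.1, (hL.cm_eq h ha hb h1 h2 h3).1]; simp
  have hx' : g⁻¹ • x = x := inv_smul_eq_iff.2 hx.symm
  have e1 := congrArg (b • ·) hz
  simp only [smul_add, smul_smul hB, hbb, hba, smul_neg, neg_neg] at e1
  have e2 := congrArg (a • ·) e1
  simp only [smul_add, smul_smul hA, haa, smul_neg] at e2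
  have hnot : ∀ c d : K, c • a • x = d • x → c = 0 := fun c d h7 => by_contra fun h8 =>
    ha' ((e.mem a).2 ⟨ha.1, c⁻¹ * d, by rw [mul_smul, ← h7, inv_smul_smul₀ h8]⟩)
  have hε : ε ≠ 0 := by
    rintro rfl
    rw [zero_smul] at e1 e2
    have h7 := hnot β α (by generalize a • x = w at e1 ⊢; linear_combination (norm := module) e1)
    have h8 := hnot α (-β) (by
      generalize a • x = w at e2 ⊢; linear_combination (norm := module) -e2)
    simp [h7, h8] at h5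
  have h7 : a⁻¹ * (g * a * g⁻¹) ∈ L := (e.mem _).2 ⟨mul_mem (inv_mem ha.1) (h.conj_mem ha.1 g), 1,
    by rw [mul_smul, mul_smul, mul_smul, hx', h6, inv_smul_smul, one_smul]⟩
  have h8 : ∀ c ∈ Cz M L, g • a • g⁻¹ • c • x = a • c • x := fun c hc => by
    have := smul_mem_V0 (x := x) hc.2 self_mem_V0 _ h7
      (by rw [mul_smul, mul_smul, mul_smul, hx', h6, inv_smul_smul])
    rwa [mul_smul, inv_smul_eq_iff, mul_smul, mul_smul] at this
  have h9 : g * b * g⁻¹ ∈ Cz M L := ⟨h.conj_mem hb.1 g, fun l hl => by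
    have := hb.2 _ (e.conj_mem h hx' hl)
    calc l * (g * b * g⁻¹) = g * (g⁻¹ * l * g⁻¹⁻¹ * b) * g⁻¹ := by group
      _ = _ := by rw [this]; group⟩
  have h10 : ∀ m ∈ M, m⁻¹ * (g * b * g⁻¹) ∈ L → ∃ u : Kˣ, g • b • x = (u : K) • m • x :=
    fun m hm h10 => (e.exists_unit h10).imp fun u hu => by
      rwa [mul_smul, inv_smul_eq_iff, mul_smul, mul_smul, hx', smul_smul (h.le_A hm)] at hu
  have h11 : ∀ (u : K) (c : Γ), c ∈ Cz M L → g • b • x = u • c • x →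
      g • a • b • x = u • a • c • x := fun u c hc h11 => by
    rw [← h8 c hc, ← smul_smul hg, ← smul_smul hA, ← smul_smul (inv_mem hg), ← h11, inv_smul_smul]
  have e3 := congrArg (g • ·) hz
  simp only [smul_add, smul_smul hg, hx] at e3
  have key : g • b • x = b • x := by
    rcases h4 _ h9 with h12 | h12 | h12 | h12
    · exact absurd (by simpa [mul_assoc] using e.conj_mem h hx' h12) hb'
    · obtain ⟨u, hu⟩ := h10 a ha.1 h12
      rw [← h6, ← smul_smul hg, smul_left_cancel_iff] at hu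
      exact absurd ((e.mem _).2 ⟨mul_mem (inv_mem ha.1) hb.1, u, by
        rw [mul_smul, hu, smul_smul (inv_mem hA), inv_smul_smul]⟩) h3
    · obtain ⟨u, hu⟩ := h10 b hb.1 h12
      rw [h11 u b hb hu, hu] at e3
      have h13 : (u * ε) • x = ε • x := by
        generalize a • b • x = q at e3 hz
        generalize b • x = p at e3 hz
        linear_combination (norm := module) e3 - (u : K) • hz
      rw [hu, (mul_eq_right₀ hε).1 (eq_of_smul_eq e.ne h13), one_smul]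
    · obtain ⟨u, hu⟩ := h10 _ (mul_mem ha.1 hb.1) h12
      rw [h11 u _ (mul_mem ha hb) hu, hu, mul_smul, haa] at e3
      exact absurd (hnot u (ε * ε) (by
        generalize a • b • x = q at e1 e2 e3
        generalize b • x = p at e1 e2 e3
        generalize a • x = w at e1 e2 e3 ⊢
        linear_combination (norm := module) ε • e3 + (u * α) • e2 - (u * β) • e1 + h5 • ((u : K) • w)))
        u.ne_zero
  intro c hc
  rcases h4 c hc with h12 | h12 | h12 | h12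
  · exact e.smul_eq h hg (one_mem _) (by rw [one_smul, hx]) (by rwa [inv_one, one_mul])
  · exact e.smul_eq h hg ha.1 h6 h12
  · exact e.smul_eq h hg hb.1 key h12
  · exact e.smul_eq h hg (mul_mem ha.1 hb.1)
      (by rw [mul_smul, h11 1 b hb (by rw [one_smul, key]), one_smul]) h12

theorem Fam.exists_eig [Finite V] {P : Finset ℕ} {M L : ℕ → Subgroup Γ} (h : Fam S P M)
    (hL : ∀ r ∈ P, Lag S r (M r) (L r)) (z : Module.End K V) (hz : z * z = 1)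
    (h1 : ∀ r ∈ P, ∀ l ∈ L r, ∀ v, l • z v = z (l • v)) :
    ∃ x : V, x ≠ 0 ∧ (∀ r ∈ P, Eig S (M r) (L r) x) ∧ ∃ ε : K, z x = ε • x := by
  obtain ⟨x, hx, h2⟩ := exists_common_eigen (insert z {f | ∃ r, ∃ hr : r ∈ P, ∃ l, ∃ hl : l ∈ L r,
      f = lin (S := S) ⟨l, (h.heis r hr).le_A ((hL r hr).le hl)⟩}) (by
      rintro _ (rfl | ⟨r, hr, a, ha, rfl⟩) _ (rfl | ⟨s, hs, b, hb, rfl⟩)
      · rfl
      · exact LinearMap.ext fun v => (h1 s hs b hb v).symm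
      · exact LinearMap.ext fun v => h1 r hr a ha v
      have h3 : a * b = b * a := by
        by_cases hrs : r = s
        · subst hrs
          exact (hL r hr).comm hb a ha
        · exact (h.comm r hr s hs hrs ((hL r hr).le ha) b ((hL s hs).le hb)).symm
      exact LinearMap.ext fun v => (mul_smul a b v).symm.trans
        ((congrArg (· • v) h3).trans (mul_smul b a v))) (by
      rintro _ (rfl | ⟨r, hr, a, ha, rfl⟩)
      · exact ⟨[1, -1], by simp [sub_mul, mul_add, hz]⟩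
      · exact (h.heis r hr).exists_list ((hL r hr).le ha) ((hL r hr).spl a ha))
  exact ⟨x, hx, fun r hr => (hL r hr).eig (h.heis r hr) hx fun l hl =>
    h2 _ (Or.inr ⟨r, hr, l, hl, rfl⟩), h2 z (Or.inl rfl)⟩

theorem Fam.exists_core [Finite Γ] [Finite K] [Finite V] [FaithfulSMul Γ V] {P : Finset ℕ}
    {M L : ℕ → Subgroup Γ} (h : Fam S P M) (hL : ∀ r ∈ P, Lag S r (M r) (L r)) :
    ∃ x y : V, x ≠ 0 ∧ (∀ r ∈ P, Eig S (M r) (L r) x) ∧ (∀ r ∈ P, y ∈ V0 (L r) x) ∧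
      ∀ g : Γ, g • x = x → g • y = y →
        g ∈ S.A ∧ ∀ r ∈ P, ∀ c ∈ Cz (M r) (L r), g • c • x = c • x := by
  obtain ⟨γ, hγ⟩ := exists_gen K
  have easy : ∀ x : V, ∀ r ∈ P, Eig S (M r) (L r) x → Cz (M r) (L r) ≤ L r → ∀ g ∈ S.A, g • x = x →
      ∀ c ∈ Cz (M r) (L r), g • c • x = c • x := fun x r hr e h1 g hg hx c hc =>
    e.smul_eq (h.heis r hr) hg (one_mem _) (by rw [one_smul, hx]) (by simpa using h1 hc)
  have hV : ∀ (x : V) (u : Kˣ) (a : Γ), (∀ r ∈ P, a ∈ centralizer (L r : Set Γ)) →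
      ∀ r ∈ P, (u : K) • a • x ∈ V0 (L r) x := fun x u a ha r hr => by
    rw [← S.ι_smul, ← mul_smul]
    exact smul_mem_V0 (mul_mem ((hL r hr).comm ((hL r hr).U_le (ι_mem u))) (ha r hr)) self_mem_V0
  by_cases h0 : ∀ r ∈ P, Cz (M r) (L r) ≤ L r
  · obtain ⟨x, hx, e, -⟩ := h.exists_eig hL 1 (mul_one _) fun _ _ _ _ _ => rfl
    refine ⟨x, _, hx, e, hV x γ 1 fun _ _ => one_mem _, fun g h1 h2 => ?_⟩
    have h3 : g ∈ S.A := by
      obtain ⟨δ, hδ⟩ := S.normal.conj_mem _ (ι_mem γ) g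
      refine mem_A_of_gen hγ (hδ ▸ congrArg _ (ι_eq_of_smul (S := S) hx ?_))
      rwa [hδ, mul_smul, mul_smul, inv_smul_eq_iff.2 h1.symm, S.ι_smul, ← one_smul Γ x]
    exact ⟨h3, fun r hr => easy x r hr (e r hr) (h0 r hr) g h3 h1⟩
  push Not at h0
  obtain ⟨r, hr, h0⟩ := h0
  obtain ⟨rfl, hK⟩ : r = 2 ∧ ¬ IsSquare (-1 : K) := by
    simpa using mt ((hL r hr).Cz_le (h.heis r hr)) h0
  have hH := h.heis 2 hr
  have hL2 := hL 2 hr
  obtain ⟨a₀, ha₀, ha₀'⟩ := SetLike.not_le_iff_exists.1 h0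
  obtain ⟨u, ha, h1⟩ := hL2.exists_norm hH ha₀ ha₀'
  have ha' : S.ι u * a₀ ∉ L 2 := by rwa [mul_mem_cancel_left (hL2.U_le (ι_mem u))]
  generalize S.ι u * a₀ = a at ha h1 ha'
  have hC : ∀ c ∈ Cz (M 2) (L 2), ∀ r ∈ P, c ∈ centralizer (L r : Set Γ) := fun c hc r hr' => by
    by_cases h2 : r = 2
    · exact h2 ▸ hc.2
    · exact centralizer_le (hL r hr').le (h.comm 2 hr r hr' (Ne.symm h2) hc.1)
  suffices hs : ∃ x : V, x ≠ 0 ∧ (∀ r ∈ P, Eig S (M r) (L r) x) ∧ ∀ g ∈ S.A, g • x = x →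
      g • a • x = a • x → ∀ c ∈ Cz (M 2) (L 2), g • c • x = c • x by
    obtain ⟨x, hx, e, h2⟩ := hs
    refine ⟨x, _, hx, e, hV x (γ ^ 2) a (hC a ha), fun g h3 h4 => ?_⟩
    obtain ⟨h5, h6⟩ := (e 2 hr).linear hH hK hγ ha h1 h3 h4
    refine ⟨h5, fun r hr' => ?_⟩
    by_cases h7 : r = 2
    · exact h7 ▸ h2 g h5 h3 h6
    · exact easy x r hr' (e r hr') ((hL r hr').Cz_le (h.heis r hr') (Or.inl h7)) g h5 h3
  by_cases h2 : ∀ c ∈ Cz (M 2) (L 2), c ∈ L 2 ∨ a⁻¹ * c ∈ L 2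
  · obtain ⟨x, hx, e, -⟩ := h.exists_eig hL 1 (mul_one _) fun _ _ _ _ _ => rfl
    refine ⟨x, hx, e, fun g hg h3 h4 c hc => (h2 c hc).elim (fun h5 => ?_) fun h5 =>
      (e 2 hr).smul_eq hH hg ha.1 h4 h5⟩
    exact (e 2 hr).smul_eq hH hg (one_mem _) (by rw [one_smul, h3]) (by simpa using h5)
  have hnorm : ∀ c ∈ Cz (M 2) (L 2), c ∉ L 2 → ∃ c' ∈ Cz (M 2) (L 2), c' ^ 2 = S.ι (-1) ∧
      ∀ m ∈ M 2, m⁻¹ * c' ∈ L 2 ↔ m⁻¹ * c ∈ L 2 := fun c hc h3 => by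
    obtain ⟨w, h4, h5⟩ := hL2.exists_norm hH hc h3
    exact ⟨_, h4, h5, fun m hm => by rw [← mul_assoc, ← ι_comm (hH.le_A (inv_mem hm)), mul_assoc,
      mul_mem_cancel_left (hL2.U_le (ι_mem w))]⟩
  push Not at h2
  obtain ⟨b₀, hb₀, hb₀', h2⟩ := h2
  obtain ⟨b, hb, h3, h4⟩ := hnorm b₀ hb₀ hb₀'
  have hb' : b ∉ L 2 := fun h5 => hb₀' (by simpa [h5] using h4 1 (one_mem _))
  rw [← h4 a ha.1] at h2
  obtain ⟨h5, h6⟩ := hL2.cm_eq hH ha hb h1 h3 h2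
  have h7 : ∀ c ∈ Cz (M 2) (L 2), c ∈ L 2 ∨ a⁻¹ * c ∈ L 2 ∨ b⁻¹ * c ∈ L 2 ∨
      (a * b)⁻¹ * c ∈ L 2 := fun c₀ hc₀ => by
    by_contra h7
    push Not at h7
    obtain ⟨c, hc, h8, h9⟩ := hnorm c₀ hc₀ h7.1
    have h10 := (hL2.cm_eq hH (mul_mem ha hb) hc h6 h8 (mt (h9 _ (mul_mem ha hb).1).1 h7.2.2.2)).1
    rw [hH.cm_mul_right hc.1 ha.1 hb.1, (hL2.cm_eq hH ha hc h1 h8 (mt (h9 _ ha.1).1 h7.2.1)).1,
      (hL2.cm_eq hH hb hc h3 h8 (mt (h9 _ hb.1).1 h7.2.2.1)).1] at h10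
    exact hK ⟨-1, by simpa using (congrArg Units.val h10).symm⟩
  obtain ⟨α, β, h8⟩ : ∃ α β : K, α ^ 2 + β ^ 2 = -1 := by
    have : NeZero (ringChar K) := ⟨CharP.ringChar_ne_zero_of_finite K⟩
    obtain ⟨α, β, h8⟩ := CharP.sq_add_sq K (ringChar K) (-1)
    exact ⟨α, β, by simpa using h8⟩
  have hA := hH.le_A ha.1
  have hB := hH.le_A hb.1
  obtain ⟨x, hx, e, ε, h9⟩ := h.exists_eig hL (α • lin (S := S) ⟨b, hB⟩ +
    β • lin (S := S) ⟨a * b, mul_mem hA hB⟩) (LinearMap.ext fun v => by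
      have haa : ∀ v : V, a • a • v = -v := fun v => by
        rw [← mul_smul, ← pow_two, h1, S.ι_smul]; simp
      have hbb : ∀ v : V, b • b • v = -v := fun v => by
        rw [← mul_smul, ← pow_two, h3, S.ι_smul]; simp
      have hba : ∀ v : V, b • a • v = -(a • b • v) := fun v => by
        rw [hH.smul_smul_eq hb.1 ha.1, h5]; simp
      change α • b • (α • b • v + β • (a * b) • v) + β • (a * b) • (α • b • v + β • (a * b) • v) = v
      simp only [mul_smul, smul_add, smul_smul hA, smul_smul hB, haa, hbb, hba, smul_neg, neg_neg]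
      generalize a • v = w
      linear_combination (norm := module) -(h8 • v)) fun r hr' l hl v => by
      have h9 := (h.heis r hr').le_A ((hL r hr').le hl)
      change l • (α • b • v + β • (a * b) • v) = α • b • l • v + β • (a * b) • l • v
      rw [smul_add, smul_smul h9, smul_smul h9, ← mul_smul l, ← mul_smul l, hC b hb r hr' l hl,
        hC _ (mul_mem ha hb) r hr' l hl, mul_smul b, mul_smul (a * b)]
  exact ⟨x, hx, e, fun g hg h10 h11 => hL2.quat hH (e 2 hr) ha hb ha' hb' h1 h3 h2 h7 h8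
    (by rw [← h9, ← mul_smul a]; rfl) hg h10 h11⟩

end Cfsg.Lib.Base
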