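import Cfsg.Agent.Base.Loc

/-!
# Maximal split abelian subgroups and common eigenvectors
-/

set_option autoImplicit false
set_option linter.unusedSectionVars false

namespace Cfsg.Lib.Base

open Subgroup Setup
open scoped commutatorElement

universe u

theorem exists_common_eigen {K V : Type*} [Field K] [AddCommGroup V] [Module K V] [Finite V]
    [Nontrivial V] (T : Set (Module.End K V)) (hc : ∀ f ∈ T, ∀ g ∈ T, f * g = g * f)
    (hs : ∀ f ∈ T, ∃ l : List K, (l.map fun c => f - c • 1).prod = 0) :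
    ∃ x : V, x ≠ 0 ∧ ∀ f ∈ T, ∃ c : K, f x = c • x := by
  obtain ⟨W, -, hW⟩ := exists_minimal_le_of_wellFoundedLT
    (fun W : Submodule K V => W ≠ ⊥ ∧ ∀ f ∈ T, ∀ v ∈ W, f v ∈ W) ⊤ ⟨top_ne_bot, fun _ _ _ _ => trivial⟩
  obtain ⟨x, hx, h0⟩ := (Submodule.ne_bot_iff W).1 hW.1.1
  refine ⟨x, h0, fun f hf => by_contra fun h1 => ?_⟩
  obtain ⟨l, hl⟩ := hs f hf
  have h2 : ∀ c : K, ∀ v ∈ W, (f - c • 1) v = 0 → v = 0 := fun c v hv h2 => by_contra fun h3 => by
    have h4 := hW.2 (y := W ⊓ LinearMap.ker (f - c • 1)) ⟨(Submodule.ne_bot_iff _).2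
      ⟨v, ⟨hv, h2⟩, h3⟩, fun g hg w hw => ⟨hW.1.2 g hg w hw.1, by
        have h5 := congrArg g (LinearMap.mem_ker.1 hw.2)
        have h6 := LinearMap.congr_fun (hc f hf g hg) w
        simp only [Module.End.mul_apply] at h6
        simpa [h6] using h5⟩⟩ inf_le_left hx
    exact h1 ⟨c, by simpa [sub_eq_zero] using h4.2⟩
  have h3 : ∀ l : List K, ∀ v ∈ W, (l.map fun c => f - c • 1).prod v ∈ W ∧
      ((l.map fun c => f - c • 1).prod v = 0 → v = 0) := fun l v hv => by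
    induction l with
    | nil => exact ⟨hv, id⟩
    | cons c l ih =>
      rw [List.map_cons, List.prod_cons, Module.End.mul_apply]
      exact ⟨W.sub_mem (hW.1.2 f hf _ ih.1) (W.smul_mem c ih.1), fun h => ih.2 (h2 c _ ih.1 h)⟩
  exact h0 ((h3 l x hx).2 (by rw [hl]; rfl))

variable {K V : Type*} {Γ : Type u} [Field K] [AddCommGroup V] [Module K V] [Group Γ]
  [DistribMulAction Γ V] [Nontrivial V] {S : Setup K V Γ} {r : ℕ} {M L : Subgroup Γ} {x : V}

open Polynomial in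
theorem Heis.exists_list (h : Heis S r M) {a : Γ} (ha : a ∈ M) (hs : Spl S r a) :
    ∃ l : List K, (l.map fun c => lin (S := S) ⟨a, h.le_A ha⟩ - c • 1).prod = 0 := by
  by_cases h1 : a ∈ S.U
  · obtain ⟨u, rfl⟩ := h1
    exact ⟨[u], LinearMap.ext fun v => by simp [lin, S.ι_smul]⟩
  obtain ⟨b, hb, h2⟩ : ∃ b ∈ M, S.cm a b ≠ 1 := by
    by_contra h2
    push Not at h2
    exact h1 (h.mem_U ha h2)
  have := Fact.mk h.prime
  have h3 : IsPrimitiveRoot (S.cm a b : K) r := IsPrimitiveRoot.coe_units_iff.2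
    (orderOf_eq_prime (h.cm_pow ha hb) h2 ▸ IsPrimitiveRoot.orderOf _)
  obtain ⟨u, hu⟩ := hs
  have h4 := congrArg (aeval (lin (S := S) ⟨a, h.le_A ha⟩))
    (X_pow_sub_C_eq_prod h3 h.prime.pos (rfl : (u : K) ^ r = _))
  refine ⟨(List.range r).map fun i => (S.cm a b : K) ^ i * u, ?_⟩
  rw [Finset.prod_eq_multiset_prod, Finset.range_val, Multiset.range, Multiset.map_coe,
    Multiset.prod_coe, map_list_prod, List.map_map] at h4
  rw [List.map_map]
  refine Eq.trans (congrArg List.prod (List.map_congr_left fun i _ => ?_)) (h4.symm.trans ?_)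
  · simp only [Function.comp, map_sub, aeval_X, aeval_C, Algebra.algebraMap_eq_smul_one]
  · have h5 : ∀ n : ℕ, ∀ v, (lin (S := S) ⟨a, h.le_A ha⟩ ^ n) v = a ^ n • v := fun n v => by
      induction n with
      | zero => simp
      | succ n ih => rw [pow_succ', pow_succ', Module.End.mul_apply, ih, mul_smul]; rfl
    ext v
    rw [map_sub, map_pow, aeval_X, aeval_C, LinearMap.sub_apply, h5, hu, S.ι_smul,
      Module.algebraMap_end_apply, Units.val_pow_eq_pow_val, sub_self, LinearMap.zero_apply]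

/-- A maximal split abelian subgroup. -/
structure Lag (S : Setup K V Γ) (r : ℕ) (M L : Subgroup Γ) : Prop where
  U_le : S.U ≤ L
  le : L ≤ M
  comm : L ≤ centralizer (L : Set Γ)
  spl : ∀ l ∈ L, Spl S r l
  max : ∀ c ∈ Cz M L, Spl S r c → c ∈ L

theorem Spl.pow {a : Γ} (h : Spl S r a) (n : ℕ) : Spl S r (a ^ n) := by
  obtain ⟨u, hu⟩ := h
  exact ⟨u ^ n, by rw [← pow_mul, mul_comm, pow_mul, hu, ← map_pow, ← pow_mul, mul_comm, pow_mul]⟩

theorem Heis.exists_lag [Finite Γ] (h : Heis S r M) {s : Γ} (hs : s ∈ M) (h1 : Spl S r s) :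
    ∃ L, Lag S r M L ∧ s ∈ L := by
  let P : Subgroup Γ → Prop := fun L =>
    S.U ≤ L ∧ L ≤ M ∧ L ≤ centralizer (L : Set Γ) ∧ ∀ l ∈ L, Spl S r l
  have key : ∀ L, P L → ∀ c ∈ Cz M L, Spl S r c → P (L ⊔ zpowers c) := fun L hL c hc h2 => by
    have h3 : ∀ y ∈ L ⊔ zpowers c, ∃ l ∈ L, ∃ n : ℕ, y = l * c ^ n := fun y hy => by
      have h4 : y ∈ ((L ⊔ zpowers c : Subgroup Γ) : Set Γ) := hy
      rw [coe_mul_of_right_le_normalizer_left _ _ (zpowers_le.2 (centralizer_le_normalizer _ hc.2))]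
        at h4
      obtain ⟨l, hl, _, h5, rfl⟩ := h4
      obtain ⟨n, rfl⟩ := mem_powers_iff_mem_zpowers.2 h5
      exact ⟨l, hl, n, rfl⟩
    refine ⟨hL.1.trans le_sup_left, sup_le hL.2.1 (zpowers_le.2 hc.1), fun y hy z hz => ?_,
      fun y hy => ?_⟩
    · obtain ⟨l, hl, n, rfl⟩ := h3 y hy
      obtain ⟨l', hl', n', rfl⟩ := h3 z hz
      have h4 : Commute l' l := hL.2.2.1 hl l' hl'
      have h5 : Commute l c := hc.2 l hl
      have h6 : Commute l' c := hc.2 l' hl'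
      exact ((h4.mul_right (h6.pow_right n)).mul_left ((h5.symm.pow_left n').mul_right
        ((Commute.refl c).pow_pow n' n))).eq
    · obtain ⟨l, hl, n, rfl⟩ := h3 y hy
      exact (hL.2.2.2 l hl).mul (h2.pow n) (Commute.pow_right (hc.2 l hl) n)
  obtain ⟨L, h2, hL⟩ := Finite.exists_le_maximal (key S.U ⟨le_rfl, h.U_le, U_le_A,
    fun _ => spl_of_mem_U⟩ s ⟨hs, h.le_A hs⟩ h1)
  exact ⟨L, ⟨hL.1.1, hL.1.2.1, hL.1.2.2.1, hL.1.2.2.2, fun c hc h3 =>
    hL.2 (key L hL.1 c hc h3) le_sup_left (mem_sup_right (mem_zpowers c))⟩,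
    h2 (mem_sup_right (mem_zpowers s))⟩

theorem Heis.spl_of_smul (h : Heis S r M) {m : Γ} (hm : m ∈ M) (hx : x ≠ 0) {c : K}
    (hc : m • x = c • x) : Spl S r m := by
  obtain ⟨u, hu⟩ := h.pow m hm
  have h1 : ∀ n : ℕ, m ^ n • x = c ^ n • x := fun n => by
    induction n with
    | zero => simp
    | succ n ih => rw [pow_succ', mul_smul, ih, smul_smul (h.le_A hm), hc, ← mul_smul, pow_succ]
  have h2 : c ≠ 0 := by
    rintro rfl
    exact hx ((smul_eq_zero_iff_eq m).1 (hc.trans (zero_smul _ _)))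
  refine ⟨Units.mk0 c h2, hu ▸ congrArg _ (Units.ext (eq_of_smul_eq hx ?_))⟩
  rw [← S.ι_smul, hu, h1]; rfl

theorem Lag.eig (h : Heis S r M) (hL : Lag S r M L) (hx : x ≠ 0)
    (h1 : ∀ l ∈ L, ∃ c : K, l • x = c • x) : Eig S M L x := by
  refine ⟨hx, fun m => ⟨fun hm => ⟨hL.le hm, h1 m hm⟩, fun ⟨hm, c, hc⟩ =>
    hL.max m ⟨hm, fun l hl => ?_⟩ (h.spl_of_smul hm hx hc)⟩⟩
  obtain ⟨d, hd⟩ := h1 l hl
  have h2 := h.smul_smul_eq (hL.le hl) hm x
  have h3 : l • m • x = m • l • x := by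
    rw [hc, hd, smul_smul (h.le_A (hL.le hl)), smul_smul (h.le_A hm), hc, hd, smul_comm]
  refine (h.cm_eq_one (hL.le hl) hm).1 (Units.ext (eq_of_smul_eq (v := m • l • x) ?_ ?_))
  · rwa [Ne, smul_eq_zero_iff_eq, smul_eq_zero_iff_eq]
  · rw [← h2, h3, Units.val_one, one_smul]

theorem Lag.exists_eig [Finite V] (h : Heis S r M) (hL : Lag S r M L) : ∃ x : V, Eig S M L x := by
  obtain ⟨x, hx, h1⟩ := exists_common_eigen
    {f | ∃ l, ∃ hl : l ∈ L, f = lin (S := S) ⟨l, h.le_A (hL.le hl)⟩} (by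
      rintro _ ⟨a, ha, rfl⟩ _ ⟨b, hb, rfl⟩
      exact LinearMap.ext fun v => (mul_smul a b v).symm.trans
        ((congrArg (· • v) (hL.comm hb a ha)).trans (mul_smul b a v))) (by
      rintro _ ⟨a, ha, rfl⟩
      exact h.exists_list (hL.le ha) (hL.spl a ha))
  exact ⟨x, hL.eig h hx fun l hl => h1 _ ⟨l, hl, rfl⟩⟩

theorem Lag.Cz_le [Finite Γ] [Finite K] (h : Heis S r M) (hL : Lag S r M L)
    (hr : r ≠ 2 ∨ IsSquare (-1 : K)) : Cz M L ≤ L := fun c hc => hL.max c hc (h.spl hr hc.1)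

end Cfsg.Lib.Base
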