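import Cfsg.Agent.Base.Defs

/-!
# Rigid colourings of finite vector spaces
-/

set_option autoImplicit false

namespace Cfsg.Lib.Base

section transport

variable {H Ω : Type*} [Group H] [AddCommGroup Ω] [DistribMulAction H Ω]

theorem holes_comp {W C : Type*} [AddCommGroup W] (e : Ω ≃+ W) (col : W → Option C) :
    holes (col ∘ e) = holes col :=
  Nat.card_congr (e.toEquiv.subtypeEquiv fun v => by simp)

theorem holes_le {W C ι : Type*} [Zero W] [Finite ι] (col : W → Option C) (f : ι → W)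
    (h : ∀ w, w ≠ 0 → col w = none → ∃ i, f i = w) : holes col ≤ Nat.card ι := by
  choose k hk using fun w : {v : W // v ≠ 0 ∧ col v = none} => h w.1 w.2.1 w.2.2
  exact Nat.card_le_card_of_injective k fun a b hab => Subtype.ext (by rw [← hk a, hab, hk b])

theorem rigid_comp_pow {W C : Type*} [AddCommGroup W] (e : Ω ≃+ W) (col : W → C)
    (h : ∀ f : W ≃+ W, (∀ w, w ≠ 0 → col (f w) = col w) → ∀ w, f (f w) = w) (g : H)
    (hg : ∀ v : Ω, v ≠ 0 → (col ∘ e) (g • v) = (col ∘ e) v) (v : Ω) : g • g • v = v := by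
  have := h (e.symm.trans ((DistribMulAction.toAddEquiv Ω g).trans e))
    (fun w hw => by simpa using hg (e.symm w) (by simpa using hw)) (e v)
  simpa using this

theorem rigid_comp {W C : Type*} [AddCommGroup W] (e : Ω ≃+ W) (col : W → C)
    (h : ∀ f : W ≃+ W, (∀ w, w ≠ 0 → col (f w) = col w) → ∀ w, f w = w) :
    Rigid H (col ∘ e) := fun g hg v => by
  have := h (e.symm.trans ((DistribMulAction.toAddEquiv Ω g).trans e))
    (fun w hw => by simpa using hg (e.symm w) (by simpa using hw)) (e v)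
  simpa using this

theorem smul_eq_of_odd {X : Type*} [MulAction H X] (hH : Odd (Nat.card H)) {g : H} {v : X}
    (h : g • g • v = v) : g • v = v := by
  obtain ⟨k, hk⟩ := hH
  have h2 : g ^ 2 ∈ MulAction.stabilizer H v := by rwa [MulAction.mem_stabilizer_iff, sq, mul_smul]
  have h3 := (MulAction.stabilizer H v).pow_mem h2 (k + 1)
  rwa [← pow_mul, show 2 * (k + 1) = Nat.card H + 1 by omega, pow_succ, pow_card_eq_one', one_mul]
    at h3

theorem exists_coords' [Finite Ω] (r : ℕ) [Fact r.Prime] [Module (ZMod r) Ω] :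
    ∃ d : ℕ, Nonempty (Ω ≃+ (Fin d → ZMod r)) ∧ Nat.card Ω = r ^ d := by
  let e := (Module.finBasis (ZMod r) Ω).equivFun
  exact ⟨_, ⟨e.toAddEquiv⟩, by rw [Nat.card_congr e.toEquiv]; simp⟩

theorem exists_coords [Finite Ω] {r : ℕ} [Fact r.Prime] (h : ∀ v : Ω, r • v = 0) :
    ∃ d : ℕ, Nonempty (Ω ≃+ (Fin d → ZMod r)) ∧ Nat.card Ω = r ^ d :=
  @exists_coords' Ω _ _ r _ (AddCommGroup.zmodModule h)

end transport

section coords

variable {d : ℕ}

/-- standard basis vector -/
def E (r : ℕ) (i : Fin d) : Fin d → ZMod r := Pi.single i 1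

variable {r : ℕ}

/-- `w = e_i + c e_{i+1}` with `i + 1 < m` -/
def Edge (m : ℕ) (c : ZMod r) (w : Fin d → ZMod r) : Prop :=
  ∃ i j : Fin d, (j : ℕ) = i + 1 ∧ (j : ℕ) < m ∧ w = E r i + c • E r j

variable [Fact r.Prime]

theorem E_ne_zero (i : Fin d) : E r i ≠ 0 := fun h => by
  simpa [E] using congrFun h i

theorem E_inj {i j : Fin d} (h : E r i = E r j) : i = j := by
  by_contra hn
  simpa [E, Pi.single_apply, hn] using congrFun h i

theorem eq_self_of_E (f : (Fin d → ZMod r) →+ (Fin d → ZMod r)) (h : ∀ i, f (E r i) = E r i)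
    (w : Fin d → ZMod r) : f w = w := by
  have : f.toZModLinearMap r = LinearMap.id :=
    (Pi.basisFun (ZMod r) (Fin d)).ext fun i => by simpa [E] using h i
  exact LinearMap.congr_fun this w

theorem pair_ne_zero {a b : Fin d} (hab : a ≠ b) (c : ZMod r) : E r a + c • E r b ≠ 0 := fun h => by
  simpa [E, Pi.single_apply, hab] using congrFun h a

theorem pair_ne_E {a b k : Fin d} (hab : a ≠ b) {c : ZMod r} (hc : c ≠ 0) :
    E r a + c • E r b ≠ E r k := fun h => by
  have h1 := congrFun h a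
  have h2 := congrFun h b
  by_cases hk : k = a
  · subst hk; simp [E, Pi.single_apply, hab, hab.symm, hc] at h2
  · simp [E, Pi.single_apply, hab, Ne.symm hk] at h1

theorem pair_ne_neg_E (h2 : (1 : ZMod r) ≠ -1) {a b k : Fin d} (hab : a ≠ b) (c : ZMod r) :
    E r a + c • E r b ≠ -E r k := fun h => by
  have h1 := congrFun h a
  by_cases hk : a = k
  · subst hk; simp [E, Pi.single_apply, hab, h2] at h1
  · simp [E, Pi.single_apply, hab, hk] at h1

theorem E_ne_neg_E (h2 : (1 : ZMod r) ≠ -1) {a k : Fin d} : E r a ≠ -E r k :=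
  fun h => by
  have h1 := congrFun h a
  by_cases hk : a = k
  · subst hk; simp [E, h2] at h1
  · simp [E, Pi.single_apply, hk] at h1

theorem pair_eq_pair {a b i j : Fin d} (hab : a ≠ b) (hij : i ≠ j) {c : ZMod r} (hc : c ≠ 0)
    (h : E r a + c • E r b = E r i + c • E r j) : (a = i ∧ b = j) ∨ (c = 1 ∧ a = j ∧ b = i) := by
  have h1 := congrFun h a
  have h2 := congrFun h b
  by_cases hai : a = i
  · subst hai
    by_cases hbj : b = j
    · exact Or.inl ⟨rfl, hbj⟩
    · simp [E, Pi.single_apply, hab.symm, hbj, hc] at h2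
  · by_cases haj : a = j
    · subst haj
      by_cases hbi : b = i
      · subst hbi
        refine Or.inr ⟨?_, rfl, rfl⟩
        simpa [E, Pi.single_apply, hab.symm] using h2
      · simp [E, Pi.single_apply, hab.symm, hbi, hc] at h2
    · simp [E, Pi.single_apply, hab, hai, haj] at h1

theorem pair_ne_neg_pair (h2 : (1 : ZMod r) ≠ -1) {a b i j : Fin d} (hab : a ≠ b) (hij : i ≠ j)
    {c : ZMod r} (hc : 1 ≠ -c) : E r a + c • E r b ≠ -(E r i + c • E r j) := fun h => by
  have h1 := congrFun h a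
  by_cases hai : a = i
  · subst hai; simp [E, Pi.single_apply, hab, hij, h2] at h1
  · by_cases haj : a = j
    · subst haj; simp [E, Pi.single_apply, hab, hai, hc] at h1
    · simp [E, Pi.single_apply, hab, hai, haj] at h1

theorem Edge.ne_zero {m : ℕ} {c : ZMod r} {w : Fin d → ZMod r} (h : Edge m c w) : w ≠ 0 := by
  obtain ⟨i, j, h1, -, rfl⟩ := h
  exact pair_ne_zero (fun h => by subst h; omega) c

theorem Edge.ne_E {m : ℕ} {c : ZMod r} (hc : c ≠ 0) {k : Fin d} : ¬ Edge m c (E r k) := by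
  rintro ⟨i, j, h1, -, h⟩
  exact pair_ne_E (fun h => by subst h; omega) hc h.symm

theorem Edge.ne_neg_E (h2 : (1 : ZMod r) ≠ -1) {m : ℕ} {c : ZMod r} {k : Fin d} :
    ¬ Edge m c (-E r k) := by
  rintro ⟨i, j, h1, -, h⟩
  exact pair_ne_neg_E h2 (fun h => by subst h; omega) c h.symm

omit [Fact r.Prime] in
theorem path_dir (σ : Fin d → Fin d) (h : ∀ i j : Fin d, (j : ℕ) = i + 1 → (σ j : ℕ) = σ i + 1)
    (i : Fin d) : σ i = i := by
  have h0 : 0 < d := i.pos
  have key : ∀ (k : ℕ) (hk : k < d), (σ ⟨k, hk⟩ : ℕ) = σ ⟨0, h0⟩ + k := fun k => by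
    induction k with
    | zero => simp
    | succ k ih => intro hk; rw [h ⟨k, by omega⟩ ⟨k + 1, hk⟩ rfl, ih, add_assoc]
  have h1 := key (d - 1) (by omega)
  have h2 := (σ ⟨d - 1, by omega⟩).2
  have h3 := key i i.2
  exact Fin.ext (by simp only [Fin.eta] at h3; omega)

omit [Fact r.Prime] in
theorem path_und {m : ℕ} (σ : Fin d → Fin d) (hσ : Function.Injective σ)
    (h : ∀ i j : Fin d, (j : ℕ) = i + 1 → (j : ℕ) < m → (σ j : ℕ) = σ i + 1 ∨ (σ i : ℕ) = σ j + 1)
    (h0 : ∀ i : Fin d, (i : ℕ) = 0 → σ i = i) (i : Fin d) (hi : (i : ℕ) < m) : σ i = i := by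
  obtain ⟨k, hk⟩ := i
  induction k using Nat.strong_induction_on with
  | _ k ih =>
    rcases k with _ | k
    · exact h0 _ rfl
    have e1 := congrArg Fin.val (ih k (by omega) (by omega) (by simp at hi ⊢; omega))
    rcases h ⟨k, by omega⟩ ⟨k + 1, hk⟩ rfl hi with h1 | h1
    · exact Fin.ext (by simp only at e1 h1 ⊢; omega)
    · simp only at e1 h1
      have e2 := ih (k - 1) (by omega) (by omega) (by simp at hi ⊢; omega)
      have := hσ (e2.trans (Fin.ext (by simp only; omega) : _ = σ ⟨k + 1, hk⟩))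
      simp only [Fin.mk.injEq] at this
      omega

theorem holes_edge_le (m : ℕ) (c : ZMod r) :
    ∃ f : Fin (m - 1) → Fin d → ZMod r, ∀ w, Edge m c w → ∃ i, f i = w := by
  refine ⟨fun i => if h : (i : ℕ) + 1 < d then E r ⟨i, by omega⟩ + c • E r ⟨i + 1, h⟩ else 0, ?_⟩
  rintro w ⟨i, j, h1, h2, rfl⟩
  refine ⟨⟨i, by omega⟩, ?_⟩
  have : (i : ℕ) + 1 < d := h1 ▸ j.2
  simp only [this, dite_true]
  congr 3
  exact Fin.ext h1.symm

/-- basis vectors and `±(e_i + c e_{i+1})` uncoloured -/
theorem pm_perm (h2 : (1 : ZMod r) ≠ -1) {m : ℕ} {c : ZMod r} (hc : c ≠ 0) (hc' : 1 ≠ -c)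
    (f : (Fin d → ZMod r) ≃+ (Fin d → ZMod r))
    (hf : ∀ w, w ≠ 0 → (((∃ i, f w = E r i) ∨ Edge m c (f w) ∨ Edge m c (-f w)) ↔
      ((∃ i, w = E r i) ∨ Edge m c w ∨ Edge m c (-w)))) :
    ∃ σ : Fin d → Fin d, Function.Injective σ ∧ (∀ i, f (E r i) = E r (σ i)) ∧
      ∀ i j : Fin d, (j : ℕ) = i + 1 → (j : ℕ) < m → Edge m c (E r (σ i) + c • E r (σ j)) := by
  have h1 : ∀ i, ∃ k, f (E r i) = E r k := fun i => by
    have a1 := (hf (E r i) (E_ne_zero i)).2 (Or.inl ⟨i, rfl⟩)
    have a2 := (hf (-E r i) (neg_ne_zero.2 (E_ne_zero i))).1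
    rw [map_neg, neg_neg, neg_neg] at a2
    have a3 : ¬ ((∃ k, -E r i = E r k) ∨ Edge m c (-E r i) ∨ Edge m c (E r i)) := by
      rintro (⟨k, hk⟩ | h | h)
      · exact E_ne_neg_E h2 hk.symm
      · exact Edge.ne_neg_E h2 h
      · exact Edge.ne_E hc h
    rcases a1 with h | h | h
    · exact h
    · exact (a3 (a2 (Or.inr (Or.inr h)))).elim
    · exact (a3 (a2 (Or.inr (Or.inl h)))).elim
  choose σ hσ using h1
  have hi : Function.Injective σ := fun i j h => E_inj (f.injective (by rw [hσ, hσ, h]))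
  refine ⟨σ, hi, hσ, fun i j hj hm => ?_⟩
  have hij : i ≠ j := fun h => by subst h; omega
  have e : Edge m c (E r i + c • E r j) := ⟨i, j, hj, hm, rfl⟩
  have a1 := (hf _ e.ne_zero).2 (Or.inr (Or.inl e))
  rw [map_add, ZMod.map_smul, hσ, hσ] at a1
  rcases a1 with ⟨k, hk⟩ | h | ⟨a, b, hb, -, h⟩
  · exact (pair_ne_E (hi.ne hij) hc hk).elim
  · exact h
  · exact (pair_ne_neg_pair h2 (hi.ne hij) (fun h => by subst h; omega) hc'
      (neg_eq_iff_eq_neg.1 h)).elim

open Classical in
theorem pm_holes (m : ℕ) (c : ZMod r) :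
    holes (fun w : Fin d → ZMod r => if (∃ i, w = E r i) ∨ Edge m c w ∨ Edge m c (-w) then none
      else some (0 : Fin 1)) ≤ d + 2 * (m - 1) := by
  obtain ⟨f, hf⟩ := holes_edge_le (d := d) m c
  refine (holes_le _ (Sum.elim (E r) (Sum.elim f (-f))) fun w _ hw => ?_).trans (by simp [two_mul])
  simp only [ite_eq_left_iff, reduceCtorEq, imp_false, not_not] at hw
  rcases hw with ⟨i, rfl⟩ | h | h
  · exact ⟨.inl i, rfl⟩
  · obtain ⟨i, hi⟩ := hf _ h
    exact ⟨.inr (.inl i), hi⟩
  · obtain ⟨i, hi⟩ := hf _ h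
    exact ⟨.inr (.inr i), by simp [hi]⟩

theorem ite_none_iff {C : Type*} {p q : Prop} [Decidable p] [Decidable q] {a : C}
    (h : (if p then none else some a) = if q then none else some a) : p ↔ q := by
  by_cases hp : p <;> by_cases hq : q <;> simp_all

theorem one_ne_neg_one_of_ne_two (hr : r ≠ 2) : (1 : ZMod r) ≠ -1 := fun h => by
  have : ((2 : ℕ) : ZMod r) = 0 := by push_cast; linear_combination h
  rw [ZMod.natCast_eq_zero_iff] at this
  exact hr ((Nat.prime_dvd_prime_iff_eq Fact.out Nat.prime_two).1 this)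

end coords

variable {H Ω : Type*} [Group H] [AddCommGroup Ω] [Finite Ω] [DistribMulAction H Ω]

open Classical in
theorem R5 {r : ℕ} [Fact r.Prime] (hr : 5 ≤ r) (h : ∀ v : Ω, r • v = 0) :
    ∃ col : Ω → Option (Fin 1), Rigid H col ∧ 4 * holes col < Nat.card Ω := by
  obtain ⟨d, ⟨e⟩, hd⟩ := exists_coords h
  have h2 := one_ne_neg_one_of_ne_two (r := r) (by omega)
  have hk : ∀ k : ℕ, 0 < k → k < 5 → (k : ZMod r) ≠ 0 := fun k h0 h5 hk => by
    rw [ZMod.natCast_eq_zero_iff] at hk
    have := Nat.le_of_dvd h0 hk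
    omega
  have hc : (2 : ZMod r) ≠ 0 := by exact_mod_cast hk 2 (by norm_num) (by norm_num)
  have hc' : (1 : ZMod r) ≠ -2 := fun h => hk 3 (by norm_num) (by norm_num)
    (by push_cast; linear_combination h)
  refine ⟨(fun w : Fin d → ZMod r => if (∃ i, w = E r i) ∨ Edge d 2 w ∨ Edge d 2 (-w) then none
      else some (0 : Fin 1)) ∘ e, rigid_comp e _ fun f hf => ?_, ?_⟩
  · obtain ⟨σ, hi, h1, h3⟩ := pm_perm h2 hc hc' f fun w hw => ite_none_iff (hf w hw)
    have : ∀ i, σ i = i := path_dir σ fun i j hj => by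
      obtain ⟨a, b, hb, -, hab⟩ := h3 i j hj j.2
      rcases pair_eq_pair (hi.ne fun h => by subst h; omega) (fun h => by subst h; omega) hc hab
        with ⟨rfl, rfl⟩ | ⟨h1, -⟩
      · exact hb
      · exact (one_ne_zero (by linear_combination h1 : (1 : ZMod r) = 0)).elim
    exact eq_self_of_E f.toAddMonoidHom fun i => by simp [h1, this]
  · rw [holes_comp, hd]
    refine (Nat.mul_le_mul_left 4 (pm_holes d (2 : ZMod r))).trans_lt
      (lt_of_lt_of_le ?_ (Nat.pow_le_pow_left hr d))
    rcases d with _ | d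
    · simp
    · clear * -
      induction d with
      | zero => simp
      | succ d ih => rw [pow_succ]; omega

open Classical in
theorem Rodd2 {r : ℕ} [Fact r.Prime] (hr : r ≠ 2) (h : ∀ v : Ω, r • v = 0) :
    ∃ col : Ω → Option (Fin 2), Rigid H col ∧ 4 * holes col < Nat.card Ω := by
  obtain ⟨d, ⟨e⟩, hd⟩ := exists_coords h
  have h2 := one_ne_neg_one_of_ne_two hr
  have hc : (-1 : ZMod r) ≠ 0 := neg_ne_zero.2 one_ne_zero
  refine ⟨(fun w : Fin d → ZMod r => if Edge d (-1) w then none else if ∃ i, w = E r i then some 0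
      else some (1 : Fin 2)) ∘ e, rigid_comp e _ fun f hf => ?_, ?_⟩
  · have h1 : ∀ i, ∃ k, f (E r i) = E r k := fun i => by
      have := hf _ (E_ne_zero i)
      rw [if_neg (Edge.ne_E hc (k := i)), if_pos (c := ∃ k, E r i = E r k) ⟨i, rfl⟩] at this
      by_contra hn
      rw [if_neg hn] at this
      split_ifs at this
      simp at this
    choose σ hσ using h1
    have hi : Function.Injective σ := fun i j h => E_inj (f.injective (by rw [hσ, hσ, h]))
    have : ∀ i, σ i = i := path_dir σ fun i j hj => by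
      have e : Edge d (-1 : ZMod r) (E r i + (-1 : ZMod r) • E r j) := ⟨i, j, hj, j.2, rfl⟩
      have a1 := hf _ e.ne_zero
      rw [if_pos e, map_add, ZMod.map_smul, hσ, hσ] at a1
      obtain ⟨a, b, hb, -, hab⟩ : Edge d (-1 : ZMod r) (E r (σ i) + (-1 : ZMod r) • E r (σ j)) := by
        by_contra hn
        rw [if_neg hn] at a1
        split_ifs at a1
      rcases pair_eq_pair (hi.ne fun h => by subst h; omega) (fun h => by subst h; omega) hc hab
        with ⟨rfl, rfl⟩ | ⟨h1, -⟩
      · exact hb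
      · exact (h2 h1.symm).elim
    exact eq_self_of_E f.toAddMonoidHom fun i => by simp [hσ, this]
  · rw [holes_comp, hd]
    obtain ⟨f, hf⟩ := holes_edge_le (d := d) d (-1 : ZMod r)
    have h3 : 3 ≤ r := by have := (Fact.out : r.Prime).two_le; omega
    refine (Nat.mul_le_mul_left 4 (holes_le _ f fun w _ hw => hf w ?_)).trans_lt
      (lt_of_lt_of_le ?_ (Nat.pow_le_pow_left h3 d))
    · by_contra hn
      rw [if_neg hn] at hw
      split_ifs at hw
    · rw [Nat.card_eq_fintype_card, Fintype.card_fin]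
      rcases d with _ | d
      · simp
      · clear * -
        induction d with
        | zero => simp
        | succ d ih => rw [pow_succ]; have := Nat.one_le_pow (d + 1) 3 (by norm_num); omega

open Classical in
theorem R3odd (hH : Odd (Nat.card H)) (h : ∀ v : Ω, 3 • v = 0) :
    ∃ col : Ω → Option (Fin 1), Rigid H col ∧ 4 * holes col < Nat.card Ω := by
  obtain ⟨d, ⟨e⟩, hd⟩ := exists_coords h
  have h2 : (1 : ZMod 3) ≠ -1 := by decide
  by_cases hd1 : d = 1
  · subst hd1
    refine ⟨(fun _ : Fin 1 → ZMod 3 => some (0 : Fin 1)) ∘ e, fun g hg v =>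
      smul_eq_of_odd hH (rigid_comp_pow e _ (fun f _ => ?_) g hg v), ?_⟩
    · refine eq_self_of_E (f.trans f).toAddMonoidHom fun i => ?_
      have a1 : f (E 3 i) ≠ 0 := by simpa using E_ne_zero i
      have a2 : ∀ (i : Fin 1) (w : Fin 1 → ZMod 3), w ≠ 0 → w = E 3 i ∨ w = -E 3 i := by decide
      rcases a2 i _ a1 with a | a <;> simp [a]
    · rw [hd]; simp [holes]
  refine ⟨(fun w : Fin d → ZMod 3 => if (∃ i, w = E 3 i) ∨ Edge (d - 1) 1 w ∨ Edge (d - 1) 1 (-w)
      then none else some (0 : Fin 1)) ∘ e, fun g hg v =>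
      smul_eq_of_odd hH (rigid_comp_pow e _ (fun f hf => ?_) g hg v), ?_⟩
  · obtain ⟨σ, hi, h1, h3⟩ := pm_perm h2 one_ne_zero h2 f fun w hw => ite_none_iff (hf w hw)
    have adj : ∀ i j : Fin d, (j : ℕ) = i + 1 → (j : ℕ) < d - 1 →
        ((σ j : ℕ) = σ i + 1 ∧ (σ j : ℕ) < d - 1) ∨ ((σ i : ℕ) = σ j + 1 ∧ (σ i : ℕ) < d - 1) :=
      fun i j hj hm => by
      obtain ⟨a, b, hb, hb', hab⟩ := h3 i j hj hm
      rcases pair_eq_pair (hi.ne fun h => by subst h; omega) (fun h => by subst h; omega)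
        one_ne_zero hab with ⟨rfl, rfl⟩ | ⟨-, rfl, rfl⟩
      · exact Or.inl ⟨hb, hb'⟩
      · exact Or.inr ⟨hb, hb'⟩
    have : ∀ i, σ (σ i) = i := by
      have hs := Finite.injective_iff_surjective.1 hi
      rcases d with _ | _ | _ | d
      · exact fun i => i.elim0
      · simp at hd1
      · clear * - hi
        revert σ
        decide
      simp only [Nat.add_sub_cancel] at adj
      have lt : ∀ i : Fin (d + 3), (i : ℕ) < d + 2 → (σ i : ℕ) < d + 2 := fun i h => by
        by_cases h0 : (i : ℕ) = 0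
        · have := adj i ⟨1, by omega⟩ (by simp [h0]) (by simp); omega
        · have := adj ⟨i - 1, by omega⟩ i (by simp only; omega) h; omega
      have last : ∀ i : Fin (d + 3), (σ i : ℕ) = d + 2 → (i : ℕ) = d + 2 := fun i h => by
        have := lt i; have := i.2; omega
      have last' : σ ⟨d + 2, by omega⟩ = ⟨d + 2, by omega⟩ := by
        obtain ⟨k, hk⟩ := hs ⟨d + 2, by omega⟩
        rw [← hk]; congr 1; exact Fin.ext (by rw [hk]; exact (last k (by rw [hk])).symm)
      have ends : ∀ i : Fin (d + 3), (σ i : ℕ) = 0 ∨ (σ i : ℕ) = d + 1 →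
          (i : ℕ) = 0 ∨ (i : ℕ) = d + 1 := fun i h => by
        by_contra hn
        have i2 : (i : ℕ) ≠ d + 2 := fun a => by
          rw [show i = ⟨d + 2, by omega⟩ from Fin.ext a, last'] at h
          simp only at h; omega
        have := i.2
        have b1 := adj ⟨i - 1, by omega⟩ i (by simp only; omega) (by omega)
        have b2 := adj i ⟨i + 1, by omega⟩ rfl (by simp only; omega)
        have := hi (Fin.ext (by omega) : σ ⟨i - 1, by omega⟩ = σ ⟨i + 1, by omega⟩)
        simp only [Fin.mk.injEq] at this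
        omega
      intro i
      by_cases h : (i : ℕ) < d + 2
      · refine path_und (m := d + 2) (σ ∘ σ) (hi.comp hi) (fun i j hj hm => ?_) (fun i h0 => ?_) i h
        · rcases adj i j hj hm with ⟨a, b⟩ | ⟨a, b⟩
          · have := adj _ _ a b; simp only [Function.comp]; omega
          · have := adj _ _ a b; simp only [Function.comp]; omega
        · obtain ⟨a, ha⟩ := hs i
          obtain ⟨b, hb⟩ := hs ⟨d + 1, by omega⟩
          have a1 := ends a (by rw [ha]; omega)
          have b1 := ends b (by rw [hb]; simp)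
          have ab : a ≠ b := fun e => by rw [e, hb] at ha; rw [← ha] at h0; simp at h0
          rcases a1 with a1 | a1
          · have : a = i := Fin.ext (by omega)
            subst this
            simp [ha]
          · have : b = i := Fin.ext (by have := Fin.val_ne_of_ne ab; omega)
            subst this
            simp only [Function.comp, hb]
            rw [← ha]; congr 1; exact Fin.ext a1.symm
      · rw [show i = ⟨d + 2, by omega⟩ from Fin.ext (by have := i.2; simp only; omega), last', last']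
    exact eq_self_of_E (f.trans f).toAddMonoidHom fun i => by simp [h1, this]
  · rw [holes_comp, hd]
    refine (Nat.mul_le_mul_left 4 (pm_holes (d - 1) (1 : ZMod 3))).trans_lt ?_
    rcases d with _ | _ | d
    · simp
    · simp at hd1
    · clear * -
      induction d with
      | zero => simp
      | succ d ih => rw [pow_succ, pow_succ, pow_succ] at *; omega

open Classical in
theorem R2 (h : ∀ v : Ω, v + v = 0) :
    ∃ col : Ω → Option (Fin 3), Rigid H col ∧ 4 * holes col < Nat.card Ω := by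
  obtain ⟨d, ⟨e⟩, hd⟩ := exists_coords (Ω := Ω) (r := 2) (fun v => by rw [two_smul, h])
  refine ⟨(fun w : Fin d → ZMod 2 => if Edge d 1 w then some 1 else
      if ∃ i, w = E 2 i ∧ (i : ℕ) ≠ 0 then some 0 else
      if 3 ≤ d ∧ ∃ i, w = E 2 i then none else some (2 : Fin 3)) ∘ e,
      rigid_comp e _ fun f hf => ?_, ?_⟩
  · have small : d < 3 → ∀ w : Fin d → ZMod 2, w ≠ 0 → ¬ Edge d 1 w → ∃ i, w = E 2 i := by
      intro h3
      unfold Edge
      interval_cases d <;> decide
    have h1 : ∀ i, ∃ k, f (E 2 i) = E 2 k ∧ ((i : ℕ) = 0 → (k : ℕ) = 0) := fun i => by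
      have := hf _ (E_ne_zero i)
      rw [if_neg (Edge.ne_E one_ne_zero (k := i))] at this
      by_cases hi : (i : ℕ) = 0
      · rw [if_neg (c := ∃ k, E 2 i = E 2 k ∧ (k : ℕ) ≠ 0)
          (fun ⟨k, hk, hk'⟩ => hk' (E_inj hk ▸ hi))] at this
        have a1 : ¬ Edge d 1 (f (E 2 i)) := fun a => by
          rw [if_pos a] at this; split_ifs at this; simp at this
        have a2 : ¬ ∃ k, f (E 2 i) = E 2 k ∧ (k : ℕ) ≠ 0 := fun a => by
          rw [if_neg a1, if_pos a] at this; split_ifs at this; simp at this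
        rw [if_neg a1, if_neg a2] at this
        obtain ⟨k, hk⟩ : ∃ k, f (E 2 i) = E 2 k := by
          by_cases h3 : 3 ≤ d
          · rw [if_pos (c := 3 ≤ d ∧ ∃ k, E 2 i = E 2 k) ⟨h3, i, rfl⟩] at this
            by_contra hn
            rw [if_neg (fun a => hn a.2)] at this
            simp at this
          · exact small (by omega) _ (by simpa using E_ne_zero i) a1
        exact ⟨k, hk, fun _ => by_contra fun a => a2 ⟨k, hk, a⟩⟩
      · rw [if_pos (c := ∃ k, E 2 i = E 2 k ∧ (k : ℕ) ≠ 0) ⟨i, rfl, hi⟩] at this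
        by_contra hn
        have a2 : ¬ ∃ k, f (E 2 i) = E 2 k ∧ (k : ℕ) ≠ 0 := fun ⟨k, hk, _⟩ =>
          hn ⟨k, hk, fun a => (hi a).elim⟩
        rw [if_neg a2] at this
        split_ifs at this <;> simp at this
    choose σ hσ hσ0 using h1
    have hi : Function.Injective σ := fun i j h => E_inj (f.injective (by rw [hσ, hσ, h]))
    have : ∀ i, σ i = i := fun i => path_und (m := d) σ hi (fun i j hj _ => by
      have e : Edge d (1 : ZMod 2) (E 2 i + (1 : ZMod 2) • E 2 j) := ⟨i, j, hj, j.2, rfl⟩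
      have a1 := hf _ e.ne_zero
      rw [if_pos e, map_add, ZMod.map_smul, hσ, hσ] at a1
      obtain ⟨a, b, hb, -, hab⟩ : Edge d (1 : ZMod 2) (E 2 (σ i) + (1 : ZMod 2) • E 2 (σ j)) := by
        by_contra hn
        rw [if_neg hn] at a1
        split_ifs at a1 <;> simp at a1
      rcases pair_eq_pair (hi.ne fun h => by subst h; omega) (fun h => by subst h; omega)
        one_ne_zero hab with ⟨rfl, rfl⟩ | ⟨-, rfl, rfl⟩
      · exact Or.inl hb
      · exact Or.inr hb) (fun i h0 => Fin.ext ((hσ0 i h0).trans h0.symm)) i i.2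
    exact eq_self_of_E f.toAddMonoidHom fun i => by simp [hσ, this]
  · rw [holes_comp, hd]
    by_cases h3 : 3 ≤ d
    · refine (Nat.mul_le_mul_left 4 (holes_le _ (fun _ : Unit => E 2 ⟨0, by omega⟩)
        fun w _ hw => ⟨(), ?_⟩)).trans_lt ?_
      · split_ifs at hw with a b c
        obtain ⟨-, k, rfl⟩ := c
        congr 1
        exact Fin.ext (by_contra fun a => b ⟨k, rfl, fun a' => a a'.symm⟩)
      · have := Nat.pow_le_pow_right (n := 2) (by norm_num) h3
        simp; omega
    · refine (Nat.mul_le_mul_left 4 (holes_le _ (fun i : Empty => i.elim)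
        fun w _ hw => ?_)).trans_lt (by simp)
      split_ifs at hw with a b c
      exact (h3 c.1).elim

end Cfsg.Lib.Base
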