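import Cfsg.Agent.Base.Core
import Cfsg.Agent.Base.Rigid

/-!
# The normalizer of a group of symplectic type over the field with five elements
-/

set_option autoImplicit false
set_option linter.unusedSectionVars false

namespace Cfsg.Lib.Base

namespace Five

/-- coordinates -/
abbrev P4 := ZMod 5 × ZMod 5 × ZMod 5 × ZMod 5

/-- parameters of an element of the Pauli group -/
abbrev Par := ZMod 5 × Bool × Bool × Bool × Bool

/-- first sign change -/
def s1 (w : P4) : P4 := (w.1, -w.2.1, w.2.2.1, -w.2.2.2)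
/-- second sign change -/
def s2 (w : P4) : P4 := (w.1, w.2.1, -w.2.2.1, -w.2.2.2)
/-- first translation -/
def f1 (w : P4) : P4 := (w.2.1, w.1, w.2.2.2, w.2.2.1)
/-- second translation -/
def f2 (w : P4) : P4 := (w.2.2.1, w.2.2.2, w.1, w.2.1)

/-- an element of the Pauli group -/
def pa (q : Par) (w : P4) : P4 :=
  q.1 • (if q.2.1 then s1 else id) ((if q.2.2.1 then s2 else id) ((if q.2.2.2.1 then f1 else id)
    ((if q.2.2.2.2 then f2 else id) w)))

/-- first base vector -/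
def xh : P4 := (1, 1, 1, 0)
/-- second base vector -/
def yh : P4 := (0, 1, 2, 3)

/-- the linear map fixing `xh`, `yh` and sending `f1 xh`, `f1 yh` to `a`, `b` -/
def tr (a b w : P4) : P4 :=
  (2 * w.1 + 3 * w.2.1 + w.2.2.1) • xh + (w.2.1 + 4 * w.2.2.1 + 4 * w.2.2.2) • yh +
    (3 * w.1 + 2 * w.2.1 + w.2.2.2) • a + (w.1 + 4 * w.2.2.1 + 4 * w.2.2.2) • b

/-- the four colours -/
def wc : Option (Fin 3) → P4
  | none => (0, 1, 1, 1)
  | some 0 => (0, 1, 1, 2)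
  | some 1 => (0, 1, 2, 1)
  | some 2 => (0, 1, 2, 2)

theorem cert_tr : ∀ w : P4, tr (f1 xh) (f1 yh) w = w := by decide +kernel

set_option synthInstance.maxSize 4000 in
theorem cert_eig : ∀ (q : Par) (c : ZMod 5), q.1 ≠ 0 → pa q xh = c • xh →
    q.2 = (false, false, false, false) := by decide +kernel

theorem cert_sep : ∀ (q : Par) (a b : Option (Fin 3)), pa q (wc a) = wc b →
    a = b ∧ pa q xh = xh := by decide +kernel

theorem cert_ne : ∀ a, wc a ≠ 0 := by decide +kernel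

set_option synthInstance.maxSize 4000 in
theorem cert_core : ∀ q : Par,
    (∃ q' : Par, q'.1 ≠ 0 ∧ tr (pa q xh) (pa q yh) (s1 xh) = pa q' xh ∧
      tr (pa q xh) (pa q yh) (s1 yh) = pa q' yh) →
    (∃ q' : Par, q'.1 ≠ 0 ∧ tr (pa q xh) (pa q yh) (s2 xh) = pa q' xh ∧
      tr (pa q xh) (pa q yh) (s2 yh) = pa q' yh) →
    (∃ q' : Par, q'.1 ≠ 0 ∧ tr (pa q xh) (pa q yh) (f2 xh) = pa q' xh ∧
      tr (pa q xh) (pa q yh) (f2 yh) = pa q' yh) →
    q.1 ≠ 0 → pa q xh = f1 xh ∧ pa q yh = f1 yh := by decide +kernel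

open Subgroup Setup

universe u

variable {K V : Type*} {Γ : Type u} [Field K] [AddCommGroup V] [Module K V] [Group Γ]
  [DistribMulAction Γ V] [Nontrivial V] {S : Setup K V Γ} {M D : Subgroup Γ} {v : V}

/-- the vector with the given coordinates -/
def emb (φ : ZMod 5 ≃+* K) (v : V) (a b : Γ) (w : P4) : V :=
  φ w.1 • v + φ w.2.1 • a • v + φ w.2.2.1 • b • v + φ w.2.2.2 • a • b • v

theorem emb_add (φ : ZMod 5 ≃+* K) (v : V) (a b : Γ) (w w' : P4) :
    emb φ v a b (w + w') = emb φ v a b w + emb φ v a b w' := by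
  simp only [emb, Prod.fst_add, Prod.snd_add, map_add, add_smul]; abel

theorem emb_smul (φ : ZMod 5 ≃+* K) (v : V) (a b : Γ) (c : ZMod 5) (w : P4) :
    emb φ v a b (c • w) = φ c • emb φ v a b w := by
  simp only [emb, Prod.smul_fst, Prod.smul_snd, smul_eq_mul, map_mul, mul_smul, smul_add]

/-- A two-qubit frame. -/
structure Frame (S : Setup K V Γ) (M D : Subgroup Γ) (v : V) (a b s t : Γ) : Prop where
  ha : a ∈ M
  hb : b ∈ M
  hs : s ∈ D
  ht : t ∈ D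
  sv : s • v = v
  tv : t • v = v
  aa : a * a = 1
  bb : b * b = 1
  ab : S.cm a b = 1
  sa : S.cm s a = -1
  sb : S.cm s b = 1
  ta : S.cm t a = 1
  tb : S.cm t b = -1

theorem cm_cases (h : Heis S 2 M) {a b : Γ} (ha : a ∈ M) (hb : b ∈ M) :
    S.cm a b = 1 ∨ S.cm a b = -1 := units_sq_eq_one (h.cm_pow ha hb)

theorem exists_frame (h : Heis S 2 M) (e : Eig S M D v) (hC : Cz M D ≤ D)
    (hspl : ∀ a ∈ M, Spl S 2 a) {a b : Γ} (ha : a ∈ M) (hb : b ∈ M) (ha' : a ∉ D) (hb' : b ∉ D)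
    (hab : a * b ∉ D) : ∃ a b s t, Frame S M D v a b s t := by
  have k : ∀ f ∈ M, f ∉ D → ∃ s ∈ D, s • v = v ∧ S.cm s f = -1 := fun f hf hf' => by
    by_contra hc
    push Not at hc
    exact hf' (hC (e.mem_Cz h hf fun l hl hv => (cm_cases h (e.le hl) hf).resolve_right
      (hc l hl hv)))
  have dual : ∀ a ∈ M, ∀ b ∈ M, a ∉ D → a * b ∉ D →
      ∃ s ∈ D, s • v = v ∧ S.cm s a = -1 ∧ S.cm s b = 1 := fun a ha b hb h1 h2 => by
    obtain ⟨s, hs, sv, sa⟩ := k a ha h1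
    obtain ⟨t, ht, tv, tab⟩ := k _ (mul_mem ha hb) h2
    rw [h.cm_mul_right (e.le ht) ha hb] at tab
    rcases cm_cases h (e.le hs) hb with sb | sb
    · exact ⟨s, hs, sv, sa, sb⟩
    rcases cm_cases h (e.le ht) hb with tb | tb
    · exact ⟨t, ht, tv, by rwa [tb, mul_one] at tab, tb⟩
    · rw [tb, mul_neg, mul_one, neg_inj] at tab
      exact ⟨s * t, mul_mem hs ht, by rw [mul_smul, tv, sv],
        by rw [h.cm_mul_left (e.le hs) (e.le ht) ha, sa, tab, mul_one],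
        by rw [h.cm_mul_left (e.le hs) (e.le ht) hb, sb, tb]; simp⟩
  have hba : b * a ∉ D := fun h1 => hab (by
    rw [h.mul_eq ha hb]; exact mul_mem (e.U_le h (ι_mem _)) h1)
  obtain ⟨s, hs, sv, sa, sb⟩ := dual a ha b hb ha' hab
  obtain ⟨t, ht, tv, tb, ta⟩ := dual b hb a ha hb' hba
  have nrm : ∀ f ∈ M, ∃ f' ∈ M, f' * f' = 1 ∧ (∀ c ∈ M, S.cm c f' = S.cm c f) ∧
      ∀ c ∈ M, S.cm f' c = S.cm f c := fun f hf => by
    obtain ⟨u, hu⟩ := hspl f hf
    refine ⟨S.ι u⁻¹ * f, mul_mem (h.ι_mem _) hf, ?_, fun c hc => ?_, fun c hc => ?_⟩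
    · rw [← sq, Commute.mul_pow (ι_comm (h.le_A hf) _), hu, ← map_pow, ← map_mul]; simp
    · rw [h.cm_mul_right hc (h.ι_mem _) hf, h.cm_U_right hc (ι_mem _), one_mul]
    · rw [h.cm_mul_left (h.ι_mem _) hf hc, h.cm_U_left (ι_mem _) hc, one_mul]
  have ss : ∀ c ∈ D, ∀ d ∈ D, S.cm c d = 1 := fun c hc d hd =>
    (h.cm_eq_one (e.le hc) (e.le hd)).2 (e.le_cent h hd c hc)
  obtain ⟨b, hb, ab, sb, tb⟩ : ∃ b ∈ M, S.cm a b = 1 ∧ S.cm s b = 1 ∧ S.cm t b = -1 := by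
    rcases cm_cases h ha hb with ab | ab
    · exact ⟨b, hb, ab, sb, tb⟩
    · refine ⟨s * b, mul_mem (e.le hs) hb, ?_, ?_, ?_⟩
      · rw [h.cm_mul_right ha (e.le hs) hb, h.cm_swap (e.le hs) ha, sa, ab]; simp
      · rw [h.cm_mul_right (e.le hs) (e.le hs) hb, ss s hs s hs, sb, one_mul]
      · rw [h.cm_mul_right (e.le ht) (e.le hs) hb, ss t ht s hs, tb, one_mul]
  obtain ⟨a', ha', aa, a1, a2⟩ := nrm a ha
  obtain ⟨b', hb', bb, b1, -⟩ := nrm b hb
  exact ⟨a', b', s, t, ha', hb', hs, ht, sv, tv, aa, bb, by rw [b1 _ ha', a2 _ hb, ab],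
    by rw [a1 _ (e.le hs), sa], by rw [b1 _ (e.le hs), sb], by rw [a1 _ (e.le ht), ta],
    by rw [b1 _ (e.le ht), tb]⟩

namespace Frame

variable {a b s t : Γ} (h : Heis S 2 M) (e : Eig S M D v) (F : Frame S M D v a b s t)
  (φ : ZMod 5 ≃+* K)
include h e F

theorem smul_D {d : Γ} (hd : d ∈ D) {c : K} (hc : d • v = c • v) (w : P4) :
    d • emb φ v a b w = (φ w.1 * c) • v + (φ w.2.1 * S.cm d a * c) • a • v +
      (φ w.2.2.1 * S.cm d b * c) • b • v + (φ w.2.2.2 * S.cm d a * S.cm d b * c) • a • b • v := by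
  have hA := h.le_A (e.le hd)
  simp only [emb, smul_add, smul_smul hA, h.smul_smul_eq (e.le hd) F.ha,
    h.smul_smul_eq (e.le hd) F.hb, hc, smul_smul (h.le_A F.ha), smul_smul (h.le_A F.hb), mul_smul]

theorem smul_s (w : P4) : s • emb φ v a b w = emb φ v a b (s1 w) := by
  rw [F.smul_D h e φ F.hs (F.sv.trans (one_smul K v).symm), F.sa, F.sb]
  simp [emb, s1]

theorem smul_t (w : P4) : t • emb φ v a b w = emb φ v a b (s2 w) := by
  rw [F.smul_D h e φ F.ht (F.tv.trans (one_smul K v).symm), F.ta, F.tb]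
  simp [emb, s2]

theorem smul_a (w : P4) : a • emb φ v a b w = emb φ v a b (f1 w) := by
  have h1 : ∀ u : V, a • a • u = u := fun u => by rw [← mul_smul, F.aa, one_smul]
  simp only [emb, smul_add, smul_smul (h.le_A F.ha), h1, f1]
  abel

theorem smul_b (w : P4) : b • emb φ v a b w = emb φ v a b (f2 w) := by
  have h1 : ∀ u : V, b • b • u = u := fun u => by rw [← mul_smul, F.bb, one_smul]
  have h2 : ∀ u : V, b • a • u = a • b • u := fun u => by
    rw [h.smul_smul_eq F.ha F.hb, F.ab, Units.val_one, one_smul]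
  simp only [emb, smul_add, smul_smul (h.le_A F.hb), h1, h2, f2]
  abel

theorem inj : Function.Injective (emb φ v a b) := by
  have key : ∀ w, emb φ v a b w = 0 → w.1 = 0 := fun w hw => by
    have h1 := F.smul_s h e φ w
    have h2 := F.smul_t h e φ w
    have h3 := F.smul_t h e φ (s1 w)
    rw [← h1] at h3
    rw [hw, smul_zero] at h1 h2
    rw [hw, smul_zero, smul_zero] at h3
    have h4 : emb φ v a b (w + s1 w + s2 w + s2 (s1 w)) = 0 := by
      rw [emb_add, emb_add, emb_add, ← h1, ← h2, ← h3, hw]; simp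
    rw [show w + s1 w + s2 w + s2 (s1 w) = (4 * w.1, 0, 0, 0) by
      ext <;> simp [s1, s2] <;> ring] at h4
    simp only [emb, map_zero, zero_smul, add_zero, smul_eq_zero, e.ne, or_false,
      map_eq_zero_iff φ φ.injective] at h4
    revert h4; generalize w.1 = z; revert z; decide
  intro w w' hw
  have h0 : emb φ v a b (w - w') = 0 := by
    rw [sub_eq_add_neg, emb_add, ← neg_one_smul (ZMod 5) w', emb_smul, hw]; simp
  have h1 := F.smul_a h e φ (w - w')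
  have h2 := F.smul_b h e φ (w - w')
  have h3 := F.smul_a h e φ (f2 (w - w'))
  rw [← h2] at h3
  rw [h0, smul_zero] at h1 h2
  rw [h0, smul_zero, smul_zero] at h3
  rw [← sub_eq_zero]
  exact Prod.ext (key _ h0) (Prod.ext (key _ h1.symm) (Prod.ext (key _ h2.symm) (key _ h3.symm)))

theorem smul_L {l : Γ} (hl : l ∈ D) (h1 : S.cm l a = 1) (h2 : S.cm l b = 1) :
    ∃ c : ZMod 5, c ≠ 0 ∧ ∀ w, l • emb φ v a b w = emb φ v a b (c • w) := by
  obtain ⟨u, hu⟩ := e.exists_unit hl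
  refine ⟨φ.symm u, by simp, fun w => ?_⟩
  rw [F.smul_D h e φ hl hu, h1, h2, emb_smul]
  simp only [emb, smul_add, Units.val_one, mul_one, RingEquiv.apply_symm_apply, ← mul_smul (u : K),
    mul_comm (u : K)]

theorem dec_D {d : Γ} (hd : d ∈ D) : ∃ l ∈ D, S.cm l a = 1 ∧ S.cm l b = 1 ∧ ∃ i j : Bool,
    d = l * (if i then s else 1) * (if j then t else 1) := by
  have hM := e.le hd
  have hs := e.le F.hs
  have ht := e.le F.ht
  rcases cm_cases h hM F.ha with h1 | h1 <;> rcases cm_cases h hM F.hb with h2 | h2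
  · exact ⟨d, hd, h1, h2, false, false, by simp⟩
  · refine ⟨d * t⁻¹, mul_mem hd (inv_mem F.ht), ?_, ?_, false, true, by simp⟩
    · simp [h.cm_mul_left hM (inv_mem ht) F.ha, h.cm_inv_left ht F.ha, h1, F.ta]
    · simp [h.cm_mul_left hM (inv_mem ht) F.hb, h.cm_inv_left ht F.hb, h2, F.tb]
  · refine ⟨d * s⁻¹, mul_mem hd (inv_mem F.hs), ?_, ?_, true, false, by simp⟩
    · simp [h.cm_mul_left hM (inv_mem hs) F.ha, h.cm_inv_left hs F.ha, h1, F.sa]
    · simp [h.cm_mul_left hM (inv_mem hs) F.hb, h.cm_inv_left hs F.hb, h2, F.sb]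
  · refine ⟨d * t⁻¹ * s⁻¹, mul_mem (mul_mem hd (inv_mem F.ht)) (inv_mem F.hs), ?_, ?_, true, true,
      by simp⟩
    · simp [h.cm_mul_left (mul_mem hM (inv_mem ht)) (inv_mem hs) F.ha,
        h.cm_mul_left hM (inv_mem ht) F.ha, h.cm_inv_left ht F.ha, h.cm_inv_left hs F.ha, h1, F.ta,
        F.sa]
    · simp [h.cm_mul_left (mul_mem hM (inv_mem ht)) (inv_mem hs) F.hb,
        h.cm_mul_left hM (inv_mem ht) F.hb, h.cm_inv_left ht F.hb, h.cm_inv_left hs F.hb, h2, F.tb,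
        F.sb]

theorem dec (hC : Cz M D ≤ D) {c : Γ} (hc : c ∈ M)
    (hL : ∀ l ∈ D, S.cm l a = 1 → S.cm l b = 1 → S.cm l c = 1) :
    ∃ q : Par, q.1 ≠ 0 ∧ (∀ w, c • emb φ v a b w = emb φ v a b (pa q w)) ∧
      (q.2 = (false, false, false, false) → c ∈ D ∧ S.cm c a = 1 ∧ S.cm c b = 1) := by
  have hs := e.le F.hs
  have ht := e.le F.ht
  obtain ⟨k, m, d, hd, rfl⟩ : ∃ k m : Bool, ∃ d ∈ D,
      c = d * (if k then a else 1) * (if m then b else 1) := by
    have key : ∀ c' ∈ M, (∀ l ∈ D, S.cm l a = 1 → S.cm l b = 1 → S.cm l c' = 1) →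
        S.cm s c' = 1 → S.cm t c' = 1 → c' ∈ D := fun c' h1 h2 h3 h4 => by
      refine hC (e.mem_Cz h h1 fun d hd _ => ?_)
      obtain ⟨l, hl, l1, l2, i, j, rfl⟩ := F.dec_D h e hd
      have hi : (if i then s else 1) ∈ M ∧ S.cm (if i then s else 1) c' = 1 := by
        cases i
        exacts [⟨one_mem _, h.cm_U_left (one_mem _) h1⟩, ⟨hs, h3⟩]
      have hj : (if j then t else 1) ∈ M ∧ S.cm (if j then t else 1) c' = 1 := by
        cases j
        exacts [⟨one_mem _, h.cm_U_left (one_mem _) h1⟩, ⟨ht, h4⟩]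
      rw [h.cm_mul_left (mul_mem (e.le hl) hi.1) hj.1 h1, h.cm_mul_left (e.le hl) hi.1 h1, hi.2,
        hj.2, h2 l hl l1 l2]; simp
    have ia := inv_mem F.ha
    have ib := inv_mem F.hb
    rcases cm_cases h hs hc with h1 | h1 <;> rcases cm_cases h ht hc with h2 | h2
    · exact ⟨false, false, c, key c hc hL h1 h2, by simp⟩
    · refine ⟨false, true, c * b⁻¹, key _ (mul_mem hc ib) (fun l hl l1 l2 => ?_) ?_ ?_, by simp⟩
      · simp [h.cm_mul_right (e.le hl) hc ib, h.cm_inv_right (e.le hl) F.hb, hL l hl l1 l2, l2]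
      · simp [h.cm_mul_right hs hc ib, h.cm_inv_right hs F.hb, h1, F.sb]
      · simp [h.cm_mul_right ht hc ib, h.cm_inv_right ht F.hb, h2, F.tb]
    · refine ⟨true, false, c * a⁻¹, key _ (mul_mem hc ia) (fun l hl l1 l2 => ?_) ?_ ?_, by simp⟩
      · simp [h.cm_mul_right (e.le hl) hc ia, h.cm_inv_right (e.le hl) F.ha, hL l hl l1 l2, l1]
      · simp [h.cm_mul_right hs hc ia, h.cm_inv_right hs F.ha, h1, F.sa]
      · simp [h.cm_mul_right ht hc ia, h.cm_inv_right ht F.ha, h2, F.ta]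
    · refine ⟨true, true, c * b⁻¹ * a⁻¹, key _ (mul_mem (mul_mem hc ib) ia)
        (fun l hl l1 l2 => ?_) ?_ ?_, by simp⟩
      · simp [h.cm_mul_right (e.le hl) (mul_mem hc ib) ia, h.cm_mul_right (e.le hl) hc ib,
          h.cm_inv_right (e.le hl) F.hb, h.cm_inv_right (e.le hl) F.ha, hL l hl l1 l2, l1, l2]
      · simp [h.cm_mul_right hs (mul_mem hc ib) ia, h.cm_mul_right hs hc ib,
          h.cm_inv_right hs F.hb, h.cm_inv_right hs F.ha, h1, F.sa, F.sb]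
      · simp [h.cm_mul_right ht (mul_mem hc ib) ia, h.cm_mul_right ht hc ib,
          h.cm_inv_right ht F.hb, h.cm_inv_right ht F.ha, h2, F.ta, F.tb]
  obtain ⟨l, hl, l1, l2, i, j, rfl⟩ := F.dec_D h e hd
  obtain ⟨z, hz, hz'⟩ := F.smul_L h e φ hl l1 l2
  refine ⟨(z, i, j, k, m), hz, fun w => ?_, fun h0 => ?_⟩
  · cases i <;> cases j <;> cases k <;> cases m <;>
      simp [pa, mul_smul, hz', F.smul_s h e φ, F.smul_t h e φ, F.smul_a h e φ, F.smul_b h e φ]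
  · simp only [Prod.mk.injEq] at h0
    obtain ⟨rfl, rfl, rfl, rfl⟩ := h0
    simpa using ⟨hl, l1, l2⟩

end Frame

end Five

open Five Subgroup Setup

universe u

variable {K V : Type*} {Γ : Type u} [Field K] [AddCommGroup V] [Module K V] [Group Γ]
  [DistribMulAction Γ V] [Nontrivial V] {S : Setup K V Γ} {M : Subgroup Γ}

theorem base_five [Finite Γ] [Finite K] [Finite V] (hK : Nat.card K = 5)
    (h : Heis S 2 M) (hM : ∀ g ∈ S.A, g ∈ centralizer (M : Set Γ) → g ∈ S.U) :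
    HasBase Γ V 2 := by
  classical
  have := Fintype.ofFinite K
  let φ : ZMod 5 ≃+* K := ZMod.ringEquivOfPrime K Nat.prime_five
    (by rw [← Nat.card_eq_fintype_card, hK])
  have hA : ∀ g : Γ, g ∈ S.A := fun g => by
    rintro _ ⟨u, rfl⟩
    obtain ⟨w, hw⟩ := S.normal.conj_mem _ (ι_mem u) g
    obtain ⟨x, hx⟩ := exists_ne (0 : V)
    have h1 : (u : K) = ((φ.symm u).val : ℕ) := by
      rw [← map_natCast φ, ZMod.natCast_zmod_val, φ.apply_symm_apply]
    have : w = u := ι_eq_of_smul (S := S) hx (by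
      rw [hw, mul_smul, mul_smul, S.ι_smul, S.ι_smul, h1, Nat.cast_smul_eq_nsmul,
        Nat.cast_smul_eq_nsmul, smul_comm g, smul_inv_smul])
    rw [this] at hw
    exact eq_mul_inv_iff_mul_eq.1 hw
  have hsq : (2 : ℕ) ≠ 2 ∨ IsSquare (-1 : K) :=
    Or.inr ⟨φ 2, by rw [← map_mul, ← map_one φ, ← map_neg]; rfl⟩
  have fin : ∀ {L : Subgroup Γ} {x : V}, x ≠ 0 → LocGood S M L x 1 → ∀ y0 ∈ V0 L x,
      (∀ g : Γ, g • x = x → g • y0 = y0 → ∀ c ∈ Cz M L, g • c • x = c • x) → HasBase Γ V 2 := by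
    rintro L x hx ⟨y, -, hy⟩ y0 hy0 hc
    refine ⟨![x, y0 + y 0], fun g hg => ?_⟩
    have h0 : g • x = x := hg 0
    have h1 : g • (y0 + y 0) = y0 + y 0 := hg 1
    obtain ⟨h2, h3⟩ := hy g h0 (fun _ => y0) (fun _ => hy0) fun t => by
      rw [Subsingleton.elim t 0]; exact h1
    rw [smul_add, h2, add_left_inj] at h1
    rw [eq_one_of_smul (hM g (hA g) (h3 (hA g) (hc g h0 h1))) hx h0]
    exact one_smul Γ
  obtain ⟨D, hD, -⟩ := h.exists_lag (one_mem M) (spl_of_mem_U (one_mem _))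
  obtain ⟨v, e⟩ := hD.exists_eig h
  have hC := hD.Cz_le h hsq
  by_cases hc : ∃ a ∈ M, ∃ b ∈ M, a ∉ D ∧ b ∉ D ∧ a * b ∉ D
  swap
  · obtain ⟨Ω, _, _, _, pr, s⟩ := e.exists_sec h
    refine fin e.ne (e.locGood h s (fun _ => some ()) (fun g _ ω => ?_) (by simp [holes])
      (fun _ _ => v) (fun _ _ => Submodule.subset_span ⟨1, one_mem _, one_smul _ _⟩)
      (fun _ h0 => e.ne (congrFun h0 0)) fun _ _ c _ _ h1 => ⟨rfl, h1 0⟩) 0 (zero_mem _)
      fun g hg _ c h1 => ?_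
    · by_cases h0 : ω = 0
      · rw [h0, smul_zero]
      obtain ⟨a, ha, rfl⟩ := s.surj ω
      have h1 : ∀ b ∈ M, pr b ≠ 0 → b ∉ D := fun b hb h2 h3 =>
        h2 ((s.eq_zero b hb).2 (e.le_Cz h h3))
      have hb := h.conj_mem ha g
      rw [← s.conj g a ha, s.eq_iff hb ha]
      by_contra h2
      exact hc ⟨_, inv_mem hb, a, ha, mt inv_mem_iff.1 (h1 _ hb (by
        rw [s.conj g a ha]; exact mt (smul_eq_zero_iff_eq g).1 h0)), h1 a ha h0,
        fun h3 => h2 (e.le_Cz h h3)⟩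
    · obtain ⟨u, hu⟩ := e.exists_unit (hC h1)
      rw [hu, smul_smul (hA g), hg]
  obtain ⟨a, ha, b, hb, h1, h2, h3⟩ := hc
  obtain ⟨a, b, s, t, F⟩ := exists_frame h e hC (fun a ha => h.spl hsq ha) ha hb h1 h2 h3
  have inj := F.inj h e φ
  have em0 : emb φ v a b 0 = 0 := by simp [emb]
  set x := emb φ v a b xh with hx
  have hx0 : x ≠ 0 := fun h0 => absurd (inj (h0.trans em0.symm)) (by decide)
  let L : Subgroup Γ :=
    { carrier := {m | m ∈ M ∧ ∃ c : K, m • x = c • x}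
      one_mem' := ⟨one_mem _, 1, by simp⟩
      mul_mem' := by
        rintro m n ⟨hm, c, hc⟩ ⟨hn, d, hd⟩
        exact ⟨mul_mem hm hn, d * c, by rw [mul_smul, hd, smul_smul (hA m), hc, mul_smul]⟩
      inv_mem' := by
        rintro m ⟨hm, c, hc⟩
        have c0 : c ≠ 0 := by
          rintro rfl
          exact hx0 ((smul_eq_zero_iff_eq m).1 (hc.trans (zero_smul _ _)))
        exact ⟨inv_mem hm, c⁻¹, by rw [inv_smul_eq_iff, smul_smul (hA m), hc, inv_smul_smul₀ c0]⟩ }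
  have e0 : Eig S M L x := ⟨hx0, fun _ => Iff.rfl⟩
  have dec : ∀ c ∈ Cz M L, ∃ q : Par, q.1 ≠ 0 ∧ (∀ w, c • emb φ v a b w = emb φ v a b (pa q w)) ∧
      (q.2 = (false, false, false, false) → c ∈ D ∧ S.cm c a = 1 ∧ S.cm c b = 1) :=
    fun c hc => F.dec h e φ hC hc.1 fun l hl l1 l2 => by
      obtain ⟨z, -, hz⟩ := F.smul_L h e φ hl l1 l2
      exact (h.cm_eq_one (e.le hl) hc.1).2 (hc.2 l ⟨e.le hl, φ z, by rw [hx, hz, emb_smul]⟩)
  have hL : ∀ l ∈ L, l ∈ D ∧ S.cm l a = 1 ∧ S.cm l b = 1 := fun l hl => by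
    obtain ⟨q, q0, q1, q2⟩ := dec l (e0.le_Cz h hl)
    obtain ⟨c, hc⟩ := hl.2
    refine q2 (cert_eig q (φ.symm c) q0 (inj ?_))
    rw [← q1, emb_smul, φ.apply_symm_apply, ← hx, hc]
  have ca : a ∈ Cz M L := ⟨F.ha, fun l hl => (h.cm_eq_one hl.1 F.ha).1 (hL l hl).2.1⟩
  have cb : b ∈ Cz M L := ⟨F.hb, fun l hl => (h.cm_eq_one hl.1 F.hb).1 (hL l hl).2.2⟩
  have cD : ∀ d ∈ D, d ∈ Cz M L := fun d hd =>
    ⟨e.le hd, fun l hl => e.le_cent h hd l (hL l hl).1⟩
  have hV0 : ∀ w, emb φ v a b w ∈ V0 L x := fun w l hl h4 => by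
    obtain ⟨z, -, hz⟩ := F.smul_L h e φ (hL l hl).1 (hL l hl).2.1 (hL l hl).2.2
    have := congrArg Prod.fst (inj ((hz xh).symm.trans h4))
    simp only [xh, Prod.smul_fst, smul_eq_mul, mul_one] at this
    rw [hz, this, one_smul]
  have hsp : ∀ w, emb φ v a b w ∈ Submodule.span K {w | ∃ c ∈ Cz M L, c • x = w} := fun w => by
    have k : ∀ c ∈ Cz M L, c • x ∈ Submodule.span K {w | ∃ c ∈ Cz M L, c • x = w} :=
      fun c hc => Submodule.subset_span ⟨c, hc, rfl⟩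
    have k0 := k 1 (one_mem _)
    have k1 := k s (cD s F.hs)
    have k2 := k t (cD t F.ht)
    have k3 := k a ca
    rw [one_smul] at k0
    rw [hx, F.smul_s h e φ] at k1
    rw [hx, F.smul_t h e φ] at k2
    rw [hx, F.smul_a h e φ] at k3
    rw [show w = (w.1 - 3 * (w.1 - w.2.1) - 3 * (w.1 - w.2.2.1 - w.2.2.2) - w.2.2.2) • xh +
      (3 * (w.1 - w.2.1)) • s1 xh + (3 * (w.1 - w.2.2.1 - w.2.2.2)) • s2 xh + w.2.2.2 • f1 xh by
        revert w; decide +kernel, emb_add, emb_add, emb_add, emb_smul, emb_smul, emb_smul, emb_smul]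
    exact add_mem (add_mem (add_mem (Submodule.smul_mem _ _ k0) (Submodule.smul_mem _ _ k1))
      (Submodule.smul_mem _ _ k2)) (Submodule.smul_mem _ _ k3)
  obtain ⟨Ω, _, _, _, pr, sc⟩ := e0.exists_sec h
  obtain ⟨col, hcol, -⟩ := R2 (H := MulAction.stabilizer Γ x) (Ω := Ω) fun ω => by
    rw [← two_nsmul]
    exact sc.nsmul_eq_zero (fun a ha => e0.le_Cz h (e0.U_le h (h.pow a ha))) ω
  refine fin hx0 (e0.locGood h sc (fun ω => some (col ω))
    (fun g hg => hcol g fun ω h0 => Option.some_injective _ (hg ω h0)) (by simp [holes])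
    (fun i _ => emb φ v a b (wc i)) (fun _ _ => hsp _)
    (fun i h0 => cert_ne i (inj ((congrFun h0 0).trans em0.symm))) fun i j c hc _ h4 => ?_)
    (emb φ v a b yh) (hV0 _) fun g hg hy c hc => ?_
  · obtain ⟨q, -, q1, -⟩ := dec c hc
    obtain ⟨h5, h6⟩ := cert_sep q i j (inj ((q1 _).symm.trans (h4 0)))
    exact ⟨h5, by rw [hx, q1, h6]⟩
  have cj : ∀ c ∈ Cz M L, g * c * g⁻¹ ∈ Cz M L := fun c hc => ⟨h.conj_mem hc.1 g, fun l hl => by
    have := hc.2 _ (e0.conj_mem h (g := g⁻¹) (inv_smul_eq_iff.2 hg.symm) hl)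
    rw [inv_inv] at this
    calc l * (g * c * g⁻¹) = g * (g⁻¹ * l * g * c) * g⁻¹ := by group
      _ = g * c * g⁻¹ * l := by rw [this]; group⟩
  have gx : ∀ c : Γ, g • c • x = (g * c * g⁻¹) • x := fun c => by
    rw [mul_smul, mul_smul, inv_smul_eq_iff.2 hg.symm]
  have gy : ∀ c : Γ, g • c • emb φ v a b yh = (g * c * g⁻¹) • emb φ v a b yh := fun c => by
    rw [mul_smul, mul_smul, inv_smul_eq_iff.2 hy.symm]
  obtain ⟨q, q0, q1, -⟩ := dec _ (cj a ca)
  have gw : ∀ w, g • emb φ v a b w = emb φ v a b (tr (pa q xh) (pa q yh) w) := fun w => by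
    conv_lhs => rw [← cert_tr w]
    simp only [tr, emb_add, emb_smul, smul_add, smul_smul (hA g), ← F.smul_a h e φ, ← hx, gx, gy,
      hg, hy, ← q1]
  have step : ∀ c ∈ Cz M L, ∀ f : P4 → P4, (∀ w, c • emb φ v a b w = emb φ v a b (f w)) →
      ∃ q' : Par, q'.1 ≠ 0 ∧ tr (pa q xh) (pa q yh) (f xh) = pa q' xh ∧
        tr (pa q xh) (pa q yh) (f yh) = pa q' yh := fun c hc f hf => by
    obtain ⟨q', p0, p1, -⟩ := dec _ (cj c hc)
    exact ⟨q', p0, inj (by rw [← gw, ← hf, ← p1, ← hx, gx]), inj (by rw [← gw, ← hf, ← p1, gy])⟩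
  obtain ⟨h5, h6⟩ := cert_core q (step s (cD s F.hs) _ (F.smul_s h e φ))
    (step t (cD t F.ht) _ (F.smul_t h e φ)) (step b cb _ (F.smul_b h e φ)) q0
  obtain ⟨q', -, p1, -⟩ := dec c hc
  rw [hx, p1, gw, h5, h6, cert_tr]

end Cfsg.Lib.Base
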