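import Cfsg.Agent.Base.Iface
import Cfsg.Agent.Base.Rigid

/-!
# Small rigid sets for solvable `3'`-groups in characteristic two
-/

set_option autoImplicit false

namespace Cfsg.Lib.Base

universe u

section

variable {H Ω : Type*} [Group H] [AddCommGroup Ω] [DistribMulAction H Ω]

/-- The action on an invariant subgroup. -/
@[reducible] def Inv.subAct {W : AddSubgroup Ω} (hW : Inv H W) : DistribMulAction H W where
  smul g w := ⟨g • w.1, hW g _ w.2⟩
  one_smul w := Subtype.ext (one_smul H w.1)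
  mul_smul g h w := Subtype.ext (mul_smul g h w.1)
  smul_zero g := Subtype.ext (smul_zero g)
  smul_add g v w := Subtype.ext (smul_add g v.1 w.1)

/-- The action on the quotient by an invariant subgroup. -/
@[reducible] def Inv.quotAct {W : AddSubgroup Ω} (hW : Inv H W) : DistribMulAction H (Ω ⧸ W) where
  smul g := QuotientAddGroup.map W W (DistribSMul.toAddMonoidHom Ω g) (fun v hv => hW g v hv)
  one_smul q := by
    induction q using QuotientAddGroup.induction_on with
    | _ v => exact congrArg QuotientAddGroup.mk (one_smul H v)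
  mul_smul g h q := by
    induction q using QuotientAddGroup.induction_on with
    | _ v => exact congrArg QuotientAddGroup.mk (mul_smul g h v)
  smul_zero g := map_zero (QuotientAddGroup.map W W _ _)
  smul_add g := map_add (QuotientAddGroup.map W W _ _)

theorem smul_eq_of_pow {X : Type*} [MulAction H X] {n : ℕ} (hn : n.Coprime (Nat.card H)) {g : H}
    [Finite H] {v : X} (h : g ^ n • v = v) : g • v = v := by
  obtain ⟨m, hm⟩ := exists_pow_eq_self_of_coprime (x := g)
    (hn.coprime_dvd_right (orderOf_dvd_natCard g))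
  have := (MulAction.stabilizer H v).pow_mem h m
  rwa [hm] at this

/-- The setwise stabilizer of `X` acts trivially. -/
def RigidSet (H : Type*) {Ω : Type*} [Group H] [MulAction H Ω] (X : Set Ω) : Prop :=
  ∀ g : H, (∀ v, g • v ∈ X ↔ v ∈ X) → ∀ v : Ω, g • v = v

theorem exists_rigidSet_of_base [Finite H] (h3 : ¬ 3 ∣ Nat.card H) (h2 : ∀ v : Ω, v + v = 0)
    (hb : HasBase H Ω 2) : ∃ R : Set Ω, 0 ∉ R ∧ RigidSet H R ∧ R.ncard ≤ 2 := by
  obtain ⟨x, hx⟩ := hb
  have hb : ∀ g : H, g • x 0 = x 0 → g • x 1 = x 1 → ∀ v : Ω, g • v = v := fun g a b =>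
    hx g (Fin.forall_fin_two.2 ⟨a, b⟩)
  generalize x 0 = v, x 1 = w at hb
  have key : ∀ v w : Ω, (∀ g : H, g • v = v → g • w = w → ∀ u : Ω, g • u = u) →
      (∃ R : Set Ω, 0 ∉ R ∧ RigidSet H R ∧ R.ncard ≤ 2) ∨
        (v ≠ 0 ∧ w ≠ 0 ∧ ∃ g : H, g • v = w ∧ g • w = v) := fun v w hb => by
    by_cases hr : RigidSet H ({v, w} \ {0})
    · exact Or.inl ⟨_, by simp, hr, (Set.ncard_le_ncard Set.sdiff_subset).trans
        (Set.ncard_insert_le _ _ |>.trans (by simp))⟩
    right
    simp only [RigidSet, not_forall] at hr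
    obtain ⟨g, hg, u, hu⟩ := hr
    have a : v = 0 ∨ g • v = v ∨ g • v = w := by
      by_cases h : v = 0
      · exact Or.inl h
      · exact Or.inr ((hg v).2 ⟨by simp, h⟩).1
    have b : w = 0 ∨ g • w = v ∨ g • w = w := by
      by_cases h : w = 0
      · exact Or.inl h
      · exact Or.inr ((hg w).2 ⟨by simp, h⟩).1
    have c : ¬ (g • v = v ∧ g • w = w) := fun h => hu (hb g h.1 h.2 u)
    have z : ∀ u : Ω, g • u = 0 → u = 0 := fun u h => (smul_eq_zero_iff_eq g).1 h
    have inj := MulAction.injective (β := Ω) g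
    by_cases v0 : v = 0
    · subst v0
      rcases b with rfl | b | b
      · simp at c
      · rw [z _ b] at c; simp at c
      · simp [b] at c
    by_cases w0 : w = 0
    · subst w0
      rcases a with a | a | a
      · exact (v0 a).elim
      · simp [a] at c
      · exact (v0 (z _ a)).elim
    refine ⟨v0, w0, g, ?_⟩
    rcases a.resolve_left v0 with a' | a' <;> rcases b.resolve_left w0 with b' | b'
    · have e := inj (a'.trans b'.symm); subst e; exact ⟨a', a'⟩
    · exact (c ⟨a', b'⟩).elim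
    · exact ⟨a', b'⟩
    · have e := inj (a'.trans b'.symm); subst e; exact ⟨a', a'⟩
  rcases key v w hb with h | ⟨-, w0, g, g1, g2⟩
  · exact h
  have e1 : v + (v + w) = w := by rw [← add_assoc, h2, zero_add]
  rcases key v (v + w) (fun g a b => hb g a (by rwa [smul_add, a, add_right_inj] at b))
    with h | ⟨-, -, k, k1, k2⟩
  · exact h
  have k3 : k • w = w := by
    rw [← e1, smul_add, k1, k2, add_comm (v + w)]
  have g3 : g • (v + w) = v + w := by rw [smul_add, g1, g2, add_comm]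
  have : (g * k) • v = v := smul_eq_of_pow
    ((Nat.Prime.coprime_iff_not_dvd Nat.prime_three).2 h3) (by
      simp only [pow_succ, pow_zero, one_mul, mul_smul, k1, k2, k3, g1, g2, g3])
  rw [mul_smul, k1, g3, add_eq_left] at this
  exact (w0 this).elim

theorem Irr.cr (h : Irr H Ω) : CR H Ω := fun U hU => by
  rcases h.2 U hU with rfl | rfl
  · exact ⟨⊤, fun _ _ _ => trivial, by simp, by simp⟩
  · exact ⟨⊥, fun g v hv => by rw [AddSubgroup.mem_bot.1 hv, smul_zero]; exact zero_mem _,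
      by simp, by simp⟩

theorem Irr.card_ne_four [Finite H] (h : Irr H Ω) (h3 : ¬ 3 ∣ Nat.card H)
    (h2 : ∀ v : Ω, v + v = 0) : Nat.card Ω ≠ 4 := fun h4 => by
  classical
  haveI : Finite Ω := Nat.finite_of_card_ne_zero (by omega)
  have fixed : ∀ u : Ω, u ≠ 0 → ¬ ∀ g : H, g • u = u := fun u hu hf => by
    rcases h.2 (AddSubgroup.zmultiples u) (by
      rintro g _ ⟨k, rfl⟩
      exact ⟨k, by simp only; rw [smul_comm, hf]⟩) with a | a
    · exact hu (AddSubgroup.zmultiples_eq_bot.1 a)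
    · have b := Nat.card_zmultiples u
      rw [a, AddSubgroup.card_top, h4] at b
      have := Nat.le_of_dvd (by norm_num) (addOrderOf_dvd_of_nsmul_eq_zero
        (show 2 • u = 0 by rw [two_smul, h2]))
      omega
  have := h.1
  obtain ⟨v, hv⟩ := exists_ne (0 : Ω)
  have hd : (MulAction.orbit H v).ncard ∣ Nat.card H := by
    rw [← MulAction.index_stabilizer]
    exact Subgroup.index_dvd_card _
  have hsub : MulAction.orbit H v ⊆ {0}ᶜ := by
    rintro _ ⟨g, rfl⟩ h0
    exact hv ((smul_eq_zero_iff_eq g).1 h0)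
  have hc : ({0}ᶜ : Set Ω).ncard = 3 := by
    have := Set.ncard_add_ncard_compl ({0} : Set Ω)
    rw [Set.ncard_singleton, h4] at this; omega
  have hne : MulAction.orbit H v ≠ {0}ᶜ := fun e => h3 (by rwa [e, hc] at hd)
  obtain ⟨u, hu0, hu⟩ := Set.exists_of_ssubset (hsub.ssubset_of_ne hne)
  obtain ⟨g, hg⟩ := not_forall.1 (fixed v hv)
  have hle : ({0}ᶜ \ MulAction.orbit H v : Set Ω).ncard ≤ 1 := by
    have a := Set.ncard_sdiff hsub
    have b : ({v, g • v} : Set Ω).ncard ≤ (MulAction.orbit H v).ncard :=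
      Set.ncard_le_ncard (by
        rintro _ (rfl | rfl)
        · exact MulAction.mem_orbit_self _
        · exact MulAction.mem_orbit _ _)
    rw [Set.ncard_pair (Ne.symm hg)] at b
    omega
  refine fixed u hu0 fun k => (Set.ncard_le_one_iff_subsingleton.1 hle) ⟨?_, ?_⟩ ⟨hu0, hu⟩
  · exact fun h0 => hu0 ((smul_eq_zero_iff_eq k).1 h0)
  · rintro ⟨l, hl⟩
    exact hu ⟨k⁻¹ * l, by simp only at hl ⊢; rw [mul_smul, hl, inv_smul_smul]⟩

theorem rigidSet_assemble [Finite Ω] {Q : Type*} [AddCommGroup Q] [DistribMulAction H Q]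
    (π : Ω →+ Q) (hπ : Function.Surjective π) (hsm : ∀ (g : H) v, π (g • v) = g • π v)
    (hW : π.ker ≠ ⊥) (X : Set Ω) (hX : X ⊆ π.ker) (hX0 : 0 ∉ X)
    (hXr : ∀ g : H, (∀ v, g • v ∈ X ↔ v ∈ X) → ∀ v ∈ π.ker, g • v = v) (D S : Set Q)
    (hDS : Disjoint D S) (hD : 0 ∉ D) (hS : 0 ∉ S) (hsp : AddSubgroup.closure S = ⊤)
    (hr : ∀ g : H, (∀ q, g • q ∈ D ∪ S ↔ q ∈ D ∪ S) → (∀ q, g • q ∈ D ↔ q ∈ D) →
      ∀ q : Q, g • q = q) :
    ∃ Y : Set Ω, 0 ∉ Y ∧ RigidSet H Y ∧
      Y.ncard ≤ X.ncard + Nat.card π.ker * D.ncard + S.ncard := by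
  obtain ⟨s, hs⟩ := hπ.hasRightInverse
  obtain ⟨w, hw, hw0⟩ := (AddSubgroup.bot_or_exists_ne_zero π.ker).resolve_left hW
  set Y : Set Ω := X ∪ π ⁻¹' D ∪ s '' S with hY
  have c0 : ∀ v, v ∈ X ↔ v ∈ Y ∧ π v = 0 := fun v => ⟨fun h => ⟨.inl (.inl h), hX h⟩, by
    rintro ⟨(h | h) | ⟨q, hq, rfl⟩, h0⟩
    · exact h
    · exact (hD (h0 ▸ h)).elim
    · rw [hs] at h0; exact (hS (h0 ▸ hq)).elim⟩
  have c1 : ∀ q, q ∈ D ∪ S ↔ q ≠ 0 ∧ ∃ v ∈ Y, π v = q := fun q => ⟨by
    rintro (h | h)
    · exact ⟨fun e => hD (e ▸ h), s q, .inl (.inr (by simpa [hs q] using h)), hs q⟩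
    · exact ⟨fun e => hS (e ▸ h), s q, .inr ⟨q, h, rfl⟩, hs q⟩, by
    rintro ⟨h0, v, (h | h) | ⟨q, hq, rfl⟩, rfl⟩
    · exact (h0 (hX h)).elim
    · exact .inl h
    · rw [hs]; exact .inr hq⟩
  have c3 : ∀ v ∈ Y, π v ∈ S → v = s (π v) := by
    rintro v ((h | h) | ⟨q, hq, rfl⟩) h'
    · rw [hX h] at h'; exact (hS h').elim
    · exact (Set.disjoint_left.1 hDS h h').elim
    · rw [hs]
  have c2 : ∀ q, q ∈ D ↔ q ≠ 0 ∧ ∀ v, π v = q → v ∈ Y := fun q =>
    ⟨fun h => ⟨fun e => hD (e ▸ h), fun v hv => .inl (.inr (by simpa [hv] using h))⟩,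
      fun ⟨h0, h⟩ => by
      refine ((c1 q).2 ⟨h0, s q, h _ (hs q), hs q⟩).resolve_right fun hq => hw0 ?_
      have e : π (s q + w) = q := by rw [map_add, hs, hw, add_zero]
      have := c3 _ (h _ e) (by rwa [e])
      rwa [e, add_eq_left] at this⟩
  refine ⟨Y, fun h => hX0 ((c0 0).2 ⟨h, map_zero π⟩), fun g hg => ?_, ?_⟩
  · have a0 := hXr g fun v => by rw [c0, c0, hg, hsm, smul_eq_zero_iff_eq]
    have a1 := hr g (fun q => by
      rw [c1, c1, Ne, smul_eq_zero_iff_eq]
      refine and_congr_right fun _ => ⟨fun ⟨v, hv, e⟩ => ⟨g⁻¹ • v, ?_, ?_⟩,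
        fun ⟨v, hv, e⟩ => ⟨g • v, (hg v).2 hv, by rw [hsm, e]⟩⟩
      · rwa [← hg, smul_inv_smul]
      · rw [hsm, e, inv_smul_smul]) (fun q => by
      rw [c2, c2, Ne, smul_eq_zero_iff_eq]
      refine and_congr_right fun _ => ⟨fun h v e => (hg v).1 (h _ (by rw [hsm, e])),
        fun h v e => ?_⟩
      rw [← smul_inv_smul g v, hg]
      exact h _ (by rw [hsm, e, inv_smul_smul]))
    have a2 : ∀ q, g • s q = s q := fun q => by
      have hq : q ∈ AddSubgroup.closure S := hsp ▸ AddSubgroup.mem_top q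
      have b : ∀ v, g • s (π v) = s (π v) ↔ g • v = v := fun v => by
        have := a0 (v - s (π v)) (by rw [AddMonoidHom.mem_ker, map_sub, hs, sub_self])
        rw [smul_sub] at this
        exact ⟨fun h => by rwa [h, sub_left_inj] at this, fun h => by rwa [h, sub_right_inj] at this⟩
      induction hq using AddSubgroup.closure_induction with
      | mem q hq =>
        have e : π (g • s q) = q := by rw [hsm, hs, a1]
        have := c3 _ ((hg _).2 (.inr ⟨q, hq, rfl⟩)) (by rwa [e])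
        rwa [e] at this
      | zero => simpa using (b 0).2 (smul_zero g)
      | add x y _ _ hx hy => simpa [hs x, hs y] using (b (s x + s y)).2 (by rw [smul_add, hx, hy])
      | neg x _ hx => simpa [hs x] using (b (-s x)).2 (by rw [smul_neg, hx])
    intro v
    have := a0 (v - s (π v)) (by rw [AddMonoidHom.mem_ker, map_sub, hs, sub_self])
    rwa [smul_sub, a2, sub_left_inj] at this
  · haveI : Finite Q := Finite.of_surjective π hπ
    refine (Set.ncard_union_le _ _).trans (add_le_add ((Set.ncard_union_le _ _).trans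
      (add_le_add le_rfl ?_)) (Set.ncard_image_le))
    rw [← Nat.card_coe_set_eq, ← Nat.card_coe_set_eq, ← Nat.card_prod]
    refine Nat.card_le_card_of_injective (fun v => (⟨v - s (π v), by
      rw [AddMonoidHom.mem_ker, map_sub, hs, sub_self]⟩, ⟨π v, v.2⟩)) fun a b h => ?_
    simp only [Prod.mk.injEq, Subtype.mk.injEq] at h
    rw [h.2, sub_left_inj] at h
    exact Subtype.ext h.1

theorem closure_eq_top_of_card [Finite Ω] (S : Set Ω) (h0 : 0 ∉ S)
    (h : Nat.card Ω < 2 * (S.ncard + 1)) : AddSubgroup.closure S = ⊤ := by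
  by_contra hn
  have a := (AddSubgroup.closure S).card_mul_index
  have b : (AddSubgroup.closure S).index ≠ 1 := by rwa [Ne, AddSubgroup.index_eq_one]
  have c : (AddSubgroup.closure S).index ≠ 0 := AddSubgroup.index_ne_zero_of_finite
  have d : (insert 0 S).ncard ≤ Nat.card (AddSubgroup.closure S) :=
    Set.ncard_le_ncard (Set.insert_subset (zero_mem _) AddSubgroup.subset_closure)
  rw [Set.ncard_insert_of_notMem h0] at d
  have : Nat.card (AddSubgroup.closure S) * 2 ≤ Nat.card Ω :=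
    a ▸ Nat.mul_le_mul_left _ (by omega)
  omega

theorem exists_small_span [Finite Ω] (h2 : ∀ v : Ω, v + v = 0) (S : Set Ω)
    (h : AddSubgroup.closure S = ⊤) :
    ∃ B ⊆ S, AddSubgroup.closure B = ⊤ ∧ 2 ^ B.ncard = Nat.card Ω := by
  have key : ∀ [Module (ZMod 2) Ω], ∃ B ⊆ S, AddSubgroup.closure B = ⊤ ∧
      2 ^ B.ncard = Nat.card Ω := by
    intro _
    have e : ∀ T : Set Ω, Submodule.span (ZMod 2) T = ⊤ ↔ AddSubgroup.closure T = ⊤ := fun T => by
      rw [← (AddSubgroup.toZModSubmodule 2).injective.eq_iff, map_top]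
      refine Eq.congr_left (le_antisymm (Submodule.span_le.2 AddSubgroup.subset_closure) ?_)
      exact (AddSubgroup.closure_le (Submodule.span (ZMod 2) T).toAddSubgroup).2
        Submodule.subset_span
    obtain ⟨t, h1, h3, h4, -⟩ := Submodule.exists_finset_span_eq_linearIndepOn (ZMod 2) S
    rw [(e S).2 h] at h3 h4
    refine ⟨t, h1, (e t).1 h4, ?_⟩
    rw [Set.ncard_coe_finset, h3, finrank_top, Module.natCard_eq_pow_finrank (K := ZMod 2)]
    simp
  exact @key (AddCommGroup.zmodModule (n := 2) fun v => by rw [two_smul, h2])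

end

theorem flag_set {V H : Type u} [Group H] [Finite H] (ih : IH V) (hs : Group.IsSolvable H)
    (h3 : ¬ 3 ∣ Nat.card H) (n : ℕ) : ∀ (Ω : Type u) [AddCommGroup Ω] [Finite Ω]
    [DistribMulAction H Ω], Nat.card Ω = n → n < Nat.card V → (∀ v : Ω, v + v = 0) →
    ∃ X : Set Ω, 0 ∉ X ∧ RigidSet H X ∧ 8 * X.ncard < 3 * Nat.card Ω ∧
      (Nat.card Ω ≤ 2 → X = ∅) := by
  induction n using Nat.strong_induction_on with
  | _ n IHn =>
  intro Ω _ _ _ hn hV h2
  have hpos : 0 < Nat.card Ω := Nat.card_pos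
  by_cases hle : Nat.card Ω ≤ 2
  · refine ⟨∅, by simp, fun g _ v => ?_, by simpa using hpos, fun _ => rfl⟩
    by_cases hv : v = 0
    · rw [hv, smul_zero]
    have := Set.ncard_add_ncard_compl ({0} : Set Ω)
    rw [Set.ncard_singleton] at this
    exact Set.ncard_le_one_iff_subsingleton.1 (by omega : ({0}ᶜ : Set Ω).ncard ≤ 1)
      (fun h0 => hv ((smul_eq_zero_iff_eq g).1 h0)) hv
  have irr : ∀ (Q : Type u) [AddCommGroup Q] [Finite Q] [DistribMulAction H Q], Irr H Q →
      Nat.card Q ≤ n → (∀ v : Q, v + v = 0) → (Nat.card Q = 2 ∨ 8 ≤ Nat.card Q) ∧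
      ∃ R : Set Q, 0 ∉ R ∧ RigidSet H R ∧ R.ncard ≤ 2 := fun Q _ _ _ hi hc hq => by
    refine ⟨?_, exists_rigidSet_of_base h3 hq
      ((ih H Q (by omega) hs hi.cr).2 (Or.inr (Or.inl ⟨h3, hq⟩)))⟩
    have h4 := hi.card_ne_four h3 hq
    have := hi.1
    have h1 := Finite.one_lt_card (α := Q)
    obtain ⟨d, -, hd⟩ := exists_coords (Ω := Q) (r := 2) (fun v => by rw [two_smul, hq])
    rw [hd] at h1 h4 ⊢
    rcases d with _ | _ | _ | d
    · omega
    · simp
    · omega
    · right; rw [pow_succ, pow_succ, pow_succ]; have := Nat.one_le_two_pow (n := d); omega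
  haveI : Nontrivial Ω := Finite.one_lt_card_iff_nontrivial.1 (by omega)
  obtain ⟨W, ⟨hW, hWt⟩, hmax⟩ := WellFounded.has_min (wellFounded_gt (α := AddSubgroup Ω))
    {W | Inv H W ∧ W ≠ ⊤} ⟨⊥, fun g v hv => by
      rw [AddSubgroup.mem_bot.1 hv, smul_zero]; exact zero_mem _, bot_ne_top⟩
  by_cases hW0 : W = ⊥
  · subst hW0
    obtain ⟨hc, R, h0, hr, hR⟩ := irr Ω ⟨inferInstance, fun U hU => by
      by_contra hc
      push Not at hc
      exact hmax U ⟨hU, hc.2⟩ (bot_lt_iff_ne_bot.2 hc.1)⟩ hn.le h2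
    exact ⟨R, h0, hr, by omega, fun h => (hle h).elim⟩
  letI := hW.subAct
  letI := hW.quotAct
  have hcard := W.card_eq_card_quotient_mul_card_addSubgroup
  have hsm : ∀ (g : H) v, QuotientAddGroup.mk' W (g • v) = g • QuotientAddGroup.mk' W v :=
    fun _ _ => rfl
  have hWc : 2 ≤ Nat.card W := (AddSubgroup.one_lt_card_iff_ne_bot W).2 hW0
  have hq2 : ∀ q : Ω ⧸ W, q + q = 0 := fun q => by
    induction q using QuotientAddGroup.induction_on with
    | _ v => rw [← QuotientAddGroup.mk_add, h2]; rfl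
  obtain ⟨hc, R, hR0, hr, hR⟩ := irr (Ω ⧸ W) ⟨QuotientAddGroup.nontrivial_iff.2 hWt, fun U hU => by
    by_cases h : U.comap (QuotientAddGroup.mk' W) = ⊤
    · right
      rw [← AddSubgroup.map_comap_eq_self_of_surjective (QuotientAddGroup.mk'_surjective W) U, h,
        AddSubgroup.map_top_of_surjective _ (QuotientAddGroup.mk'_surjective W)]
    · left
      have hle : W ≤ U.comap (QuotientAddGroup.mk' W) := fun v hv => by
        rw [AddSubgroup.mem_comap, QuotientAddGroup.mk'_apply, (QuotientAddGroup.eq_zero_iff v).2 hv]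
        exact zero_mem _
      have := hle.eq_of_not_lt (hmax _ ⟨fun g v hv => hU g _ hv, h⟩)
      rw [← AddSubgroup.map_comap_eq_self_of_surjective (QuotientAddGroup.mk'_surjective W) U,
        ← this, AddSubgroup.map_eq_bot_iff, QuotientAddGroup.ker_mk']⟩
    (by rw [← hn, hcard]; exact Nat.le_mul_of_pos_right _ (by omega)) hq2
  have hWn : Nat.card W < n := by
    have : 2 ≤ Nat.card (Ω ⧸ W) := by omega
    rw [← hn, hcard]; nlinarith
  obtain ⟨X, hX0, hXr, hXc, hXe⟩ := IHn (Nat.card W) hWn W rfl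
    (by omega) fun v => Subtype.ext (h2 v)
  have asm := rigidSet_assemble (H := H) (QuotientAddGroup.mk' W) (QuotientAddGroup.mk'_surjective W)
    hsm (by rwa [QuotientAddGroup.ker_mk']) (Subtype.val '' X)
    (by rintro _ ⟨v, -, rfl⟩; rw [QuotientAddGroup.ker_mk']; exact v.2)
    (by rintro ⟨v, hv, e⟩; exact hX0 ((Subtype.ext e : v = 0) ▸ hv))
    (fun g hg v hv => by
      rw [QuotientAddGroup.ker_mk'] at hv
      refine congrArg Subtype.val (hXr g (fun w => ?_) ⟨v, hv⟩)
      rw [← Subtype.val_injective.mem_set_image, ← Subtype.val_injective.mem_set_image (a := w)]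
      exact hg w)
  rw [Set.ncard_image_of_injective _ Subtype.val_injective, QuotientAddGroup.ker_mk'] at asm
  have compl : ∀ R : Set (Ω ⧸ W), 0 ∉ R → (insert 0 R)ᶜ.ncard + R.ncard + 1 = Nat.card (Ω ⧸ W) :=
    fun R h => by
    have := Set.ncard_add_ncard_compl (insert 0 R)
    rw [Set.ncard_insert_of_notMem h] at this
    omega
  have optA : ∀ R : Set (Ω ⧸ W), 0 ∉ R → RigidSet H R → 2 * R.ncard < Nat.card (Ω ⧸ W) →
      ∃ Y : Set Ω, 0 ∉ Y ∧ RigidSet H Y ∧ Y.ncard + R.ncard + 1 ≤ X.ncard + Nat.card (Ω ⧸ W) :=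
    fun R h0 hr hc => by
    have := compl R h0
    obtain ⟨Y, a, b, c⟩ := asm ∅ (insert 0 R)ᶜ (by simp) (by simp) (by simp)
      (closure_eq_top_of_card _ (by simp) (by omega)) fun g hg _ => hr g fun q => by
        by_cases hq : q = 0
        · simp [hq]
        · have := hg q
          simp only [Set.empty_union, Set.mem_compl_iff, Set.mem_insert_iff, hq,
            smul_eq_zero_iff_eq, false_or] at this
          exact not_iff_not.1 this
    exact ⟨Y, a, b, by simp only [Set.ncard_empty] at c; omega⟩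
  rcases hc with hc | hc
  · obtain ⟨Y, a, b, c⟩ := optA ∅ (by simp) (fun g _ q => by
      obtain ⟨X', -, h, -, h'⟩ := IHn 2 (by omega) (Ω ⧸ W) hc (by omega) hq2
      exact h g (by simp [h' hc.le]) q) (by simp [hc])
    refine ⟨Y, a, b, ?_, fun h => (hle h).elim⟩
    rw [hcard, hc]
    simp only [Set.ncard_empty, hc] at c
    by_cases h : Nat.card W ≤ 2
    · rw [hXe h, Set.ncard_empty] at c; omega
    · omega
  by_cases h : Nat.card W ≤ 2 ∧ (R.ncard ≤ 1 ∨ Nat.card (Ω ⧸ W) ≠ 8)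
  · have := compl R hR0
    obtain ⟨B, hB, hB1, hB2⟩ := exists_small_span hq2 (insert 0 R)ᶜ
      (closure_eq_top_of_card _ (by simp) (by omega))
    obtain ⟨Y, a, b, c⟩ := asm R B (Set.disjoint_left.2 fun q h1 h2 => hB h2 (.inr h1)) hR0
      (fun h => hB h (.inl rfl)) hB1 fun g _ hg => hr g hg
    refine ⟨Y, a, b, ?_, fun h => (hle h).elim⟩
    rw [hXe h.1, Set.ncard_empty] at c
    have hW2 : Nat.card W = 2 := by omega
    rw [hW2] at c
    rw [hcard, hW2]
    rw [← hB2] at hc h ⊢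
    generalize B.ncard = d at c hc h
    have k : ∀ d, 8 * (4 + (d + 4)) < 3 * (2 ^ (d + 4) * 2) := fun d => by
      induction d with
      | zero => norm_num
      | succ d ih => rw [add_right_comm, pow_succ]; omega
    rcases d with _ | _ | _ | _ | d
    · omega
    · omega
    · omega
    · omega
    · have := k d
      rw [show d + 1 + 1 + 1 + 1 = d + 4 from rfl] at c ⊢
      omega
  · obtain ⟨Y, a, b, c⟩ := optA R hR0 hr (by omega)
    refine ⟨Y, a, b, ?_, fun h => (hle h).elim⟩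
    rw [hcard]
    by_cases h' : Nat.card W ≤ 2
    · rw [hXe h', Set.ncard_empty] at c
      rw [show Nat.card W = 2 by omega]; omega
    · nlinarith

open Classical in
theorem FLAG {V H Ω : Type u} [Group H] [Finite H] [AddCommGroup Ω] [Finite Ω]
    [DistribMulAction H Ω] (ih : IH V) (hlt : Nat.card Ω < Nat.card V) (hs : Group.IsSolvable H)
    (h3 : ¬ 3 ∣ Nat.card H) (h2 : ∀ v : Ω, v + v = 0) :
    ∃ col : Ω → Option (Fin 1), Rigid H col ∧ 8 * holes col < 3 * Nat.card Ω := by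
  obtain ⟨X, h0, hr, hc, -⟩ := flag_set ih hs h3 _ Ω rfl hlt h2
  refine ⟨fun v => if v ∈ X then none else some 0, fun g hg => hr g fun v => ?_, ?_⟩
  · by_cases hv : v = 0
    · simp [hv]
    · exact ite_none_iff (hg v hv)
  · refine lt_of_le_of_lt (Nat.mul_le_mul_left _ (holes_le _ (Subtype.val : X → Ω)
      fun w _ hw => ⟨⟨w, by simpa using hw⟩, rfl⟩)) hc

end Cfsg.Lib.Base
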