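import Cfsg.Agent.Base.Core
import Cfsg.Agent.Solv.MinNormal

/-!
# The family of normal subgroups of symplectic type, and the global assembly
-/

set_option autoImplicit false
set_option linter.unusedSectionVars false

namespace Cfsg.Lib.Base

open Subgroup Setup QuotientGroup
open scoped commutatorElement

universe u

variable {K V : Type*} {Γ : Type u} [Field K] [AddCommGroup V] [Module K V] [Group Γ]
  [DistribMulAction Γ V] [Nontrivial V] {S : Setup K V Γ} {r : ℕ} {M L : Subgroup Γ} {x : V}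

/-- A family of commuting subgroups of symplectic type with scalar centralizer. -/
structure Fam (S : Setup K V Γ) (P : Finset ℕ) (M : ℕ → Subgroup Γ) : Prop where
  heis : ∀ r ∈ P, Heis S r (M r)
  comm : ∀ r ∈ P, ∀ s ∈ P, r ≠ s → M r ≤ centralizer (M s : Set Γ)
  cent : ∀ g ∈ S.A, (∀ r ∈ P, g ∈ centralizer (M r : Set Γ)) → g ∈ S.U

theorem pow_eq_one_of_conj {a b c : Γ} {n : ℕ} (h1 : b * a * b⁻¹ = c * a) (h2 : c * a = a * c)
    (h3 : a ^ n * b = b * a ^ n) : c ^ n = 1 := by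
  have h4 := congrArg (· ^ n) h1
  simp only [conj_pow, Commute.mul_pow h2, ← h3, mul_inv_cancel_right] at h4
  exact right_eq_mul.1 h4

theorem exists_fam [Finite Γ] [Group.IsSolvable Γ] (S : Setup K V Γ) : ∃ P M, Fam S P M := by
  have := S.normal
  have h1 : ∀ r : ℕ, r.Prime → ∃ M, Maximal (Heis S r) M := fun r hr =>
    (Finite.exists_le_maximal (p := Heis S r) (a := S.U) ⟨hr, S.normal, le_rfl, U_le_A,
      fun a ha b hb => mul_mem (mul_mem (mul_mem ha hb) (inv_mem ha)) (inv_mem hb),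
      fun a ha => pow_mem ha r⟩).imp fun _ h => h.2
  choose! M hM using h1
  have hP : ∀ r ∈ (Nat.card Γ).primeFactors, Heis S r (M r) := fun r hr =>
    (hM r (Nat.prime_of_mem_primeFactors hr)).1
  refine ⟨(Nat.card Γ).primeFactors, M, hP, fun r hr s hs hrs b hb a ha => ?_, fun g hg h2 => ?_⟩
  · have h1 := hP r hr
    have h2 := hP s hs
    have hc := (Nat.coprime_primes h1.prime h2.prime).2 hrs
    have h3 : ⁅b, a⁆ ∈ S.U := by
      rw [← eq_one_iff, ← pow_eq_one_iff_of_coprime hc, ← mk_pow, ← mk_pow, eq_one_iff, eq_one_iff]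
      exact ⟨h1.pow _ (by
          simpa [commutatorElement_def, mul_assoc] using mul_mem hb (h1.conj_mem (inv_mem hb) a)),
        h2.pow _ (mul_mem (h2.conj_mem ha b) (inv_mem ha))⟩
    rw [eq_comm, ← commutatorElement_eq_one_iff_mul_comm, ← pow_eq_one_iff_of_coprime hc]
    refine ⟨?_, pow_eq_one_of_conj (a := a) (b := b) (by group) (h2.le_A ha _ h3)
      (h1.le_A hb _ (h2.pow a ha))⟩
    rw [← inv_eq_one, ← inv_pow]
    exact pow_eq_one_of_conj (a := b) (b := a) (by group) (h1.le_A hb _ (inv_mem h3))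
      (h2.le_A ha _ (h1.pow b hb))
  let C : Subgroup Γ := S.A ⊓ ⨅ r ∈ (Nat.card Γ).primeFactors, centralizer (M r : Set Γ)
  have hC : C.Normal := ⟨fun c hc y => ⟨normal_centralizer.conj_mem _ hc.1 y, mem_iInf.2 fun r =>
    mem_iInf.2 fun hr => by
      have := (hP r hr).normal
      exact normal_centralizer.conj_mem _ (mem_iInf.1 (mem_iInf.1 hc.2 r) hr) y⟩⟩
  have hUC : S.U ≤ C := le_inf U_le_A (le_iInf₂ fun r hr => le_centralizer_iff.1 (hP r hr).le_A)
  by_contra h3
  have := hC.map (mk' S.U) (mk'_surjective _)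
  obtain ⟨r, N, hr, h4, h5, h6, h7, h8⟩ := Solv.exists_isMinNormal_elementary_le (C.map (mk' S.U))
    fun e => h3 (by
      rw [Subgroup.map_eq_bot_iff, ker_mk'] at e
      exact e ⟨hg, mem_iInf.2 fun r => mem_iInf.2 (h2 r)⟩)
  have := h4.normal
  have := Fact.mk hr
  have h9 : N.comap (mk' S.U) ≤ C := by
    refine (comap_mono h5).trans ?_
    rw [comap_map_eq, ker_mk', sup_eq_left.2 hUC]
  have h10 : r ∈ (Nat.card Γ).primeFactors := Nat.mem_primeFactors.2 ⟨hr, ((h8.card_eq_or_dvd.resolve_left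
    (mt card_eq_one.1 h4.ne_bot)).trans (card_subgroup_dvd_card N)).trans (card_quotient_dvd_card _),
    Nat.card_pos.ne'⟩
  have h11 := hP r h10
  have := h11.normal
  have h12 : N.comap (mk' S.U) ≤ centralizer (M r : Set Γ) :=
    h9.trans (inf_le_right.trans (iInf₂_le r h10))
  have h13 : ∀ y ∈ M r ⊔ N.comap (mk' S.U), ∃ m ∈ M r, ∃ n ∈ N.comap (mk' S.U), y = m * n :=
    fun y hy => by
      obtain ⟨m, hm, n, hn, rfl⟩ := mem_sup_of_normal_right.1 hy
      exact ⟨m, hm, n, hn, rfl⟩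
  have h14 : ∀ a ∈ M r, ∀ b ∈ M r, Commute (mk' S.U a) (mk' S.U b) := fun a ha b hb => by
    rw [← commutatorElement_eq_one_iff_commute, ← map_commutatorElement, mk'_apply, eq_one_iff]
    exact h11.comm a ha b hb
  have h15 : ∀ a ∈ M r, ∀ b ∈ N.comap (mk' S.U), Commute (mk' S.U a) (mk' S.U b) :=
    fun a ha b hb => Commute.map (h12 hb a ha) _
  have h16 := (hM r hr).2 (y := M r ⊔ N.comap (mk' S.U)) ⟨hr, inferInstance,
    h11.U_le.trans le_sup_left, sup_le h11.le_A (h9.trans inf_le_left), fun y hy z hz => by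
      obtain ⟨m, hm, n, hn, rfl⟩ := h13 y hy
      obtain ⟨m', hm', n', hn', rfl⟩ := h13 z hz
      rw [← eq_one_iff, ← mk'_apply, map_commutatorElement, commutatorElement_eq_one_iff_commute,
        map_mul, map_mul]
      exact ((h14 m hm m' hm').mul_right (h15 m hm n' hn')).mul_left
        ((h15 m' hm' n hn).symm.mul_right (setLike_mul_comm (s := N) hn hn')),
    fun y hy => by
      obtain ⟨m, hm, n, hn, rfl⟩ := h13 y hy
      rw [← eq_one_iff, ← mk'_apply, map_pow, map_mul, (h15 m hm n hn).mul_pow, h7 _ hn, mul_one,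
        ← map_pow, mk'_apply, eq_one_iff]
      exact h11.pow m hm⟩ le_sup_left
  have h17 := S.max (N.comap (mk' S.U)) inferInstance
    (fun a ha b hb => h12 hb a (h16 (mem_sup_right ha)))
    fun u hu => by rw [mem_comap, mk'_apply, (eq_one_iff u).2 hu]; exact one_mem _
  refine h4.ne_bot (eq_bot_iff.2 fun y hy => ?_)
  obtain ⟨y, rfl⟩ := mk'_surjective _ y
  exact (eq_one_iff y).2 (h17 hy)

theorem Fam.hasBase {P : Finset ℕ} {M L : ℕ → Subgroup Γ} (h : Fam S P M) (hx : x ≠ 0)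
    (e : ∀ r ∈ P, Eig S (M r) (L r) x) {j : ℕ} (y₀ : Fin j → V)
    (hy : ∀ r ∈ P, ∀ t, y₀ t ∈ V0 (L r) x)
    (core : ∀ g : Γ, g • x = x → (∀ t, g • y₀ t = y₀ t) →
      g ∈ S.A ∧ ∀ r ∈ P, ∀ c ∈ Cz (M r) (L r), g • c • x = c • x)
    (loc : ∀ r ∈ P, LocGood S (M r) (L r) x j) : HasBase Γ V (j + 1) := by
  classical
  choose! y hy1 hy2 using loc
  refine ⟨Fin.cons x fun t => y₀ t + ∑ r ∈ P, y r t, fun g hg v => ?_⟩
  have h1 : g • x = x := hg 0
  have h2 : ∀ t, g • (y₀ t + ∑ r ∈ P, y r t) = y₀ t + ∑ r ∈ P, y r t := fun t => hg t.succ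
  have h3 := fun r hr => hy2 r hr g h1 (fun t => y₀ t + ∑ s ∈ P.erase r, y s t) (fun t =>
    add_mem (hy r hr t) (sum_mem fun s hs => span_le_V0 ((e r hr).le.trans (h.heis r hr).le_A)
      ((h.comm s (Finset.mem_of_mem_erase hs) r hr (Finset.ne_of_mem_erase hs)).trans
        (centralizer_le (e r hr).le)) (hy1 s (Finset.mem_of_mem_erase hs) t)))
    fun t => by rw [add_assoc, Finset.sum_erase_add _ _ hr, h2]
  obtain ⟨h4, h5⟩ := core g h1 fun t => by
    have h4 := h2 t
    rwa [smul_add, Finset.smul_sum, Finset.sum_congr rfl fun r hr => (h3 r hr).1 t,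
      add_left_inj] at h4
  rw [eq_one_of_smul (h.cent g h4 fun r hr => (h3 r hr).2 h4 (h5 r hr)) hx h1, one_smul]

theorem locGood_of_le (hM : M ≤ S.U) (j : ℕ) : LocGood S M L x j :=
  ⟨0, fun _ => zero_mem _, fun _ _ _ _ _ => ⟨fun _ => smul_zero _, fun hg _ m hm => hg m (hM hm)⟩⟩

end Cfsg.Lib.Base
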