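import Cfsg.Agent.Base.PrimField

/-!
# Normal subgroups of symplectic type of a primitive linear group
-/

set_option autoImplicit false
set_option linter.unusedSectionVars false

namespace Cfsg.Lib.Base

open Subgroup
open scoped commutatorElement

universe u

/-- `pr` presents the abelian section `M / C` as an additive `H`-module. -/
structure Sec {Γ : Type*} [Group Γ] (M C H : Subgroup Γ) {Ω : Type*} [AddCommGroup Ω]
    [DistribMulAction H Ω] (pr : Γ → Ω) : Prop where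
  mul : ∀ a ∈ M, ∀ b ∈ M, pr (a * b) = pr a + pr b
  surj : ∀ ω, ∃ a ∈ M, pr a = ω
  eq_zero : ∀ a ∈ M, pr a = 0 ↔ a ∈ C
  conj : ∀ (h : H), ∀ a ∈ M, pr (h * a * (h : Γ)⁻¹) = h • pr a

theorem exists_sec {Γ : Type u} [Group Γ] [Finite Γ] {M C H : Subgroup Γ}
    (hc : ∀ a ∈ M, ∀ b ∈ M, ⁅a, b⁆ ∈ C) (hM : H ≤ normalizer (M : Set Γ))
    (hC : H ≤ normalizer (C : Set Γ)) : ∃ (Ω : Type u) (_ : AddCommGroup Ω) (_ : Finite Ω)
      (_ : DistribMulAction H Ω) (pr : Γ → Ω), Sec M C H pr := by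
  classical
  have hN : (C.subgroupOf M).Normal := ⟨fun n hn g => by
    have := mul_mem (hc g g.2 n n.2) (mem_subgroupOf.1 hn)
    rwa [commutatorElement_def, inv_mul_cancel_right] at this⟩
  let _ : CommGroup (M ⧸ C.subgroupOf M) :=
    { mul_comm := fun a b => QuotientGroup.induction_on a fun a => QuotientGroup.induction_on b
        fun b => QuotientGroup.eq.2 (by
          have := hc _ (inv_mem b.2) _ (inv_mem a.2)
          simpa [mem_subgroupOf, commutatorElement_def, mul_assoc] using this) }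
  let c : H → M →* M := fun h => ((MulAut.conj (h : Γ)).toMonoidHom.comp M.subtype).codRestrict M
    fun a => (mem_normalizer_iff.1 (hM h.2) _).1 a.2
  let f : H → M ⧸ C.subgroupOf M →* M ⧸ C.subgroupOf M := fun h =>
    QuotientGroup.map _ _ (c h) fun a ha => (mem_normalizer_iff.1 (hC h.2) _).1 ha
  let _ : DistribMulAction H (Additive (M ⧸ C.subgroupOf M)) :=
    { smul := fun h w => Additive.ofMul (f h w.toMul)
      one_smul := fun w => QuotientGroup.induction_on (C := fun w => f 1 w = w) w.toMul fun a =>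
        congrArg QuotientGroup.mk (Subtype.ext (by simp [c]))
      mul_smul := fun g h w => QuotientGroup.induction_on (C := fun w => f (g * h) w = f g (f h w))
        w.toMul fun a => congrArg QuotientGroup.mk (Subtype.ext (by simp [c, mul_assoc]))
      smul_zero := fun h => map_one (f h)
      smul_add := fun h a b => map_mul (f h) a.toMul b.toMul }
  let pr : Γ → Additive (M ⧸ C.subgroupOf M) := fun a =>
    if h : a ∈ M then Additive.ofMul (QuotientGroup.mk ⟨a, h⟩) else 0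
  have hpr : ∀ a (h : a ∈ M), pr a = Additive.ofMul (QuotientGroup.mk ⟨a, h⟩) := fun a h => dif_pos h
  refine ⟨Additive (M ⧸ C.subgroupOf M), inferInstance, inferInstance, inferInstance, pr,
    fun a ha b hb => ?_, fun w => ?_, fun a ha => ?_, fun h a ha => ?_⟩
  · rw [hpr _ (mul_mem ha hb), hpr _ ha, hpr _ hb]; rfl
  · obtain ⟨a, h⟩ := QuotientGroup.mk_surjective w.toMul
    exact ⟨a, a.2, (hpr _ a.2).trans (congrArg Additive.ofMul h)⟩
  · rw [hpr _ ha]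
    exact QuotientGroup.eq_one_iff (⟨a, ha⟩ : M)
  · rw [hpr _ ((mem_normalizer_iff.1 (hM h.2) _).1 ha), hpr _ ha]; rfl

namespace Sec

variable {Γ : Type*} [Group Γ] {M C H : Subgroup Γ} {Ω : Type*} [AddCommGroup Ω]
  [DistribMulAction H Ω] {pr : Γ → Ω} (h : Sec M C H pr)
include h

theorem one : pr 1 = 0 := by simpa using h.mul 1 M.one_mem 1 M.one_mem

theorem inv {a : Γ} (ha : a ∈ M) : pr a⁻¹ = -pr a := by
  rw [eq_neg_iff_add_eq_zero, ← h.mul _ (inv_mem ha) _ ha, inv_mul_cancel, h.one]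

theorem pow {a : Γ} (ha : a ∈ M) (n : ℕ) : pr (a ^ n) = n • pr a := by
  induction n with
  | zero => rw [pow_zero, h.one, zero_smul]
  | succ n ih => rw [pow_succ, h.mul _ (pow_mem ha n) _ ha, ih, succ_nsmul]

theorem eq_iff {a b : Γ} (ha : a ∈ M) (hb : b ∈ M) : pr a = pr b ↔ a⁻¹ * b ∈ C := by
  rw [← h.eq_zero _ (mul_mem (inv_mem ha) hb), h.mul _ (inv_mem ha) _ hb, h.inv ha,
    neg_add_eq_zero]

theorem nsmul_eq_zero {r : ℕ} (hr : ∀ a ∈ M, a ^ r ∈ C) (ω : Ω) : r • ω = 0 := by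
  obtain ⟨a, ha, rfl⟩ := h.surj ω
  rw [← h.pow ha, h.eq_zero _ (pow_mem ha r)]
  exact hr a ha

end Sec

namespace Setup

variable {K V Γ : Type*} [Field K] [AddCommGroup V] [Module K V] [Group Γ]
  [DistribMulAction Γ V] (S : Setup K V Γ)

/-- The scalars. -/
abbrev U : Subgroup Γ := S.ι.range

/-- The linear elements. -/
abbrev A : Subgroup Γ := centralizer (S.U : Set Γ)

/-- The scalar of a scalar element. -/
noncomputable def sc (a : Γ) : Kˣ := Function.invFun S.ι a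

/-- The commutator as a scalar. -/
noncomputable def cm (a b : Γ) : Kˣ := S.sc ⁅a, b⁆

variable {S}

theorem ι_sc {a : Γ} (h : a ∈ S.U) : S.ι (S.sc a) = a := Function.invFun_eq h

theorem ι_mem (u : Kˣ) : S.ι u ∈ S.U := ⟨u, rfl⟩

theorem ι_comm {g : Γ} (hg : g ∈ S.A) (u : Kˣ) : S.ι u * g = g * S.ι u := hg _ ⟨u, rfl⟩

theorem U_le_A : S.U ≤ S.A := by
  rintro _ ⟨u, rfl⟩ _ ⟨w, rfl⟩
  rw [← map_mul, ← map_mul, mul_comm]

theorem smul_smul {g : Γ} (hg : g ∈ S.A) (c : K) (v : V) : g • c • v = c • g • v := by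
  rcases eq_or_ne c 0 with rfl | hc
  · rw [zero_smul, zero_smul, smul_zero]
  · have := congrArg (· • v) (ι_comm hg (Units.mk0 c hc))
    simpa only [mul_smul, S.ι_smul, Units.val_mk0] using this.symm

theorem exists_smul_smul (S : Setup K V Γ) (g : Γ) (c : K) :
    ∃ c' : K, (c' = 0 ↔ c = 0) ∧ ∀ v : V, g • c • v = c' • g • v := by
  rcases eq_or_ne c 0 with rfl | hc
  · exact ⟨0, Iff.rfl, fun v => by rw [zero_smul, zero_smul, smul_zero]⟩
  · obtain ⟨u, hu⟩ := S.normal.conj_mem _ (ι_mem (Units.mk0 c hc)) g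
    refine ⟨u, by simp [hc], fun v => ?_⟩
    rw [← S.ι_smul, hu, mul_smul, mul_smul, inv_smul_smul, S.ι_smul, Units.val_mk0]

theorem eq_of_smul_eq {c d : K} {v : V} (hv : v ≠ 0) (h : c • v = d • v) : c = d :=
  smul_left_injective K hv h

theorem ι_eq_of_smul {u w : Kˣ} {v : V} (hv : v ≠ 0) (h : S.ι u • v = S.ι w • v) : u = w :=
  Units.ext (eq_of_smul_eq hv (by rwa [← S.ι_smul, ← S.ι_smul]))

theorem eq_one_of_smul {a : Γ} (ha : a ∈ S.U) {v : V} (hv : v ≠ 0) (h : a • v = v) : a = 1 := by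
  obtain ⟨u, rfl⟩ := ha
  rw [ι_eq_of_smul (S := S) (u := u) (w := 1) hv (by rwa [map_one, one_smul]), map_one]

/-- The linear map of a linear element. -/
def lin (g : S.A) : Module.End K V where
  toFun v := (g : Γ) • v
  map_add' := smul_add _
  map_smul' := smul_smul g.2

variable [Nontrivial V]

theorem ι_injective : Function.Injective S.ι := fun _ _ h =>
  let ⟨v, hv⟩ := exists_ne (0 : V)
  ι_eq_of_smul hv (congrArg (· • v) h)

theorem sc_ι (u : Kˣ) : S.sc (S.ι u) = u := ι_injective (ι_sc (ι_mem u))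

theorem cm_eq_one_iff {a b : Γ} (h : ⁅a, b⁆ ∈ S.U) : S.cm a b = 1 ↔ a * b = b * a := by
  rw [← commutatorElement_eq_one_iff_mul_comm, ← ι_sc h, map_eq_one_iff _ ι_injective, cm]

theorem cm_self (a : Γ) : S.cm a a = 1 := by
  rw [cm, commutatorElement_self, ← map_one S.ι, sc_ι]

theorem cm_conj {g a b : Γ} (hg : g ∈ S.A) (h : ⁅a, b⁆ ∈ S.U) :
    S.cm (g * a * g⁻¹) (g * b * g⁻¹) = S.cm a b := by
  rw [cm, cm, ← conjugate_commutatorElement, ← hg _ h, mul_inv_cancel_right]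

end Setup

theorem card_hom_le (Ω K : Type*) [Group Ω] [Finite Ω] [Field K] :
    Nat.card (Ω →* Kˣ) ≤ Nat.card Ω := by
  have := Fintype.ofFinite Ω
  have h := (linearIndependent_monoidHom Ω K).comp (fun f : Ω →* Kˣ => (Units.coeHom K).comp f)
    fun f g e => MonoidHom.ext fun x => Units.ext (DFunLike.congr_fun e x)
  have : Finite (Ω →* Kˣ) := h.finite
  have := Fintype.ofFinite (Ω →* Kˣ)
  simpa using h.fintype_card_le_finrank

theorem units_sq_eq_one {K : Type*} [Field K] {u : Kˣ} (h : u ^ 2 = 1) : u = 1 ∨ u = -1 := by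
  have : (u : K) ^ 2 = 1 := by rw [← Units.val_pow_eq_pow_val, h, Units.val_one]
  exact (sq_eq_one_iff.1 this).imp Units.ext Units.ext

open Setup

variable {K V Γ : Type*} [Field K] [AddCommGroup V] [Module K V] [Group Γ]
  [DistribMulAction Γ V] [Nontrivial V] {S : Setup K V Γ} {r : ℕ} {M : Subgroup Γ}

/-- `M` is a linear normal subgroup, elementary abelian modulo the scalars. -/
structure Heis (S : Setup K V Γ) (r : ℕ) (M : Subgroup Γ) : Prop where
  prime : r.Prime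
  normal : M.Normal
  U_le : S.U ≤ M
  le_A : M ≤ S.A
  comm : ∀ a ∈ M, ∀ b ∈ M, ⁅a, b⁆ ∈ S.U
  pow : ∀ a ∈ M, a ^ r ∈ S.U

/-- `a ^ r` is the `r`-th power of a scalar. -/
def Spl (S : Setup K V Γ) (r : ℕ) (a : Γ) : Prop := ∃ u : Kˣ, a ^ r = S.ι (u ^ r)

/-- The exponent of the normalized elements. -/
def ex (r : ℕ) : ℕ := if r = 2 then 4 else r

theorem Spl.conj {a : Γ} (h : Spl S r a) (g : Γ) : Spl S r (g * a * g⁻¹) := by
  obtain ⟨u, hu⟩ := h
  obtain ⟨w, hw⟩ := S.normal.conj_mem _ (ι_mem u) g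
  exact ⟨w, by rw [conj_pow, hu, map_pow, map_pow, hw, conj_pow]⟩

theorem spl_of_mem_U {a : Γ} (h : a ∈ S.U) : Spl S r a := by
  obtain ⟨u, rfl⟩ := h
  exact ⟨u, (map_pow _ _ _).symm⟩

theorem Spl.mul {a b : Γ} (ha : Spl S r a) (hb : Spl S r b) (h : a * b = b * a) :
    Spl S r (a * b) := by
  obtain ⟨u, hu⟩ := ha
  obtain ⟨w, hw⟩ := hb
  exact ⟨u * w, by rw [Commute.mul_pow h, hu, hw, mul_pow, map_mul]⟩

namespace Heis

variable (h : Heis S r M) {a b c : Γ}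
include h

theorem conj_mem (ha : a ∈ M) (g : Γ) : g * a * g⁻¹ ∈ M := h.normal.conj_mem a ha g

theorem ι_mem (u : Kˣ) : S.ι u ∈ M := h.U_le ⟨u, rfl⟩

theorem mul_eq (ha : a ∈ M) (hb : b ∈ M) : a * b = S.ι (S.cm a b) * (b * a) := by
  rw [cm, ι_sc (h.comm a ha b hb)]; group

theorem smul_smul_eq (ha : a ∈ M) (hb : b ∈ M) (v : V) :
    a • b • v = (S.cm a b : K) • b • a • v := by
  rw [← mul_smul, h.mul_eq ha hb, mul_smul, mul_smul, S.ι_smul]

theorem cm_eq_one (ha : a ∈ M) (hb : b ∈ M) : S.cm a b = 1 ↔ a * b = b * a :=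
  cm_eq_one_iff (h.comm a ha b hb)

theorem cm_mul_left (ha : a ∈ M) (hb : b ∈ M) (hc : c ∈ M) :
    S.cm (a * b) c = S.cm a c * S.cm b c := by
  refine ι_injective (S := S) ?_
  rw [mul_comm, map_mul, cm, cm, cm, ι_sc (h.comm _ (mul_mem ha hb) c hc), ι_sc (h.comm a ha c hc),
    ι_sc (h.comm b hb c hc)]
  calc ⁅a * b, c⁆ = a * ⁅b, c⁆ * a⁻¹ * ⁅a, c⁆ := by group
    _ = _ := by rw [← h.le_A ha _ (h.comm b hb c hc), mul_inv_cancel_right]

theorem cm_swap (ha : a ∈ M) (hb : b ∈ M) : S.cm b a = (S.cm a b)⁻¹ := by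
  refine ι_injective (S := S) ?_
  rw [map_inv, cm, cm, ι_sc (h.comm a ha b hb), ι_sc (h.comm b hb a ha), commutatorElement_inv]

theorem cm_mul_right (ha : a ∈ M) (hb : b ∈ M) (hc : c ∈ M) :
    S.cm a (b * c) = S.cm a b * S.cm a c := by
  rw [h.cm_swap (mul_mem hb hc) ha, h.cm_mul_left hb hc ha, h.cm_swap hb ha, h.cm_swap hc ha,
    mul_inv]

theorem cm_U_left (ha : a ∈ S.U) (hb : b ∈ M) : S.cm a b = 1 :=
  (h.cm_eq_one (h.U_le ha) hb).2 (h.le_A hb a ha)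

theorem cm_U_right (ha : a ∈ M) (hb : b ∈ S.U) : S.cm a b = 1 :=
  (h.cm_eq_one ha (h.U_le hb)).2 (h.le_A ha b hb).symm

theorem cm_pow_left (ha : a ∈ M) (hb : b ∈ M) (n : ℕ) : S.cm (a ^ n) b = S.cm a b ^ n := by
  induction n with
  | zero => rw [pow_zero, pow_zero, h.cm_U_left (one_mem _) hb]
  | succ n ih => rw [pow_succ, pow_succ, h.cm_mul_left (pow_mem ha n) ha hb, ih]

theorem cm_pow_right (ha : a ∈ M) (hb : b ∈ M) (n : ℕ) : S.cm a (b ^ n) = S.cm a b ^ n := by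
  rw [h.cm_swap (pow_mem hb n) ha, h.cm_pow_left hb ha, h.cm_swap hb ha, inv_pow]

theorem cm_inv_left (ha : a ∈ M) (hb : b ∈ M) : S.cm a⁻¹ b = (S.cm a b)⁻¹ := by
  rw [eq_inv_iff_mul_eq_one, ← h.cm_mul_left (inv_mem ha) ha hb, inv_mul_cancel,
    h.cm_U_left (one_mem _) hb]

theorem cm_inv_right (ha : a ∈ M) (hb : b ∈ M) : S.cm a b⁻¹ = (S.cm a b)⁻¹ := by
  rw [h.cm_swap (inv_mem hb) ha, h.cm_inv_left hb ha, h.cm_swap hb ha, inv_inv]

theorem cm_pow (ha : a ∈ M) (hb : b ∈ M) : S.cm a b ^ r = 1 := by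
  rw [← h.cm_pow_left ha hb, h.cm_U_left (h.pow a ha) hb]

theorem mem_U_of_normal {N : Subgroup Γ} (hN : N.Normal) (hU : S.U ≤ N) (hM : N ≤ M) (ha : a ∈ N)
    (hc : ∀ b ∈ N, b * a = a * b) : a ∈ S.U :=
  S.max (N ⊓ centralizer (N : Set Γ)) inferInstance (fun _ hx _ hy => hy.2 _ hx.1)
    (fun u hu => ⟨hU hu, fun b hb => (h.le_A (hM hb) u hu).symm⟩) ⟨ha, hc⟩

theorem mem_U (ha : a ∈ M) (hc : ∀ b ∈ M, S.cm a b = 1) : a ∈ S.U :=
  h.mem_U_of_normal h.normal h.U_le le_rfl ha fun c hb => ((h.cm_eq_one ha hb).1 (hc c hb)).symm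

theorem mul_pow_eq (ha : a ∈ M) (hb : b ∈ M) (n : ℕ) :
    (a * b) ^ n = S.ι (S.cm b a ^ n.choose 2) * (a ^ n * b ^ n) := by
  induction n with
  | zero => simp
  | succ n ih =>
    have h1 := h.mul_eq (pow_mem hb n) ha
    rw [h.cm_pow_left hb ha] at h1
    rw [pow_succ, ih, Nat.choose_succ_succ' n 1, Nat.choose_one_right, add_comm n, pow_add, map_mul,
      pow_succ, pow_succ]
    calc _ = S.ι (S.cm b a ^ n.choose 2) * (a ^ n * (b ^ n * a) * b) := by group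
      _ = _ := by
        rw [h1, ← mul_assoc (a ^ n), ← ι_comm (h.le_A (pow_mem ha n))]
        group

theorem mul_pow_ex (ha : a ∈ M) (hb : b ∈ M) : (a * b) ^ ex r = a ^ ex r * b ^ ex r := by
  have h1 : r ∣ (ex r).choose 2 := by
    unfold ex
    split_ifs with h2
    · subst h2; decide
    · exact h.prime.dvd_choose_self two_ne_zero (lt_of_le_of_ne h.prime.two_le (Ne.symm h2))
  obtain ⟨k, hk⟩ := h1
  rw [h.mul_pow_eq ha hb, hk, pow_mul, h.cm_pow hb ha, one_pow, map_one, one_mul]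

variable [Finite Γ]

theorem exists_cm (χ : Γ → Kˣ) (h1 : ∀ a ∈ M, ∀ b ∈ M, χ (a * b) = χ a * χ b)
    (h2 : ∀ u ∈ S.U, χ u = 1) : ∃ b ∈ M, ∀ a ∈ M, χ a = S.cm b a := by
  obtain ⟨Ω, _, _, _, pr, hs⟩ := exists_sec (M := M) (C := S.U) (H := ⊥) h.comm bot_le bot_le
  choose n hn hn' using hs.surj
  let F : (φ : Γ → Kˣ) → (∀ a ∈ M, ∀ b ∈ M, φ (a * b) = φ a * φ b) → (∀ u ∈ S.U, φ u = 1) →
      {f : Multiplicative Ω →* Kˣ // ∀ a ∈ M, f (.ofAdd (pr a)) = φ a} := fun φ h1 h2 =>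
    have h3 : ∀ a ∈ M, φ (n (pr a)) = φ a := fun a ha => by
      have := (hs.eq_iff ha (hn _)).1 (hn' _).symm
      rw [← mul_inv_cancel_left a (n (pr a)), h1 _ ha _ (h.U_le this), h2 _ this, mul_one]
    ⟨MonoidHom.mk' (fun ω => φ (n ω.toAdd)) fun ω ω' => by
      rw [← h1 _ (hn _) _ (hn _), ← h3 _ (mul_mem (hn _) (hn _)), hs.mul _ (hn _) _ (hn _), hn',
        hn', toAdd_mul], h3⟩
  let Ψ : Ω → Multiplicative Ω →* Kˣ := fun ω => (F (S.cm (n ω))
    (fun a ha b hb => h.cm_mul_right (hn ω) ha hb) fun u hu => h.cm_U_right (hn ω) hu).1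
  have hΨ : ∀ ω, ∀ a ∈ M, Ψ ω (.ofAdd (pr a)) = S.cm (n ω) a := fun ω => (F (S.cm (n ω))
    (fun a ha b hb => h.cm_mul_right (hn ω) ha hb) fun u hu => h.cm_U_right (hn ω) hu).2
  have hinj : Function.Injective Ψ := fun ω ω' e => by
    rw [← hn' ω, ← hn' ω', hs.eq_iff (hn _) (hn _)]
    refine h.mem_U (mul_mem (inv_mem (hn _)) (hn _)) fun b hb => ?_
    rw [h.cm_mul_left (inv_mem (hn _)) (hn _) hb, h.cm_inv_left (hn _) hb, ← hΨ _ _ hb,
      ← hΨ _ _ hb, e, inv_mul_cancel]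
  have : Finite (Multiplicative Ω →* Kˣ) := ((linearIndependent_monoidHom _ K).comp
    (fun f : Multiplicative Ω →* Kˣ => (Units.coeHom K).comp f)
    fun f g e => MonoidHom.ext fun x => Units.ext (DFunLike.congr_fun e x)).finite
  obtain ⟨ω, hω⟩ := (hinj.bijective_of_nat_card_le (card_hom_le (Multiplicative Ω) K)).2
    (F χ h1 h2).1
  exact ⟨n ω, hn ω, fun a ha => by rw [← hΨ ω a ha, hω, (F χ h1 h2).2 a ha]⟩

/-- If `-1` is an `r`-th power (in the relevant sense) all elements are split. -/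
theorem spl [Finite K] (hr : r ≠ 2 ∨ IsSquare (-1 : K)) (ha : a ∈ M) : Spl S r a := by
  have hr0 := h.prime.pos
  have key : ∀ a ∈ M, ∀ b ∈ M, ∃ w : Kˣ, (a * b) ^ r = S.ι (w ^ r) * (a ^ r * b ^ r) := by
    intro a ha b hb
    rw [h.mul_pow_eq ha hb]
    by_cases h2 : r = 2
    · subst h2
      obtain ⟨i, hi⟩ := hr.resolve_left fun e => e rfl
      have h3 : i ≠ 0 := by rintro rfl; simp at hi
      rcases units_sq_eq_one (h.cm_pow hb ha) with h4 | h4
      · exact ⟨1, by simp [h4]⟩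
      · exact ⟨Units.mk0 i h3, by
          congr 2
          ext
          simp [h4, pow_two, hi]⟩
    · obtain ⟨k, hk⟩ := h.prime.dvd_choose_self two_ne_zero
        (lt_of_le_of_ne h.prime.two_le (Ne.symm h2))
      exact ⟨1, by rw [hk, pow_mul, h.cm_pow hb ha, one_pow, one_pow]⟩
  by_cases hd : r ∣ Nat.card Kˣ
  swap
  · refine spl_of_mem_U (h.mem_U ha fun b hb => ?_)
    exact (pow_eq_one_iff_of_coprime ((h.prime.coprime_iff_not_dvd).2 hd)).1
      ⟨h.cm_pow ha hb, pow_card_eq_one'⟩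
  obtain ⟨m, hm⟩ := hd
  have hker : ∀ u : Kˣ, u ^ m = 1 ↔ ∃ w : Kˣ, u = w ^ r := fun u => by
    refine ⟨fun hu => ?_, ?_⟩
    · obtain ⟨g, hg⟩ := IsCyclic.exists_monoid_generator (α := Kˣ)
      obtain ⟨k, rfl⟩ := hg u
      have h1 : orderOf g = r * m := hm ▸ orderOf_eq_card_of_forall_mem_powers hg
      have h2 : 0 < m := Nat.pos_of_mul_pos_left (hm ▸ Nat.card_pos)
      rw [← pow_mul, ← orderOf_dvd_iff_pow_eq_one, h1, Nat.mul_dvd_mul_iff_right h2] at hu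
      obtain ⟨j, rfl⟩ := hu
      exact ⟨g ^ j, by rw [← pow_mul, mul_comm]⟩
    · rintro ⟨w, rfl⟩
      rw [← pow_mul, ← hm, pow_card_eq_one']
  have hχ : ∀ a ∈ M, S.sc (a ^ r) ^ m = 1 ↔ Spl S r a := fun a ha => by
    rw [hker]
    exact exists_congr fun w => by rw [← (ι_injective (S := S)).eq_iff, ι_sc (h.pow a ha)]
  obtain ⟨b, hb, h1⟩ := h.exists_cm (fun a => S.sc (a ^ r) ^ m) (fun a ha b hb => by
    obtain ⟨w, hw⟩ := key a ha b hb
    rw [hw, ← ι_sc (h.pow a ha), ← ι_sc (h.pow b hb), ← map_mul, ← map_mul, sc_ι, sc_ι, sc_ι,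
      mul_pow, mul_pow, (hker _).2 ⟨w, rfl⟩, one_mul])
    fun u hu => (hχ u (h.U_le hu)).2 (spl_of_mem_U hu)
  let N : Subgroup Γ :=
    { carrier := {a | a ∈ M ∧ S.cm b a = 1}
      one_mem' := ⟨one_mem _, h.cm_U_right hb (one_mem _)⟩
      mul_mem' := fun hx hy => ⟨mul_mem hx.1 hy.1, by rw [h.cm_mul_right hb hx.1 hy.1, hx.2, hy.2,
        one_mul]⟩
      inv_mem' := fun hx => ⟨inv_mem hx.1, by rw [h.cm_inv_right hb hx.1, hx.2, inv_one]⟩ }
  have hN : N.Normal := ⟨fun x hx g => ⟨h.conj_mem hx.1 g, by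
    rw [← h1 _ (h.conj_mem hx.1 g), hχ _ (h.conj_mem hx.1 g)]
    exact ((hχ x hx.1).1 ((h1 x hx.1).trans hx.2)).conj g⟩⟩
  have h2 : b ∈ S.U := h.mem_U_of_normal hN (fun u hu => ⟨h.U_le hu, h.cm_U_right hb hu⟩)
    (fun _ hx => hx.1) ⟨hb, cm_self b⟩ fun c hc => ((h.cm_eq_one hb hc.1).1 hc.2).symm
  rw [← hχ a ha, h1 a ha, h.cm_U_left h2 ha]

/-- Every element is normalized up to a scalar. -/
theorem exists_norm [Finite K] (ha : a ∈ M) : ∃ u : Kˣ, (S.ι u * a) ^ ex r = 1 := by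
  have hc : ∀ (u : Kˣ) (n : ℕ), (S.ι u * a) ^ n = S.ι (u ^ n) * a ^ n := fun u n => by
    rw [Commute.mul_pow (ι_comm (h.le_A ha) u), map_pow]
  by_cases hr : r ≠ 2 ∨ IsSquare (-1 : K)
  · obtain ⟨u, hu⟩ := h.spl hr ha
    obtain ⟨k, hk⟩ : r ∣ ex r := by unfold ex; split_ifs with h2; exacts [h2 ▸ by decide, dvd_rfl]
    exact ⟨u⁻¹, by rw [hk, pow_mul, hc, hu, ← map_mul, ← mul_pow, inv_mul_cancel, one_pow, map_one,
      one_pow]⟩
  · push Not at hr
    obtain ⟨rfl, h1⟩ := hr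
    obtain ⟨u, hu⟩ := h.pow a ha
    obtain ⟨w, hw⟩ : ∃ w : Kˣ, u ^ 2 = w ^ 4 := by
      have := Fintype.ofFinite K
      classical
      have h2 : IsSquare (u : K) ∨ IsSquare (-u : K) := by
        by_contra h3
        push Not at h3
        have h4 := (quadraticChar_neg_one_iff_not_isSquare).2 h3.2
        rw [← neg_one_mul, map_mul, quadraticChar_neg_one_iff_not_isSquare.2 h1,
          quadraticChar_neg_one_iff_not_isSquare.2 h3.1] at h4
        simp at h4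
      rcases h2 with ⟨c, hc⟩ | ⟨c, hc⟩
      · refine ⟨Units.mk0 c (by rintro rfl; simp at hc), Units.ext ?_⟩
        simp only [Units.val_pow_eq_pow_val, Units.val_mk0, hc]; ring
      · refine ⟨Units.mk0 c (by rintro rfl; simp at hc), Units.ext ?_⟩
        simp only [Units.val_pow_eq_pow_val, Units.val_mk0, neg_eq_iff_eq_neg.1 hc]; ring
    refine ⟨w⁻¹, ?_⟩
    rw [show ex 2 = 4 from rfl, hc, show a ^ 4 = (a ^ 2) ^ 2 by rw [← pow_mul], ← hu, ← map_pow,
      ← map_mul, hw, ← mul_pow, inv_mul_cancel, one_pow, map_one]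

end Heis

end Cfsg.Lib.Base
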