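import Cfsg.Agent.Base.Heis
import Cfsg.Agent.Solv.Conj

/-!
# The local analysis at one normal subgroup of symplectic type
-/

set_option autoImplicit false
set_option linter.unusedSectionVars false

namespace Cfsg.Lib.Base

open Subgroup Setup
open scoped commutatorElement

theorem eq_zero_of_weights {K V T Ω : Type*} [Field K] [AddCommGroup V] [Module K V]
    (op : T → Module.End K V) (χ : Ω → T → K) (hχ : Function.Injective χ) {ω₀ : Ω} (s : Finset Ω)
    (h0 : ω₀ ∉ s) (v : Ω → V) (hv : ∀ ω t, op t (v ω) = χ ω t • v ω)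
    (hs : v ω₀ + ∑ ω ∈ s, v ω = 0) : v ω₀ = 0 := by
  classical
  induction s using Finset.induction_on generalizing v with
  | empty => simpa using hs
  | insert ω s hω ih =>
    obtain ⟨t, ht⟩ := Function.ne_iff.1 (hχ.ne fun e : ω₀ = ω => h0 (e ▸ Finset.mem_insert_self _ _))
    have h1 := ih (fun e => h0 (Finset.mem_insert_of_mem e)) (fun ω' => (χ ω' t - χ ω t) • v ω')
      (fun ω' t' => by rw [map_smul, hv, smul_comm]) (by
        have h2 := congrArg (fun w => op t w - χ ω t • w) hs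
        simp only [Finset.sum_insert hω, map_add, map_sum, hv, smul_add, Finset.smul_sum, map_zero,
          smul_zero, sub_zero] at h2
        simp only [sub_smul, Finset.sum_sub_distrib]
        rw [← h2]
        abel)
    exact (smul_eq_zero.1 h1).resolve_left (sub_ne_zero.2 ht)

theorem exists_avoid_four {Ω : Type*} [AddCommGroup Ω] [Finite Ω] (T : Set Ω)
    (hT : 4 * Nat.card T < Nat.card Ω) (a b c : Ω) :
    ∃ v, v ∉ T ∧ v + a ∉ T ∧ v + b ∉ T ∧ v + c ∉ T := by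
  by_contra hc
  push Not at hc
  have h5 : Function.Surjective (fun z : Fin 4 × T => (z.2 : Ω) - ![0, a, b, c] z.1) := fun v => by
    by_cases h6 : v ∈ T
    · exact ⟨(0, ⟨v, h6⟩), by simp⟩
    by_cases h7 : v + a ∈ T
    · exact ⟨(1, ⟨_, h7⟩), by simp⟩
    by_cases h8 : v + b ∈ T
    · exact ⟨(2, ⟨_, h8⟩), by simp⟩
    · exact ⟨(3, ⟨_, hc v h6 h7 h8⟩), by simp⟩
  have := Nat.card_le_card_of_surjective _ h5
  rw [Nat.card_prod, Nat.card_fin] at this
  omega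

theorem eq_one_of_thin {Ω C : Type*} [AddCommGroup Ω] [Finite Ω] [CommGroup C] (T : Set Ω)
    (hT : 4 * Nat.card T < Nat.card Ω) (φ : Ω → C) (β : Ω → Ω → C)
    (h1 : ∀ a b, φ (a + b) = φ a * φ b * β a b) (h2 : ∀ a a' b, β (a + a') b = β a b * β a' b)
    (h4 : ∀ a ∉ T, φ a = 1) (a : Ω) : φ a = 1 := by
  have key := exists_avoid_four T hT
  have hβ : ∀ a b, β a b = 1 := fun a b => by
    obtain ⟨v, h5, h6, h7, h8⟩ := key a b (a + b)
    have h9 := h1 (v + a) b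
    have h10 := h1 v b
    rw [add_assoc, h4 _ h8, h4 _ h6, h2, one_mul, ← mul_assoc] at h9
    rw [h4 _ h7, h4 _ h5, one_mul] at h10
    rw [← h10, one_mul] at h9
    exact h9.symm
  obtain ⟨v, h5, h6, -⟩ := key a a a
  have h7 := h1 v a
  rwa [h4 _ h5, h4 _ h6, hβ, one_mul, mul_one, eq_comm] at h7

universe u

variable {K V : Type*} {Γ : Type u} [Field K] [AddCommGroup V] [Module K V] [Group Γ]
  [DistribMulAction Γ V] [Nontrivial V] {S : Setup K V Γ} {r : ℕ} {M L : Subgroup Γ} {x : V}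

/-- `L` consists of the elements of `M` that have `x` as an eigenvector. -/
structure Eig (S : Setup K V Γ) (M L : Subgroup Γ) (x : V) : Prop where
  ne : x ≠ 0
  mem : ∀ m, m ∈ L ↔ m ∈ M ∧ ∃ c : K, m • x = c • x

/-- The vectors with the weight of `x`. -/
def V0 (L : Subgroup Γ) (x : V) : AddSubgroup V where
  carrier := {v | ∀ l ∈ L, l • x = x → l • v = v}
  zero_mem' := fun l _ _ => smul_zero l
  add_mem' := fun ha hb l hl h => by rw [smul_add, ha l hl h, hb l hl h]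
  neg_mem' := fun ha l hl h => by rw [smul_neg, ha l hl h]

/-- The centralizer in `M`. -/
abbrev Cz (M L : Subgroup Γ) : Subgroup Γ := M ⊓ centralizer (L : Set Γ)

theorem self_mem_V0 : x ∈ V0 L x := fun _ _ h => h

theorem smul_mem_V0 {c : Γ} (hc : c ∈ centralizer (L : Set Γ)) {v : V} (hv : v ∈ V0 L x) :
    c • v ∈ V0 L x := fun l hl h => by rw [← mul_smul, hc l hl, mul_smul, hv l hl h]

theorem span_le_V0 (hL : L ≤ S.A) {N : Subgroup Γ} (hN : N ≤ centralizer (L : Set Γ)) {v : V}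
    (hv : v ∈ Submodule.span K {w | ∃ c ∈ N, c • x = w}) : v ∈ V0 L x := by
  induction hv using Submodule.span_induction with
  | mem w hw => obtain ⟨c, hc, rfl⟩ := hw; exact smul_mem_V0 (hN hc) self_mem_V0
  | zero => exact zero_mem _
  | add _ _ _ _ h1 h2 => exact add_mem h1 h2
  | smul c w _ h1 => exact fun l hl h => by rw [smul_smul (hL hl), h1 l hl h]

theorem smul_eq_of_mem_span {g : Γ} (hg : g ∈ S.A) {N : Subgroup Γ}
    (hN : ∀ c ∈ N, g • c • x = c • x) {v : V}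
    (hv : v ∈ Submodule.span K {w | ∃ c ∈ N, c • x = w}) : g • v = v := by
  induction hv using Submodule.span_induction with
  | mem w hw => obtain ⟨c, hc, rfl⟩ := hw; exact hN c hc
  | zero => exact smul_zero _
  | add _ _ _ _ h1 h2 => rw [smul_add, h1, h2]
  | smul c w _ h1 => rw [smul_smul hg, h1]

namespace Eig

variable (h : Heis S r M) (e : Eig S M L x)
include e

theorem le : L ≤ M := fun m hm => ((e.mem m).1 hm).1

theorem exists_unit {l : Γ} (hl : l ∈ L) : ∃ u : Kˣ, l • x = (u : K) • x := by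
  obtain ⟨c, hc⟩ := ((e.mem l).1 hl).2
  exact ⟨Units.mk0 c (by
    rintro rfl
    exact e.ne ((smul_eq_zero_iff_eq l).1 (hc.trans (zero_smul _ _)))), hc⟩

include h

theorem U_le : S.U ≤ L := by
  rintro _ ⟨u, rfl⟩
  exact (e.mem _).2 ⟨h.ι_mem u, u, S.ι_smul u x⟩

theorem le_cent : L ≤ centralizer (L : Set Γ) := fun a ha b hb => by
  obtain ⟨u, hu⟩ := e.exists_unit ha
  obtain ⟨w, hw⟩ := e.exists_unit hb
  have h1 := h.smul_smul_eq (e.le hb) (e.le ha) x
  rw [hu, hw, smul_smul (h.le_A (e.le hb)), smul_smul (h.le_A (e.le ha)), hu, hw, smul_comm (w : K),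
    eq_comm] at h1
  refine (h.cm_eq_one (e.le hb) (e.le ha)).1 (Units.ext (eq_of_smul_eq (v := (u : K) • (w : K) • x)
    (by simp [e.ne]) (by rw [h1, Units.val_one, one_smul])))

theorem le_Cz : L ≤ Cz M L := le_inf e.le (e.le_cent h)

theorem conj_mem {g l : Γ} (hg : g • x = x) (hl : l ∈ L) : g * l * g⁻¹ ∈ L := by
  obtain ⟨c, hc⟩ := ((e.mem l).1 hl).2
  obtain ⟨c', -, h1⟩ := S.exists_smul_smul g c
  exact (e.mem _).2 ⟨h.conj_mem (e.le hl) g, c', by
    rw [mul_smul, mul_smul, inv_smul_eq_iff.2 hg.symm, hc, h1, hg]⟩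

theorem stab_le [Finite Γ] : MulAction.stabilizer Γ x ≤ normalizer (L : Set Γ) := fun _ hg =>
  mem_normalizer_fintype fun _ hl => e.conj_mem h hg hl

theorem smul_mem_V0 {g : Γ} (hg : g • x = x) {v : V} (hv : v ∈ V0 L x) : g • v ∈ V0 L x := by
  intro l hl h1
  have h2 : g⁻¹ • x = x := inv_smul_eq_iff.2 hg.symm
  have h3 := hv _ (e.conj_mem h h2 hl) (by rw [inv_inv, mul_smul, mul_smul, hg, h1, h2])
  rwa [inv_inv, mul_smul, mul_smul, inv_smul_eq_iff] at h3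

theorem mem_Cz {m : Γ} (hm : m ∈ M) (h1 : ∀ l ∈ L, l • x = x → S.cm l m = 1) : m ∈ Cz M L := by
  refine ⟨hm, fun l hl => (h.cm_eq_one (e.le hl) hm).1 ?_⟩
  obtain ⟨u, hu⟩ := e.exists_unit hl
  have h2 := h1 _ (mul_mem (e.U_le h (ι_mem u⁻¹)) hl) (by rw [mul_smul, hu, S.ι_smul]; simp)
  rwa [h.cm_mul_left (h.ι_mem _) (e.le hl) hm, h.cm_U_left (ι_mem _) hm, one_mul] at h2

theorem exists_sec [Finite Γ] : ∃ (Ω : Type u) (_ : AddCommGroup Ω) (_ : Finite Ω)
    (_ : DistribMulAction (MulAction.stabilizer Γ x) Ω) (pr : Γ → Ω),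
    Sec M (Cz M L) (MulAction.stabilizer Γ x) pr :=
  have := h.normal
  Base.exists_sec (fun a ha b hb => e.le_Cz h (e.U_le h (h.comm a ha b hb))) le_normalizer_of_normal
    ((le_inf le_normalizer_of_normal ((e.stab_le h).trans
      (Solv.normalizer_le_normalizer_centralizer L))).trans inf_normalizer_le_normalizer_inf)

variable {H : Subgroup Γ} {Ω : Type*} [AddCommGroup Ω] [DistribMulAction H Ω] {pr : Γ → Ω}

/-- Independence of the weight spaces. -/
theorem indep [Fintype Ω] (s : Sec M (Cz M L) H pr) (v : Ω → V)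
    (hv : ∀ ω, ∃ m ∈ M, pr m = ω ∧ ∃ u ∈ V0 L x, v ω = m • u)
    (v' : Ω → V) (hv' : ∀ ω, ∃ m ∈ M, pr m = ω ∧ ∃ u ∈ V0 L x, v' ω = m • u)
    (hs : ∑ ω, v ω = ∑ ω, v' ω) (ω : Ω) : v ω = v' ω := by
  classical
  choose n hn hn' using s.surj
  have key : ∀ (l : {l // l ∈ L ∧ l • x = x}) (ω : Ω) (w : V),
      (∃ m ∈ M, pr m = ω ∧ ∃ u ∈ V0 L x, w = m • u) → l.1 • w = (S.cm l (n ω) : K) • w := by
    rintro l ω _ ⟨m, hm, h1, u, hu, rfl⟩
    have h2 := (s.eq_iff (hn ω) hm).1 ((hn' ω).trans h1.symm)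
    rw [h.smul_smul_eq (e.le l.2.1) hm, hu l l.2.1 l.2.2, ← mul_inv_cancel_left (n ω) m,
      h.cm_mul_right (e.le l.2.1) (hn ω) h2.1,
      (h.cm_eq_one (e.le l.2.1) h2.1).2 (h2.2 l l.2.1), mul_one]
  refine sub_eq_zero.1 (eq_zero_of_weights
    (fun l : {l // l ∈ L ∧ l • x = x} => lin (S := S) ⟨l.1, h.le_A (e.le l.2.1)⟩)
    (fun ω l => (S.cm l (n ω) : K)) (fun ω ω' h1 => ?_) (Finset.univ.erase ω)
    (Finset.notMem_erase _ _) (fun ω => v ω - v' ω) (fun ω l => ?_) ?_)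
  · rw [← hn' ω, ← hn' ω', s.eq_iff (hn _) (hn _)]
    refine e.mem_Cz h (mul_mem (inv_mem (hn _)) (hn _)) fun l hl h2 => ?_
    rw [h.cm_mul_right (e.le hl) (inv_mem (hn _)) (hn _), h.cm_inv_right (e.le hl) (hn _),
      Units.ext (congrFun h1 ⟨l, hl, h2⟩), inv_mul_cancel]
  · change l.1 • (v ω - v' ω) = _
    rw [smul_sub, key l ω _ (hv ω), key l ω _ (hv' ω), smul_sub]
  · rw [Finset.add_sum_erase _ (fun ω => v ω - v' ω) (Finset.mem_univ ω), Finset.sum_sub_distrib,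
      hs, sub_self]

/-- A linear element that fixes enough of the vectors `m • x` centralizes `M`. -/
theorem mem_centralizer [Finite Ω] (s : Sec M (Cz M L) H pr) (T : Set Ω)
    (hT : 4 * Nat.card T < Nat.card Ω) {g : Γ} (hg : g ∈ S.A) (hx : g • x = x)
    (h1 : ∀ ω ∉ T, ∃ m ∈ M, pr m = ω ∧ g • m • x = m • x) (h2 : ∀ c ∈ Cz M L, g • c • x = c • x) :
    g ∈ centralizer (M : Set Γ) := by
  let δ : Γ → Γ := fun m => m⁻¹ * (g * m * g⁻¹)
  have hδM : ∀ m ∈ M, δ m ∈ M := fun m hm => mul_mem (inv_mem hm) (h.conj_mem hm g)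
  have hδ : ∀ a b, δ (a * b) = b⁻¹ * δ a * b * δ b := fun a b => by simp only [δ]; group
  have hfix : ∀ m, g • m • x = m • x → δ m • x = x := fun m hm => by
    simp only [δ, mul_smul, inv_smul_eq_iff.2 hx.symm, hm, inv_smul_smul]
  have hL : ∀ m ∈ M, δ m • x = x → δ m ∈ L := fun m hm h3 =>
    (e.mem _).2 ⟨hδM m hm, 1, by rw [h3, one_smul]⟩
  have hn : ∀ l ∈ L, ∀ b ∈ M, b⁻¹ * l * b ∈ L := fun l hl b hb => by
    have := mul_mem (e.U_le h (h.comm _ (inv_mem hb) l (e.le hl))) hl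
    rwa [commutatorElement_def, inv_mul_cancel_right, inv_inv] at this
  have hgood : ∀ ω ∉ T, ∀ m ∈ M, pr m = ω → δ m ∈ L := fun ω hω m hm h3 => by
    obtain ⟨a, ha, h4, h5⟩ := h1 ω hω
    have h6 := (s.eq_iff ha hm).1 (h4.trans h3.symm)
    rw [← mul_inv_cancel_left a m, hδ]
    exact mul_mem (hn _ (hL a ha (hfix a h5)) _ h6.1) (hL _ h6.1 (hfix _ (h2 _ h6)))
  have hall : ∀ m ∈ M, δ m ∈ L := fun m hm => by
    obtain ⟨v, h3, h4, -⟩ := exists_avoid_four T hT (pr m) 0 0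
    obtain ⟨a, ha, rfl⟩ := s.surj v
    have h5 := hgood _ h4 _ (mul_mem ha hm) (s.mul _ ha _ hm)
    rwa [hδ, mul_mem_cancel_left (hn _ (hgood _ h3 a ha rfl) m hm)] at h5
  choose! φ hφ using fun m (hm : m ∈ M) => e.exists_unit (hall m hm)
  have hφ1 : ∀ m ∈ M, δ m • x = x → φ m = 1 := fun m hm h3 =>
    Units.ext (eq_of_smul_eq e.ne (by rw [← hφ m hm, h3, Units.val_one, one_smul]))
  have hmul : ∀ a ∈ M, ∀ b ∈ M, φ (a * b) = φ a * φ b * S.cm (δ a) b := fun a ha b hb =>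
    Units.ext (eq_of_smul_eq e.ne (by
      rw [← hφ _ (mul_mem ha hb), hδ, mul_smul, mul_smul, mul_smul, hφ b hb, smul_smul (h.le_A hb),
        smul_smul (h.le_A (hδM a ha)), h.smul_smul_eq (hδM a ha) hb, hφ a ha,
        smul_smul (h.le_A hb), smul_smul (h.le_A (inv_mem hb)), smul_smul (h.le_A (inv_mem hb)),
        smul_smul (h.le_A (inv_mem hb)), inv_smul_smul, ← mul_smul, ← mul_smul]
      congr 1
      push_cast
      ring))
  have hC : ∀ a ∈ M, ∀ c ∈ Cz M L, S.cm (δ a) c = 1 := fun a ha c hc =>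
    (h.cm_eq_one (hδM a ha) hc.1).2 (hc.2 _ (hall a ha))
  have hsym : ∀ a ∈ M, ∀ b ∈ M, S.cm (δ a) b = S.cm (δ b) a := fun a ha b hb => by
    have h3 := cm_conj hg (h.comm a ha b hb)
    rw [← mul_inv_cancel_left a (g * a * g⁻¹), ← mul_inv_cancel_left b (g * b * g⁻¹),
      h.cm_mul_left ha (hδM a ha) (mul_mem hb (hδM b hb)), h.cm_mul_right ha hb (hδM b hb),
      h.cm_mul_right (hδM a ha) hb (hδM b hb), hC a ha _ (e.le_Cz h (hall b hb)), mul_one,
      mul_assoc, mul_eq_left, h.cm_swap (hδM b hb) ha, inv_mul_eq_one] at h3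
    exact h3.symm
  choose n hnM hn' using s.surj
  have hrep : ∀ m ∈ M, (n (pr m))⁻¹ * m ∈ Cz M L := fun m hm => (s.eq_iff (hnM _) hm).1 (hn' _)
  have hφn : ∀ m ∈ M, φ (n (pr m)) = φ m := fun m hm => by
    conv_rhs => rw [← mul_inv_cancel_left (n (pr m)) m, hmul _ (hnM _) _ (hrep m hm).1,
      hC _ (hnM _) _ (hrep m hm), hφ1 _ (hrep m hm).1 (hfix _ (h2 _ (hrep m hm))), mul_one, mul_one]
  have hβn : ∀ a ∈ M, ∀ m ∈ M, S.cm (δ a) (n (pr m)) = S.cm (δ a) m := fun a ha m hm => by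
    conv_rhs => rw [← mul_inv_cancel_left (n (pr m)) m,
      h.cm_mul_right (hδM a ha) (hnM _) (hrep m hm).1, hC _ ha _ (hrep m hm), mul_one]
  have hsum : ∀ a b, a + b = pr (n a * n b) := fun a b => by
    rw [s.mul _ (hnM _) _ (hnM _), hn', hn']
  have key := eq_one_of_thin T hT (fun ω => φ (n ω)) (fun ω ω' => S.cm (δ (n ω)) (n ω'))
    (fun a b => by rw [hsum, hφn _ (mul_mem (hnM _) (hnM _)), hmul _ (hnM _) _ (hnM _)])
    (fun a a' b => by
      rw [hsym _ (hnM _) _ (hnM _), hsym _ (hnM a) _ (hnM _), hsym _ (hnM a') _ (hnM _), hsum,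
        hβn _ (hnM _) _ (mul_mem (hnM _) (hnM _)), h.cm_mul_right (hδM _ (hnM _)) (hnM _) (hnM _)])
    fun ω hω => by
      obtain ⟨a, ha, rfl, h5⟩ := h1 ω hω
      rw [hφn a ha, hφ1 a ha (hfix a h5)]
  have key' : ∀ m ∈ M, φ m = 1 := fun m hm => (hφn m hm).symm.trans (key _)
  intro m hm
  have h3 : δ m = 1 := eq_one_of_smul (h.mem_U (hδM m hm) fun b hb => by
    simpa [key' _ (mul_mem hm hb), key' m hm, key' b hb] using (hmul m hm b hb).symm) e.ne
    (by rw [hφ m hm, key' m hm, Units.val_one, one_smul])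
  rw [inv_mul_eq_one, eq_mul_inv_iff_mul_eq] at h3
  exact h3

end Eig

/-- The local conclusion. -/
def LocGood (S : Setup K V Γ) (M L : Subgroup Γ) (x : V) (j : ℕ) : Prop :=
  ∃ y : Fin j → V, (∀ t, y t ∈ Submodule.span K {w | ∃ c ∈ M, c • x = w}) ∧
    ∀ g : Γ, g • x = x → ∀ u : Fin j → V, (∀ t, u t ∈ V0 L x) →
      (∀ t, g • (u t + y t) = u t + y t) → (∀ t, g • y t = y t) ∧
        (g ∈ S.A → (∀ c ∈ Cz M L, g • c • x = c • x) → g ∈ centralizer (M : Set Γ))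

theorem Eig.locGood [Finite Γ] [Finite K] (h : Heis S r M) (e : Eig S M L x) {Ω : Type*}
    [AddCommGroup Ω] [Finite Ω] [DistribMulAction (MulAction.stabilizer Γ x) Ω] {pr : Γ → Ω}
    (s : Sec M (Cz M L) (MulAction.stabilizer Γ x) pr) {I : Type*} (col : Ω → Option I)
    (hrig : Rigid (MulAction.stabilizer Γ x) col) (hT : 4 * holes col < Nat.card Ω) {j : ℕ}
    (w : I → Fin j → V) (hw : ∀ i t, w i t ∈ Submodule.span K {w | ∃ c ∈ Cz M L, c • x = w})
    (hne : ∀ i, w i ≠ 0) (hsep : ∀ i i', ∀ c ∈ Cz M L, c ^ ex r = 1 → (∀ t, c • w i t = w i' t) →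
      i = i' ∧ c • x = x) : LocGood S M L x j := by
  classical
  have := Fintype.ofFinite Ω
  have hsec : ∀ ω, ∃ m ∈ M, pr m = ω ∧ m ^ ex r = 1 ∧ (ω = 0 → m = 1) := fun ω => by
    by_cases h0 : ω = 0
    · exact ⟨1, one_mem _, h0 ▸ s.one, one_pow _, fun _ => rfl⟩
    obtain ⟨a, ha, rfl⟩ := s.surj ω
    obtain ⟨u, hu⟩ := h.exists_norm ha
    exact ⟨_, mul_mem (h.ι_mem u) ha, by rw [s.mul _ (h.ι_mem u) _ ha, (s.eq_zero _ (h.ι_mem u)).2
      (e.le_Cz h (e.U_le h (ι_mem u))), zero_add], hu, fun h1 => absurd h1 h0⟩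
  choose n hn hn' hn1 hn0 using hsec
  let W : Ω → Fin j → V := fun ω => if ω = 0 then 0 else (col ω).elim 0 w
  have hW : ∀ ω t, W ω t ∈ Submodule.span K {w | ∃ c ∈ Cz M L, c • x = w} := fun ω t => by
    simp only [W]
    split_ifs
    · exact zero_mem _
    · cases col ω
      exacts [zero_mem _, hw _ t]
  refine ⟨fun t => ∑ ω, n ω • W ω t, fun t => sum_mem fun ω _ => ?_, fun g hg u hu hy => ?_⟩
  · have h1 := Submodule.apply_mem_span_image_of_mem_span (lin (S := S) ⟨n ω, h.le_A (hn ω)⟩)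
      (hW ω t)
    refine Submodule.span_mono ?_ h1
    rintro _ ⟨_, ⟨c, hc, rfl⟩, rfl⟩
    exact ⟨n ω * c, mul_mem (hn ω) hc.1, mul_smul _ _ _⟩
  let g' : MulAction.stabilizer Γ x := ⟨g, hg⟩
  let X : Fin j → Ω → V := fun t ω => if ω = 0 then u t else W ω t
  have hX : ∀ t ω, X t ω ∈ V0 L x := fun t ω => by
    simp only [X]
    split_ifs
    exacts [hu t, span_le_V0 (e.le.trans h.le_A) inf_le_right (hW ω t)]
  have hsum : ∀ t, ∑ ω, n ω • X t ω = u t + ∑ ω, n ω • W ω t := fun t => by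
    rw [← Finset.add_sum_erase _ _ (Finset.mem_univ 0),
      ← Finset.add_sum_erase _ (fun ω => n ω • W ω t) (Finset.mem_univ 0), hn0 0 rfl]
    simp only [X, W, if_true, one_smul, Pi.zero_apply, zero_add]
    exact congrArg _ (Finset.sum_congr rfl fun ω hω => by rw [if_neg (Finset.ne_of_mem_erase hω)])
  have key : ∀ t ω, g • n ω • X t ω = n (g' • ω) • X t (g' • ω) := fun t ω => by
    have := e.indep h s (fun ω => g • n (g'⁻¹ • ω) • X t (g'⁻¹ • ω)) (fun ω =>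
      ⟨_, h.conj_mem (hn (g'⁻¹ • ω)) g, by rw [s.conj g' _ (hn _), hn', smul_inv_smul], _,
        e.smul_mem_V0 h hg (hX t (g'⁻¹ • ω)), by simp only [mul_smul, inv_smul_smul]⟩)
      (fun ω => n ω • X t ω) (fun ω => ⟨_, hn ω, hn' ω, _, hX t ω, rfl⟩)
      (by
        have h1 := Equiv.sum_comp (MulAction.toPerm g'⁻¹) (fun ω : Ω => n ω • X t ω)
        simp only [MulAction.toPerm_apply] at h1
        rw [← Finset.smul_sum, h1, hsum, hy])
      (g' • ω)
    rwa [inv_smul_smul] at this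
  refine ⟨fun t => ?_, fun hA hC => ?_⟩
  · have h1 := key t 0
    have h2 := hy t
    simp only [smul_zero, hn0 0 rfl, one_smul, X, if_true] at h1
    rwa [smul_add, h1, add_right_inj] at h2
  have hc : ∀ ω, (n (g' • ω))⁻¹ * (g * n ω * g⁻¹) ∈ Cz M L := fun ω =>
    (s.eq_iff (hn _) (h.conj_mem (hn _) g)).1 (by rw [s.conj g' _ (hn _), hn', hn'])
  have hc1 : ∀ ω, ((n (g' • ω))⁻¹ * (g * n ω * g⁻¹)) ^ ex r = 1 := fun ω => by
    rw [h.mul_pow_ex (inv_mem (hn _)) (h.conj_mem (hn _) g), inv_pow, conj_pow, hn1, hn1]; simp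
  have hc2 : ∀ ω, ω ≠ 0 → ∀ t, ((n (g' • ω))⁻¹ * (g * n ω * g⁻¹)) • (col ω).elim 0 w t =
      (col (g' • ω)).elim 0 w t := fun ω h0 t => by
    have h1 := key t ω
    have h2 := (inv_smul_eq_iff.2 (smul_eq_of_mem_span hA hC (hW ω t)).symm)
    simp only [X, W, if_neg h0, if_neg (mt (smul_eq_zero_iff_eq g').1 h0)] at h1 h2
    rw [mul_smul, mul_smul, mul_smul, h2, h1, inv_smul_smul]
  have h1 := hrig g' fun ω h0 => by
    have h2 := hc2 ω h0
    cases h3 : col ω <;> cases h4 : col (g' • ω) <;> rw [h3, h4] at h2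
    · exact absurd (funext fun t => by simpa using (h2 t).symm) (hne _)
    · exact absurd (funext fun t => (smul_eq_zero_iff_eq _).1 (h2 t)) (hne _)
    · rw [(hsep _ _ _ (hc ω) (hc1 ω) h2).1]
  refine e.mem_centralizer h s {ω | ω ≠ 0 ∧ col ω = none} hT hA hg (fun ω hω => ?_) hC
  by_cases h0 : ω = 0
  · exact ⟨1, one_mem _, h0 ▸ s.one, by rw [one_smul, hg]⟩
  obtain ⟨i, hi⟩ := Option.ne_none_iff_exists'.1 fun h2 => hω ⟨h0, h2⟩
  have h2 := hc2 ω h0
  have h3 := hc ω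
  have h4 := hc1 ω
  rw [h1 ω] at h2 h3 h4
  rw [hi] at h2
  have h5 := (hsep _ _ _ h3 h4 h2).2
  rw [mul_smul, inv_smul_eq_iff, mul_smul, mul_smul, inv_smul_eq_iff.2 hg.symm] at h5
  exact ⟨_, hn ω, hn' ω, h5⟩

end Cfsg.Lib.Base
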