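import Cfsg.Agent.Base.Aniso
import Cfsg.Agent.Base.Rigid
import Cfsg.Agent.Base.Flag

/-!
# The primitive case: colours
-/

set_option autoImplicit false
set_option linter.unusedSectionVars false

namespace Cfsg.Lib.Base

open Subgroup Setup
open scoped commutatorElement

universe u

variable {K : Type*} {V Γ : Type u} [Field K] [AddCommGroup V] [Module K V] [Group Γ]
  [DistribMulAction Γ V] [Nontrivial V] {S : Setup K V Γ} {r : ℕ} {M L : Subgroup Γ} {x : V}
  [Finite Γ] [Finite K] [Finite V]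

section

variable {Ω : Type*} [AddCommGroup Ω] [Finite Ω] [DistribMulAction (MulAction.stabilizer Γ x) Ω]
  {pr : Γ → Ω}

theorem Eig.locGood_scalar (h : Heis S r M) (e : Eig S M L x)
    (s : Sec M (Cz M L) (MulAction.stabilizer Γ x) pr) {I : Type*} {col : Ω → Option I}
    (hcol : Rigid (MulAction.stabilizer Γ x) col ∧ 4 * holes col < Nat.card Ω) {j : ℕ}
    (c : I → Fin j → K) (h0 : ∀ i, c i ≠ 0)
    (hsep : ∀ i i' (l : K), l ^ ex r = 1 → c i' = l • c i → i = i') : LocGood S M L x j := by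
  refine e.locGood h s col hcol.1 hcol.2 (fun i t => c i t • x) (fun i t => Submodule.smul_mem _ _
    (Submodule.subset_span ⟨1, one_mem _, one_smul _ _⟩)) (fun i h1 => h0 i (funext fun t =>
      (smul_eq_zero.1 (congrFun h1 t)).resolve_right e.ne)) fun i i' d hd h1 h2 => ?_
  obtain ⟨t, ht⟩ : ∃ t, c i t ≠ 0 := Function.ne_iff.1 (h0 i)
  have hA := h.le_A hd.1
  have h3 : d • x = ((c i t)⁻¹ * c i' t) • x := by
    rw [mul_smul, ← h2 t, smul_smul hA, inv_smul_smul₀ ht]
  generalize (c i t)⁻¹ * c i' t = l at h3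
  have h4 : ∀ n : ℕ, d ^ n • x = l ^ n • x := fun n => by
    induction n with
    | zero => simp
    | succ n ih => rw [pow_succ', mul_smul, ih, smul_smul hA, h3, ← mul_smul, pow_succ]
  have h5 : c i' = l • c i := funext fun t' => eq_of_smul_eq e.ne (by
    rw [← h2 t', smul_smul hA, h3, ← mul_smul, mul_comm]; rfl)
  obtain rfl := hsep i i' l (eq_of_smul_eq e.ne (by rw [← h4, h1, one_smul, one_smul])) h5
  rw [h3, (mul_eq_right₀ ht).1 (congrFun h5 t).symm, one_smul]
  exact ⟨rfl, rfl⟩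

theorem Eig.locGood_two (h : Heis S r M) (e : Eig S M L x)
    (s : Sec M (Cz M L) (MulAction.stabilizer Γ x) pr) {I : Type*} {col : Ω → Option I}
    (hcol : Rigid (MulAction.stabilizer Γ x) col ∧ 4 * holes col < Nat.card Ω) (c : I → K)
    (hc : Function.Injective c) : LocGood S M L x 2 :=
  e.locGood_scalar h s hcol (fun i => ![1, c i]) (fun _ h1 => one_ne_zero (congrFun h1 0))
    fun i i' l _ h1 => hc (by
      have h2 := congrFun h1 0
      have h3 := congrFun h1 1
      simp at h2 h3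
      rw [h3, ← h2, one_mul])

theorem Eig.locGood_one (h : Heis S r M) (e : Eig S M L x)
    (s : Sec M (Cz M L) (MulAction.stabilizer Γ x) pr) {N : ℕ} {col : Ω → Option (Fin N)}
    (hcol : Rigid (MulAction.stabilizer Γ x) col ∧ 4 * holes col < Nat.card Ω)
    (hN : ∀ k, 0 < k → k < N → ¬ Nat.card Kˣ ∣ k * ex r) : LocGood S M L x 1 := by
  obtain ⟨γ, hγ⟩ := exists_gen K
  have h1 : orderOf γ = Nat.card Kˣ := orderOf_eq_card_of_forall_mem_powers hγ
  have key : ∀ i i' : Fin N, (γ : K) ^ (i.1 * ex r) = γ ^ (i'.1 * ex r) → ¬ i < i' :=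
    fun i i' h2 h3 => hN (i' - i) (Nat.sub_pos_of_lt h3) (by omega) (by
      rw [← Units.val_pow_eq_pow_val, ← Units.val_pow_eq_pow_val, Units.val_inj,
        pow_eq_pow_iff_modEq, h1, Nat.modEq_iff_dvd' (Nat.mul_le_mul_right _ h3.le)] at h2
      rwa [Nat.sub_mul])
  refine e.locGood_scalar h s hcol (fun i _ => (γ : K) ^ i.1)
    (fun _ h2 => pow_ne_zero _ γ.ne_zero (congrFun h2 0)) fun i i' l h2 h3 => ?_
  have h4 : (γ : K) ^ (i.1 * ex r) = γ ^ (i'.1 * ex r) := by
    have h4 := congrFun h3 0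
    simp only [Pi.smul_apply, smul_eq_mul] at h4
    rw [pow_mul, pow_mul, h4, mul_pow, h2, one_mul]
  exact le_antisymm (not_lt.1 (key _ _ h4.symm)) (not_lt.1 (key _ _ h4))

theorem Eig.card_lt (h : Heis S r M) (e : Eig S M L x) {H : Subgroup Γ} [DistribMulAction H Ω]
    (s : Sec M (Cz M L) H pr) : Nat.card Ω < Nat.card V := by
  classical
  have := Fintype.ofFinite Ω
  choose n hn hn' using s.surj
  have h1 : Function.Injective fun T : Finset Ω => ∑ ω, if ω ∈ T then n ω • x else 0 := by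
    have h2 : ∀ (T : Finset Ω) ω, ∃ m ∈ M, pr m = ω ∧ ∃ u ∈ V0 L x,
        (if ω ∈ T then n ω • x else 0) = m • u := fun T ω => ⟨_, hn ω, hn' ω, by
      split_ifs
      exacts [⟨x, self_mem_V0, rfl⟩, ⟨0, zero_mem _, (smul_zero _).symm⟩]⟩
    intro T T' h3
    ext ω
    have h4 := e.indep h s _ (h2 T) _ (h2 T') h3 ω
    have h5 : n ω • x ≠ 0 := by rw [Ne, smul_eq_zero_iff_eq]; exact e.ne
    by_cases h6 : ω ∈ T <;> by_cases h7 : ω ∈ T' <;> simp_all
  have h2 := Nat.card_le_card_of_injective _ h1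
  rw [Nat.card_eq_fintype_card, Fintype.card_finset] at h2
  rw [Nat.card_eq_fintype_card (α := Ω)]
  exact Nat.lt_two_pow_self.trans_le h2

end

theorem Heis.exists_cm_ne (h : Heis S r M) (hM : ¬ M ≤ S.U) :
    ∃ u : Kˣ, u ≠ 1 ∧ u ^ r = 1 := by
  obtain ⟨a, ha, h1⟩ := SetLike.not_le_iff_exists.1 hM
  by_contra h2
  push Not at h2
  exact h1 (h.mem_U ha fun b hb => by_contra fun h3 => h2 _ h3 (h.cm_pow ha hb))

theorem Heis.dvd_card (h : Heis S r M) (hM : ¬ M ≤ S.U) : r ∣ Nat.card Kˣ := by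
  obtain ⟨u, h1, h2⟩ := h.exists_cm_ne hM
  have := Fact.mk h.prime
  exact orderOf_eq_prime h2 h1 ▸ orderOf_dvd_natCard u

theorem Heis.dvd_index (h : Heis S r M) (hM : ¬ M ≤ S.U) : r ∣ S.U.index := by
  obtain ⟨a, ha, h1⟩ := SetLike.not_le_iff_exists.1 hM
  have := Fact.mk h.prime
  have := S.normal
  exact orderOf_eq_prime (x := (a : Γ ⧸ S.U)) (by
    rw [← QuotientGroup.mk_pow, QuotientGroup.eq_one_iff]; exact h.pow a ha)
    (mt (QuotientGroup.eq_one_iff a).1 h1) ▸ orderOf_dvd_natCard _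

theorem Setup.card_stab_dvd (S : Setup K V Γ) (hx : x ≠ 0) :
    Nat.card (MulAction.stabilizer Γ x) ∣ S.U.index := by
  have := S.normal
  exact card_dvd_of_injective ((QuotientGroup.mk' S.U).comp (MulAction.stabilizer Γ x).subtype)
    ((injective_iff_map_eq_one _).2 fun a ha =>
      Subtype.ext (eq_one_of_smul ((QuotientGroup.eq_one_iff _).1 ha) hx a.2))

theorem Eig.locGood_triple (h : Heis S r M) (e : Eig S M L x) : LocGood S M L x 2 := by
  by_cases hM : M ≤ S.U
  · exact locGood_of_le hM 2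
  obtain ⟨Ω, _, _, _, pr, s⟩ := e.exists_sec h
  have h1 := s.nsmul_eq_zero fun a ha => e.le_Cz h (e.U_le h (h.pow a ha))
  by_cases h2 : r = 2
  · subst h2
    obtain ⟨u, h3, -⟩ := h.exists_cm_ne hM
    obtain ⟨col, hcol⟩ := R2 (H := MulAction.stabilizer Γ x) fun v => (two_nsmul v).symm.trans (h1 v)
    have h4 : (u : K) ≠ 1 := fun e => h3 (Units.ext e)
    refine e.locGood_two h s hcol ![0, 1, u] fun i i' h5 => ?_
    fin_cases i <;> fin_cases i' <;> simp_all [eq_comm]
  · have := Fact.mk h.prime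
    obtain ⟨col, hcol⟩ := Rodd2 (H := MulAction.stabilizer Γ x) h2 h1
    refine e.locGood_two h s hcol ![0, 1] fun i i' h5 => ?_
    fin_cases i <;> fin_cases i' <;> simp_all

theorem Eig.locGood_pair [Group.IsSolvable Γ] (h : Heis S r M) (e : Eig S M L x) (ih : IH V)
    (h2 : r = 2 → ¬ M ≤ S.U → Nat.card Kˣ ≠ 2 ∧ Nat.card Kˣ ≠ 4 ∧
      (Nat.card Kˣ = 8 → ¬ 3 ∣ S.U.index))
    (h3 : r = 3 → ¬ M ≤ S.U → Nat.card Kˣ = 3 → Odd S.U.index) : LocGood S M L x 1 := by
  by_cases hM : M ≤ S.U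
  · exact locGood_of_le hM 1
  obtain ⟨Ω, _, _, _, pr, s⟩ := e.exists_sec h
  have h1 := s.nsmul_eq_zero fun a ha => e.le_Cz h (e.U_le h (h.pow a ha))
  have := Fact.mk h.prime
  have hd := h.dvd_card hM
  by_cases h4 : r = 2
  · subst h4
    obtain ⟨h5, h6, h7⟩ := h2 rfl hM
    have h8 : ∀ v : Ω, v + v = 0 := fun v => (two_nsmul v).symm.trans (h1 v)
    by_cases h9 : Nat.card Kˣ = 8
    · obtain ⟨col, h10, -⟩ := FLAG (H := MulAction.stabilizer Γ x) ih (e.card_lt h s) inferInstance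
        (fun h10 => h7 h9 (h10.trans (S.card_stab_dvd e.ne))) h8
      refine e.locGood_one h s (N := 2) (col := fun ω => some ((col ω).elim 0 fun _ => 1))
        ⟨fun g hg => h10 g fun v hv => ?_, ?_⟩ fun k hk hk' => ?_
      · have h11 := hg v hv
        cases h12 : col (g • v) <;> cases h13 : col v <;> simp_all [Subsingleton.elim _ (0 : Fin 1)]
      · simp [holes]
      · obtain rfl : k = 1 := by omega
        rw [h9]; decide
    obtain ⟨col, hcol⟩ := R2 (H := MulAction.stabilizer Γ x) h8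
    refine e.locGood_one h s hcol fun k hk hk' h10 => ?_
    have h11 : Nat.card Kˣ ∣ 2 ^ 3 := h10.trans (by interval_cases k <;> decide)
    obtain ⟨i, hi, h12⟩ := (Nat.dvd_prime_pow Nat.prime_two).1 h11
    rw [h12] at hd h5 h6 h9
    interval_cases i <;> simp_all
  by_cases h5 : 5 ≤ r
  · obtain ⟨col, hcol⟩ := R5 (H := MulAction.stabilizer Γ x) h5 h1
    exact e.locGood_one h s hcol fun k hk hk' => by omega
  obtain rfl : r = 3 := by
    have h6 := h.prime
    have h7 := h6.two_le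
    interval_cases r <;> first | rfl | exact absurd rfl h4 | exact absurd h6 (by decide)
  by_cases h6 : Nat.card Kˣ = 3
  · obtain ⟨col, hcol⟩ := R3odd (H := MulAction.stabilizer Γ x)
      ((h3 rfl hM h6).of_dvd_nat (S.card_stab_dvd e.ne)) h1
    exact e.locGood_one h s hcol fun k hk hk' => by omega
  · obtain ⟨col, hcol⟩ := Rodd2 (H := MulAction.stabilizer Γ x) h4 h1
    refine e.locGood_one h s hcol fun k hk hk' h7 => ?_
    obtain rfl : k = 1 := by omega
    exact h6 (Nat.dvd_antisymm h7 hd)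

theorem Fam.hasBase_of_locGood [FaithfulSMul Γ V] {P : Finset ℕ} {M : ℕ → Subgroup Γ}
    (h : Fam S P M) {j : ℕ}
    (loc : ∀ r ∈ P, ∀ L x, Eig S (M r) L x → LocGood S (M r) L x (j + 1)) :
    HasBase Γ V (j + 2) := by
  choose! L hL using fun r hr => (h.heis r hr).exists_lag (one_mem _) (spl_of_mem_U (one_mem _))
  obtain ⟨x, y, hx, e, hy, core⟩ := h.exists_core fun r hr => (hL r hr).1
  exact h.hasBase hx e (fun _ => y) (fun r hr _ => hy r hr) (fun g h1 h2 => core g h1 (h2 0))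
    fun r hr => loc r hr _ x (e r hr)

end Cfsg.Lib.Base
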