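import Cfsg.Agent.Base.Defs

/-!
# The field of a primitive solvable linear group
-/

set_option autoImplicit false

namespace Cfsg.Lib.Base

open scoped Pointwise

universe u v

/-- A group acting on a `K`-space, containing the scalars as a maximal abelian normal subgroup. -/
structure Setup (K V Γ : Type*) [Field K] [AddCommGroup V] [Module K V] [Group Γ]
    [DistribMulAction Γ V] where
  /-- the scalars -/
  ι : Kˣ →* Γ
  ι_smul : ∀ (u : Kˣ) (v : V), ι u • v = (u : K) • v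
  normal : ι.range.Normal
  max : ∀ B : Subgroup Γ, B.Normal → (∀ a ∈ B, ∀ b ∈ B, a * b = b * a) → ι.range ≤ B → B ≤ ι.range

variable {G : Type u} [Group G] {V : Type v} [AddCommGroup V] [DistribMulAction G V]

/-- The common kernel of a set of ring elements. -/
def comKer {K : Type*} [CommRing K] (V : Type*) [AddCommGroup V] [Module K V] (S : Set K) :
    AddSubgroup V where
  carrier := {v | ∀ s ∈ S, s • v = 0}
  zero_mem' := fun s _ => smul_zero s
  add_mem' := fun ha hb s hs => by rw [smul_add, ha s hs, hb s hs, add_zero]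
  neg_mem' := fun ha s hs => by rw [smul_neg, ha s hs, neg_zero]

theorem Prim.zero_or_inj [Finite V] {K : Type*} [CommRing K] [Module K V] (h : Prim G V)
    (hconj : ∀ (g : G) (a : K), ∃ b : K, ∀ v : V, g • a • v = b • g • v) (a : K) :
    (∀ v : V, a • v = 0) ∨ ∀ v : V, a • v = 0 → v = 0 := by
  classical
  let P : AddSubgroup V → Prop := fun W => W ≠ ⊥ ∧ ∃ S : Set K, W = comKer V S
  have hP : ∀ (g : G) (W : AddSubgroup V), P W → P (g • W) := by
    rintro g _ ⟨h0, S, rfl⟩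
    choose c hc using hconj g
    refine ⟨fun e => h0 ?_, c '' S, ?_⟩
    · rw [← inv_smul_smul g (comKer V S), e]
      exact AddSubgroup.map_bot _
    · ext v
      rw [AddSubgroup.mem_pointwise_smul_iff_inv_smul_mem]
      refine ⟨?_, fun hv s hs => ?_⟩
      · rintro hv _ ⟨s, hs, rfl⟩
        rw [← smul_inv_smul g v, ← hc, hv s hs, smul_zero]
      · rw [← smul_eq_zero_iff_eq g, hc, smul_inv_smul]
        exact hv _ ⟨s, hs, rfl⟩
  have hmin : ∀ (g : G) (W : AddSubgroup V), Minimal P W → Minimal P (g • W) := fun g W hW =>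
    ⟨hP g W hW.1, fun W' h1 h2 => by
      rw [← smul_inv_smul g W']
      refine AddSubgroup.pointwise_smul_le_pointwise_smul_iff.2 (hW.2 (hP _ _ h1) ?_)
      rw [← inv_smul_smul g W]
      exact AddSubgroup.pointwise_smul_le_pointwise_smul_iff.2 h2⟩
  have hdich : ∀ W, Minimal P W → ∀ b : K, (∀ v ∈ W, b • v = 0) ∨ ∀ v ∈ W, b • v = 0 → v = 0 := by
    intro W hW b
    obtain ⟨S, rfl⟩ := hW.1.2
    have hle : comKer V (insert b S) ≤ comKer V S := fun v hv s hs => hv s (Or.inr hs)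
    by_cases h0 : comKer V (insert b S) = ⊥
    · refine Or.inr fun v hv hb => AddSubgroup.mem_bot.1 (h0 ▸ ?_)
      rintro s (rfl | hs)
      exacts [hb, hv s hs]
    · exact Or.inl fun v hv => hW.2 ⟨h0, _, rfl⟩ hle hv b (Or.inl rfl)
  have hmul : ∀ W, Minimal P W → ∀ b : K, ∀ v ∈ W, b • v ∈ W := by
    intro W hW b v hv
    obtain ⟨S, rfl⟩ := hW.1.2
    exact fun s hs => by rw [smul_comm, hv s hs, smul_zero]
  have hsep : ∀ W, Minimal P W → ∀ T : Finset (AddSubgroup V), (∀ W' ∈ T, Minimal P W' ∧ W' ≠ W) →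
      ∃ b : K, (∀ v ∈ W, b • v = 0 → v = 0) ∧ ∀ W' ∈ T, ∀ v ∈ W', b • v = 0 := by
    intro W hW T
    induction T using Finset.induction_on with
    | empty => exact fun _ => ⟨1, fun v _ hv => by rwa [one_smul] at hv, by simp⟩
    | insert W' T _ ih =>
      intro hT
      obtain ⟨b, h1, h2⟩ := ih fun W'' hW'' => hT _ (Finset.mem_insert_of_mem hW'')
      obtain ⟨h3, h4⟩ := hT W' (Finset.mem_insert_self _ _)
      obtain ⟨S, hS⟩ := h3.1.2
      obtain ⟨s, hs, h5⟩ : ∃ s ∈ S, ∀ v ∈ W, s • v = 0 → v = 0 := by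
        by_contra hc
        refine h4 (h3.eq_of_ge hW.1 (hS ▸ fun v hv s hs => ?_))
        exact ((hdich W hW s).resolve_right fun e => hc ⟨s, hs, e⟩) v hv
      refine ⟨b * s, fun v hv e => h5 v hv (h1 _ (hmul W hW s v hv) (by rwa [← mul_smul])), ?_⟩
      intro W'' hW'' v hv
      rcases Finset.mem_insert.1 hW'' with rfl | hW''
      · rw [mul_smul, (hS ▸ hv : v ∈ comKer V S) s hs, smul_zero]
      · rw [mul_comm, mul_smul, h2 _ hW'' v hv, smul_zero]
  have := h.1.1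
  obtain ⟨W, -, hW⟩ := exists_minimal_le_of_wellFoundedLT P ⊤
    ⟨top_ne_bot, ∅, (eq_top_iff.2 fun v _ s hs => absurd hs (Set.notMem_empty s)).symm⟩
  have htop : sSup {W | Minimal P W} = ⊤ := by
    refine (h.1.2 _ fun g v hv => ?_).resolve_left fun e => hW.1.1 (le_bot_iff.1 (e ▸ le_sSup hW))
    have h1 : sSup {W | Minimal P W} ≤ g⁻¹ • sSup {W | Minimal P W} := sSup_le fun W' hW' => by
      rw [← inv_smul_smul g W']
      exact AddSubgroup.pointwise_smul_le_pointwise_smul_iff.2 (le_sSup (hmin g W' hW'))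
    simpa [AddSubgroup.mem_pointwise_smul_iff_inv_smul_mem] using h1 hv
  have hsub := h.2 {W | Minimal P W} hmin (fun W hW => by
    obtain ⟨b, h1, h2⟩ := hsep W hW (Set.toFinite ({W | Minimal P W} \ {W})).toFinset
      fun W' hW' => by simpa using hW'
    have h3 : sSup ({W | Minimal P W} \ {W}) ≤ comKer V {b} := sSup_le fun W' hW' v hv s hs =>
      hs ▸ h2 W' (by simpa using hW') v hv
    exact disjoint_iff.2 (eq_bot_iff.2 fun v hv => h1 v hv.1 (h3 hv.2 b rfl))) htop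
    fun e => e.1.1 rfl
  have h2 : W = ⊤ := top_le_iff.1 (htop ▸ sSup_le fun W' hW' => (hsub hW' hW).le)
  subst h2
  exact (hdich ⊤ hW a).imp (fun e v => e v trivial) fun e v => e v trivial

open scoped IsMulCommutative in
theorem Prim.exists_setup [Finite G] [Group.IsSolvable G] [Finite V] (h : Prim G V) :
    ∃ (K : Type v) (_ : Field K) (_ : Finite K) (_ : Module K V) (Γ : Type v) (_ : Group Γ)
      (_ : Finite Γ) (_ : Group.IsSolvable Γ) (_ : DistribMulAction Γ V) (_ : FaithfulSMul Γ V)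
      (S : Setup K V Γ), S.ι.range.index ∣ Nat.card G ∧
        ∃ f : G →* Γ, ∀ (g : G) (v : V), f g • v = g • v := by
  have hV := h.1.1
  let R := Module.End ℤ V
  have : Finite R := Finite.of_injective _ DFunLike.coe_injective
  let φ : G →* Rˣ := (DistribMulAction.toModuleEnd ℤ V).toHomUnits
  let P : Subgroup Rˣ → Prop := fun B => B ≤ φ.range ∧ (∀ g : G, ∀ b ∈ B, φ g * b * (φ g)⁻¹ ∈ B) ∧
    ∀ a ∈ B, ∀ b ∈ B, a * b = b * a
  obtain ⟨U, -, hU⟩ := Finite.exists_le_maximal (p := P) (a := ⊥)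
    ⟨bot_le, by simp, by simp⟩
  let K : Subring R := Subring.closure (Units.val '' (U : Set Rˣ))
  have : IsMulCommutative K := Subring.isMulCommutative_closure (by
    rintro _ ⟨a, ha, rfl⟩ _ ⟨b, hb, rfl⟩
    exact congrArg Units.val (hU.1.2.2 a ha b hb))
  have hK : ∀ (g : G), ∀ a ∈ K, (φ g : R) * a * ((φ g)⁻¹ : Rˣ) ∈ K := by
    intro g a ha
    induction ha using Subring.closure_induction with
    | mem x hx =>
      obtain ⟨b, hb, rfl⟩ := hx
      exact Subring.subset_closure ⟨_, hU.1.2.1 g b hb, rfl⟩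
    | zero => simp
    | one => simp
    | add x y _ _ hx hy => simpa [mul_add, add_mul] using K.add_mem hx hy
    | neg x _ hx => rw [mul_neg, neg_mul]; exact K.neg_mem hx
    | mul x y _ _ hx hy => simpa [mul_assoc] using K.mul_mem hx hy
  have hinv : ∀ u : Rˣ, (u : R) ∈ K → ((u⁻¹ : Rˣ) : R) ∈ K := fun u hu => by
    have h1 : u⁻¹ = u ^ (orderOf u - 1) := by
      rw [inv_eq_iff_mul_eq_one, ← pow_succ', Nat.sub_add_cancel (orderOf_pos u), pow_orderOf_eq_one]
    rw [h1, Units.val_pow_eq_pow_val]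
    exact K.pow_mem hu _
  have hF : IsField K := by
    refine ⟨⟨0, 1, fun e => ?_⟩, mul_comm, fun {a} ha => ?_⟩
    · obtain ⟨v, hv⟩ := exists_ne (0 : V)
      exact hv (congrArg (fun k : K => (k : R) v) e).symm
    have h1 := (h.zero_or_inj (K := K) (fun g a => ⟨⟨_, hK g a a.2⟩, fun v => by
      change φ g • ((a : R) v) = ((φ g : R) * a * ((φ g)⁻¹ : Rˣ)) (φ g • v)
      rw [Module.End.mul_apply, Module.End.mul_apply]
      exact congrArg (fun w => φ g • (a : R) w) (inv_smul_smul (φ g) v).symm⟩) a).resolve_left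
      fun e => ha (Subtype.ext (LinearMap.ext e))
    have h2 : IsUnit (a : R) := (Module.End.isUnit_iff _).2
      (Finite.injective_iff_bijective.1 ((injective_iff_map_eq_zero _).2 h1))
    exact ⟨⟨_, hinv h2.unit a.2⟩, Subtype.ext h2.mul_val_inv⟩
  let UK : Subgroup Rˣ :=
    { carrier := {u | (u : R) ∈ K}
      one_mem' := K.one_mem
      mul_mem' := fun ha hb => K.mul_mem ha hb
      inv_mem' := fun ha => hinv _ ha }
  have hn : φ.range ≤ Subgroup.normalizer (UK : Set Rˣ) := by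
    rintro _ ⟨g, rfl⟩
    exact Subgroup.mem_normalizer_fintype fun u hu => hK g u hu
  let _ : Field K := hF.toField
  let Γ : Subgroup Rˣ := φ.range ⊔ UK
  let ι : Kˣ →* Γ := (Units.map K.subtype.toMonoidHom).codRestrict Γ fun u =>
    Subgroup.mem_sup_right u.1.2
  have hι : ι.range = UK.subgroupOf Γ := by
    ext u
    refine ⟨?_, fun hu => ⟨⟨⟨_, hu⟩, ⟨_, hinv _ hu⟩, Subtype.ext u.1.mul_inv,
      Subtype.ext u.1.inv_mul⟩, Subtype.ext (Units.ext rfl)⟩⟩
    rintro ⟨k, rfl⟩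
    exact k.1.2
  have hN : ι.range.Normal := by
    rw [hι, Subgroup.normal_subgroupOf_iff_le_normalizer le_sup_right]
    exact sup_le hn Subgroup.le_normalizer
  have hdec : ∀ b ∈ Γ, ∃ g : G, ∃ u ∈ UK, b = φ g * u := fun b hb => by
    have h1 : b ∈ ((φ.range ⊔ UK : Subgroup Rˣ) : Set Rˣ) := hb
    rw [Subgroup.coe_mul_of_left_le_normalizer_right _ _ hn] at h1
    obtain ⟨_, ⟨g, rfl⟩, u, hu, rfl⟩ := h1
    exact ⟨g, u, hu, rfl⟩
  let f : G →* Γ := φ.codRestrict Γ fun g => Subgroup.mem_sup_left ⟨g, rfl⟩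
  have hf : Function.Surjective ((QuotientGroup.mk' ι.range).comp f) := fun b => by
    obtain ⟨b, rfl⟩ := QuotientGroup.mk'_surjective _ b
    obtain ⟨g, u, hu, e⟩ := hdec b b.2
    refine ⟨g, QuotientGroup.eq.2 (hι ▸ ?_)⟩
    change (φ g)⁻¹ * b ∈ UK
    rwa [e, inv_mul_cancel_left]
  have : Group.IsSolvable (Γ ⧸ ι.range) := Group.isSolvable_of_surjective hf
  refine ⟨K, inferInstance, inferInstance, inferInstance, Γ, inferInstance, inferInstance,
    Group.isSolvable_of_ker_le_range ι (QuotientGroup.mk' ι.range) (by rw [QuotientGroup.ker_mk']),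
    inferInstance, ⟨fun {a b} e => Subtype.ext (Units.ext (LinearMap.ext e))⟩,
    ⟨ι, fun _ _ => rfl, hN, fun B hB hc hle b hb => ?_⟩,
    Subgroup.card_dvd_of_surjective _ hf, f, fun _ _ => rfl⟩
  have hUK : U ≤ UK := fun u hu => Subring.subset_closure ⟨u, hu, rfl⟩
  have h1 : U ≤ B.map Γ.subtype ⊓ φ.range := fun u hu =>
    ⟨⟨⟨u, Subgroup.mem_sup_right (hUK hu)⟩, hle (hι ▸ hUK hu), rfl⟩, hU.1.1 hu⟩
  have h2 := hU.2 (y := B.map Γ.subtype ⊓ φ.range) ⟨inf_le_right, ?_, ?_⟩ h1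
  · obtain ⟨g, u, hu, e⟩ := hdec b b.2
    have h3 : φ g ∈ UK := hUK (h2 ⟨⟨b * ⟨u, Subgroup.mem_sup_right hu⟩⁻¹,
      mul_mem hb (inv_mem (hle (hι ▸ hu))), by simp [e]⟩, g, rfl⟩)
    rw [hι]
    exact (e ▸ mul_mem h3 hu : (b : Rˣ) ∈ UK)
  · rintro g _ ⟨⟨c, hc, rfl⟩, hc'⟩
    exact ⟨⟨_, hB.conj_mem c hc (f g), rfl⟩, φ.range.mul_mem (φ.range.mul_mem ⟨g, rfl⟩ hc') (φ.range.inv_mem ⟨g, rfl⟩)⟩
  · rintro _ ⟨⟨c, hc', rfl⟩, -⟩ _ ⟨⟨d, hd, rfl⟩, -⟩
    exact congrArg Subtype.val (hc c hc' d hd)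

end Cfsg.Lib.Base
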