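import Cfsg.Agent.Base.Flag
import Cfsg.Agent.Perm.MultiBasic
import Cfsg.Agent.S0048

/-!
# Symplectic and quadratic spaces over `F₂` with a group action
-/

set_option autoImplicit false

namespace Cfsg.Lib.Base

variable {W : Type*} [AddCommGroup W] [Module (ZMod 2) W] {B : LinearMap.BilinForm (ZMod 2) W}

theorem add_self_two (w : W) : w + w = 0 := by
  rw [← two_smul (ZMod 2), show (2 : ZMod 2) = 0 from rfl, zero_smul]

theorem zmod2_cases (a : ZMod 2) : a = 0 ∨ a = 1 := by revert a; decide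

theorem alt_symm (halt : ∀ w, B w w = 0) (u v : W) : B u v = B v u := by
  have := halt (u + v)
  simp only [map_add, LinearMap.add_apply, halt, zero_add, add_zero] at this
  generalize B u v = a, B v u = b at this
  revert a b; decide

/-- The orthogonal complement of a subgroup. -/
def perp (B : LinearMap.BilinForm (ZMod 2) W) (U : AddSubgroup W) : AddSubgroup W :=
  (B.orthogonal (AddSubgroup.toZModSubmodule 2 U)).toAddSubgroup

theorem mem_perp {U : AddSubgroup W} {w : W} : w ∈ perp B U ↔ ∀ u ∈ U, B u w = 0 := Iff.rfl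

theorem card_mul_card_perp [Finite W] (hB : ∀ w, (∀ v, B w v = 0) → w = 0) (U : AddSubgroup W) :
    Nat.card U * Nat.card (perp B U) = Nat.card W := by
  have h := B.finrank_add_finrank_orthogonal' (AddSubgroup.toZModSubmodule 2 U)
  rw [show LinearMap.ker B = ⊥ from eq_bot_iff.2 fun w hw =>
    hB w fun v => by rw [LinearMap.mem_ker.1 hw]; rfl, inf_bot_eq, finrank_bot, add_zero] at h
  rw [Module.natCard_eq_pow_finrank (K := ZMod 2) (V := W), ← h, pow_add,
    ← Module.natCard_eq_pow_finrank, ← Module.natCard_eq_pow_finrank]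
  rfl

theorem exists_dual (hB : ∀ w, (∀ v, B w v = 0) → w = 0) (halt : ∀ w, B w w = 0) {e1 e2 : W}
    (h0 : e1 ≠ 0) (h12 : e1 ≠ e2) : ∃ s, B s e1 = 1 ∧ B s e2 = 0 := by
  have k : ∀ e : W, e ≠ 0 → ∃ s, B s e = 1 := fun e he => by
    obtain ⟨s, hs⟩ := not_forall.1 (mt (hB e) he)
    exact ⟨s, (zmod2_cases _).resolve_left (by rwa [alt_symm halt])⟩
  obtain ⟨a, ha⟩ := k e1 h0
  obtain ⟨b, hb⟩ := k (e1 - e2) (sub_ne_zero.2 h12)
  rw [map_sub] at hb
  rcases zmod2_cases (B a e2) with h | h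
  · exact ⟨a, ha, h⟩
  rcases zmod2_cases (B b e2) with h' | h'
  · exact ⟨b, by rwa [h', sub_zero] at hb, h'⟩
  · refine ⟨a + b, ?_, ?_⟩
    · rw [map_add, LinearMap.add_apply, ha, eq_add_of_sub_eq hb, h']; rfl
    · rw [map_add, LinearMap.add_apply, h, h']; rfl

theorem card_le_card_perp [Finite W] {U : AddSubgroup W} (h : ∀ u ∈ U, ∀ v ∈ U, B u v = 0) :
    Nat.card U ≤ Nat.card (perp B U) :=
  AddSubgroup.card_le_of_le fun v hv u hu => h u hu v hv

theorem exists_sing [Finite W] (hB : ∀ w, (∀ v, B w v = 0) → w = 0) (halt : ∀ w, B w w = 0)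
    {Q : W → ZMod 2} (hQ : ∀ u v, Q (u + v) = Q u + Q v + B u v) (h16 : 16 < Nat.card W)
    {e1 e2 : W} (h0 : e1 ≠ 0) (h12 : e1 ≠ e2) : ∃ s, Q s = 0 ∧ B s e1 = 1 ∧ B s e2 = 0 := by
  obtain ⟨s, h1, h2⟩ := exists_dual hB halt h0 h12
  by_contra hc
  push Not at hc
  let f : W →+ ZMod 2 × ZMod 2 := (B e1).toAddMonoidHom.prod (B e2).toAddMonoidHom
  have mem : ∀ p, p ∈ f.ker ↔ B p e1 = 0 ∧ B p e2 = 0 := fun p => by
    simp [f, AddMonoidHom.mem_ker, alt_symm halt p]
  have key : ∀ p ∈ f.ker, Q s + Q p + B s p = 1 := fun p hp => by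
    rw [← hQ]
    refine (zmod2_cases _).resolve_left fun h => hc _ h ?_ ?_
    · simp [h1, ((mem p).1 hp).1]
    · simp [h2, ((mem p).1 hp).2]
  have iso : ∀ u ∈ f.ker, ∀ v ∈ f.ker, B u v = 0 := fun u hu v hv => by
    have a0 := key 0 (zero_mem _)
    have a1 := key u hu
    have a2 := key v hv
    have a3 := key _ (add_mem hu hv)
    have a4 := hQ 0 0
    rw [hQ, map_add] at a3
    simp only [add_zero, map_zero] at a0 a4
    linear_combination a3 - a1 - a2 + a0 + a4
  have c1 := card_mul_card_perp hB f.ker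
  have c2 := card_le_card_perp iso
  have c3 := f.ker.card_mul_index
  have c4 : f.ker.index ≤ 4 := by
    rw [AddSubgroup.index_ker]
    exact (AddSubgroup.card_le_card_addGroup _).trans (by simp)
  have c5 : Nat.card (perp B f.ker) = f.ker.index :=
    Nat.eq_of_mul_eq_mul_left Nat.card_pos (c1.trans c3.symm)
  nlinarith

variable {H : Type*} [Group H] [DistribMulAction H W]

theorem Inv.perp (hinv : ∀ (h : H) u v, B (h • u) (h • v) = B u v) {U : AddSubgroup W}
    (hU : Inv H U) : Inv H (perp B U) := fun g v hv u hu => by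
  rw [← smul_inv_smul g u, hinv]; exact hv _ (hU _ _ hu)

theorem inf_perp_eq_bot (hinv : ∀ (h : H) u v, B (h • u) (h • v) = B u v)
    (hiso : ∀ U : AddSubgroup W, Inv H U → (∀ u ∈ U, ∀ v ∈ U, B u v = 0) → U = ⊥)
    {U : AddSubgroup W} (hU : Inv H U) : U ⊓ perp B U = ⊥ :=
  hiso _ (fun g v hv => ⟨hU g v hv.1, hU.perp hinv g v hv.2⟩) fun u hu _ hv => hv.2 u hu.1

theorem cr_of_iso [Finite W] (hB : ∀ w, (∀ v, B w v = 0) → w = 0)
    (hinv : ∀ (h : H) u v, B (h • u) (h • v) = B u v)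
    (hiso : ∀ U : AddSubgroup W, Inv H U → (∀ u ∈ U, ∀ v ∈ U, B u v = 0) → U = ⊥) :
    CR H W := fun U hU => by
  have h := inf_perp_eq_bot hinv hiso hU
  refine ⟨perp B U, hU.perp hinv, h, AddSubgroup.eq_top_of_le_card _ ?_⟩
  rw [← card_mul_card_perp hB U, ← Nat.card_prod]
  refine Nat.card_le_card_of_injective (fun x : U × perp B U => (⟨x.1 + x.2,
    AddSubgroup.add_mem_sup x.1.2 x.2.2⟩ : (U ⊔ perp B U : AddSubgroup W))) fun a b e => ?_
  have e : (a.1 : W) + a.2 = b.1 + b.2 := congrArg Subtype.val e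
  have m : (a.1 : W) - b.1 ∈ U ⊓ perp B U := AddSubgroup.mem_inf.2 ⟨sub_mem a.1.2 b.1.2, by
    rw [show (a.1 : W) - b.1 = b.2 - a.2 by rw [sub_eq_sub_iff_add_eq_add, e, add_comm]]
    exact sub_mem b.2.2 a.2.2⟩
  rw [h, AddSubgroup.mem_bot, sub_eq_zero] at m
  rw [m, add_right_inj] at e
  exact Prod.ext (Subtype.ext m) (Subtype.ext e)

theorem iso_of_card_two (halt : ∀ w, B w w = 0) {U : AddSubgroup W} (h : Nat.card U = 2) :
    ∀ u ∈ U, ∀ v ∈ U, B u v = 0 := fun u hu v hv => by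
  obtain ⟨y, -, hy⟩ := (Nat.card_eq_two_iff' (0 : U)).1 h
  by_cases h1 : u = 0
  · simp [h1]
  by_cases h2 : v = 0
  · simp [h2]
  have e := (hy ⟨u, hu⟩ fun a => h1 (congrArg Subtype.val a)).trans
    (hy ⟨v, hv⟩ fun a => h2 (congrArg Subtype.val a)).symm
  rw [show u = v from congrArg Subtype.val e, halt]

theorem card_ne_eight (halt : ∀ w, B w w = 0) {U : AddSubgroup W} (h : U ⊓ perp B U = ⊥) :
    Nat.card U ≠ 8 := fun h8 => by
  haveI : Finite U := Nat.finite_of_card_ne_zero (by omega)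
  have nd : ∀ c ∈ U, (∀ u ∈ U, B u c = 0) → c = 0 := fun c hc h' =>
    AddSubgroup.mem_bot.1 (h ▸ (⟨hc, h'⟩ : c ∈ U ⊓ perp B U))
  obtain ⟨a, ha, ha0⟩ := (AddSubgroup.bot_or_exists_ne_zero U).resolve_left
    (by rintro rfl; simp at h8)
  obtain ⟨b, hb, hab⟩ : ∃ b ∈ U, B b a = 1 := by
    by_contra hc
    push Not at hc
    exact ha0 (nd a ha fun u hu => (zmod2_cases _).resolve_right (hc u hu))
  have hba : B a b = 1 := by rwa [alt_symm halt]
  let f : U →+ ZMod 2 × ZMod 2 :=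
    ((B a).toAddMonoidHom.prod (B b).toAddMonoidHom).comp U.subtype
  have fs : ∀ x : U, f x = (B a x, B b x) := fun _ => rfl
  have hs : f.range = ⊤ := eq_top_iff.2 fun x _ =>
    ⟨⟨x.2 • a + x.1 • b, add_mem (ZMod.smul_mem ha _) (ZMod.smul_mem hb _)⟩, by
      simp [fs, halt, hab, hba]⟩
  have c3 := f.ker.card_mul_index
  rw [AddSubgroup.index_ker, hs, h8] at c3
  simp only [AddSubgroup.card_top, Nat.card_prod, Nat.card_zmod] at c3
  obtain ⟨c, hc0, hc⟩ := (Nat.card_eq_two_iff' (0 : f.ker)).1 (by omega)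
  have hc2 := c.2
  rw [AddMonoidHom.mem_ker, fs, Prod.mk_eq_zero] at hc2
  refine hc0 (Subtype.ext (Subtype.ext (nd _ c.1.2 fun u hu => ?_)))
  have m : (⟨u - B b u • a - B a u • b, sub_mem (sub_mem hu (ZMod.smul_mem ha _))
      (ZMod.smul_mem hb _)⟩ : U) ∈ f.ker := by
    simp [AddMonoidHom.mem_ker, fs, halt, hab, hba]
  have : B (u - B b u • a - B a u • b) c = 0 := by
    by_cases h0 : (⟨_, m⟩ : f.ker) = 0
    · rw [show u - B b u • a - B a u • b = 0 from congrArg (fun x : f.ker => (x.1 : W)) h0]; simp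
    · rw [show u - B b u • a - B a u • b = c from congrArg (fun x : f.ker => (x.1 : W)) (hc _ h0),
        halt]
  simpa [hc2.1, hc2.2] using this

theorem eight_lt_card [Finite H] [Finite W] (halt : ∀ w, B w w = 0)
    (hinv : ∀ (h : H) u v, B (h • u) (h • v) = B u v)
    (hiso : ∀ U : AddSubgroup W, Inv H U → (∀ u ∈ U, ∀ v ∈ U, B u v = 0) → U = ⊥)
    (h3 : ¬ 3 ∣ Nat.card H) {U : AddSubgroup W} (hU : Inv H U) (h0 : U ≠ ⊥) :
    8 < Nat.card U := by
  have two : ∀ U : AddSubgroup W, Inv H U → Nat.card U ≠ 2 := fun U hU h => by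
    rw [hiso U hU (iso_of_card_two halt h)] at h; simp at h
  have h8 := card_ne_eight halt (inf_perp_eq_bot hinv hiso hU)
  have h2 := two U hU
  have h1 := (AddSubgroup.one_lt_card_iff_ne_bot U).2 h0
  have h4 : Nat.card U ≠ 4 := fun h4 => by
    letI := hU.subAct
    refine Irr.card_ne_four (H := H) ⟨(AddSubgroup.nontrivial_iff_ne_bot U).2 h0, fun X hX => ?_⟩
      h3 (fun v => Subtype.ext (add_self_two v.1)) h4
    have a := two (X.map U.subtype) (by
      rintro g _ ⟨v, hv, rfl⟩; exact ⟨g • v, hX g v hv, rfl⟩)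
    rw [AddSubgroup.card_map_of_injective U.subtype_injective] at a
    have b := X.card_addSubgroup_dvd_card
    rw [h4] at b
    have c := Nat.le_of_dvd (by norm_num) b
    interval_cases h : Nat.card X
    · simp at b
    · exact Or.inl (AddSubgroup.card_eq_one.1 h)
    · exact (a rfl).elim
    · simp at b
    · exact Or.inr (AddSubgroup.eq_top_of_card_eq _ (h.trans h4.symm))
  obtain ⟨d, -, hd⟩ := exists_coords (Ω := U) (r := 2)
    (fun v => by rw [two_smul]; exact Subtype.ext (add_self_two v.1))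
  rw [hd] at h1 h2 h4 h8 ⊢
  rcases d with _ | _ | _ | _ | d
  · omega
  · omega
  · omega
  · omega
  · rw [pow_succ, pow_succ, pow_succ, pow_succ]; have := Nat.one_le_two_pow (n := d); omega

omit [Module (ZMod 2) W] in
theorem exists_avoid [Finite W] (L P : AddSubgroup W) (s : Finset W)
    (h : s.card * Nat.card L < Nat.card P) : ∃ x ∈ P, ∀ y ∈ s, x + y ∉ L := by
  by_contra hc
  push Not at hc
  choose k hk hk' using fun x : P => hc x x.2
  refine h.not_ge ?_
  rw [← Nat.card_eq_finsetCard, ← Nat.card_prod]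
  refine Nat.card_le_card_of_injective (fun x => (⟨k x, hk x⟩, ⟨_, hk' x⟩)) fun a b e => ?_
  simp only [Prod.mk.injEq, Subtype.mk.injEq] at e
  rw [e.1, add_left_inj] at e
  exact Subtype.ext e.2

theorem card_perp_le [Finite W] {Q : W → ZMod 2} (hQ : ∀ u v, Q (u + v) = Q u + Q v + B u v)
    (L : AddSubgroup W) (hL : Nat.card L = 4)
    (hmax : ∀ w, (∀ l ∈ L, B l w = 0) → Q w = 0 → w ∈ L) : Nat.card (perp B L) ≤ 16 := by
  classical
  by_contra hc
  have q : ∀ x ∈ perp B L, x ∉ L → Q x = 1 := fun x hx h =>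
    (zmod2_cases _).resolve_left fun a => h (hmax x hx a)
  have b : ∀ x ∈ perp B L, ∀ y ∈ perp B L, x ∉ L → y ∉ L → x + y ∉ L → B x y = 1 :=
    fun x hx y hy h1 h2 h3 => by
    have := hQ x y
    rw [q x hx h1, q y hy h2, q _ (add_mem hx hy) h3] at this
    revert this; generalize B x y = a; revert a; decide
  obtain ⟨x, hx, h1⟩ := exists_avoid L (perp B L) {0} (by simp only [Finset.card_singleton]; omega)
  obtain ⟨y, hy, h2⟩ := exists_avoid L (perp B L) {0, x}
    (by have := Finset.card_le_two (a := 0) (b := x); nlinarith)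
  obtain ⟨z, hz, h3⟩ := exists_avoid L (perp B L) {0, x, y, y + x}
    (by have := Finset.card_le_four (a := 0) (b := x) (c := y) (d := y + x); nlinarith)
  simp only [Finset.mem_insert, Finset.mem_singleton, forall_eq_or_imp, forall_eq, add_zero]
    at h1 h2 h3
  have b1 := b y hy x hx h2.1 h1 h2.2
  have b2 := b z hz x hx h3.1 h1 h3.2.1
  have b3 := b _ (add_mem hz hy) x hx h3.2.2.1 h1 (by rw [add_assoc]; exact h3.2.2.2)
  rw [map_add, LinearMap.add_apply, b1, b2] at b3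
  exact absurd b3 (by decide)

theorem card_sing [Finite W] {Q : W → ZMod 2} (hQ : ∀ u v, Q (u + v) = Q u + Q v + B u v)
    (L : AddSubgroup W) (hLQ : ∀ l ∈ L, Q l = 0)
    (hmax : ∀ w, (∀ l ∈ L, B l w = 0) → Q w = 0 → w ∈ L) :
    2 * {w | Q w = 0}.ncard + Nat.card (perp B L) = 2 * Nat.card L + Nat.card W := by
  classical
  have hLL : ∀ l ∈ L, ∀ l' ∈ L, B l l' = 0 := fun l hl l' hl' => by
    have := hQ l l'
    rw [hLQ _ hl, hLQ _ hl', hLQ _ (add_mem hl hl')] at this
    simpa using this.symm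
  let k : W → W := fun w => Classical.epsilon fun l => l ∈ L ∧ B l w = 1
  have hk : ∀ w, w ∉ perp B L → k w ∈ L ∧ B (k w) w = 1 := fun w hw =>
    Classical.epsilon_spec (p := fun l => l ∈ L ∧ B l w = 1) (by
      by_contra hc
      push Not at hc
      exact hw fun l hl => (zmod2_cases _).resolve_right (hc l hl))
  have hk2 : ∀ w, ∀ l ∈ L, k (l + w) = k w := fun w l hl => by
    simp only [k]
    congr 1
    ext l'
    exact and_congr_right fun hl' => by rw [map_add, hLL _ hl' _ hl, zero_add]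
  have inj : ∀ a : ZMod 2, {w | w ∉ perp B L ∧ Q w = a}.ncard ≤
      {w | w ∉ perp B L ∧ Q w = a + 1}.ncard := fun a => by
    refine Set.ncard_le_ncard_of_injOn (fun w => k w + w) ?_ ?_
    · rintro w ⟨h1, h2⟩
      refine ⟨fun h => h1 ?_, by rw [hQ, hLQ _ (hk w h1).1, (hk w h1).2, h2, zero_add]⟩
      rwa [AddSubgroup.add_mem_cancel_left _
        (mem_perp.2 fun l hl => hLL l hl _ (hk w h1).1)] at h
    · rintro w ⟨h1, -⟩ w' ⟨h2, -⟩ e
      simp only at e
      have := congrArg k e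
      rw [hk2 _ _ (hk w h1).1, hk2 _ _ (hk w' h2).1] at this
      rwa [this, add_right_inj] at e
  have i0 := inj 0
  have i1 := inj 1
  rw [zero_add] at i0
  rw [show (1 : ZMod 2) + 1 = 0 from rfl] at i1
  have e1 : {w | Q w = 0} = (L : Set W) ∪ {w | w ∉ perp B L ∧ Q w = 0} := by
    ext w
    simp only [Set.mem_ofPred_eq, Set.mem_union, SetLike.mem_coe]
    refine ⟨fun h => ?_, fun h => h.elim (hLQ w) And.right⟩
    by_cases h' : w ∈ perp B L
    · exact Or.inl (hmax w h' h)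
    · exact Or.inr ⟨h', h⟩
  have e2 : (perp B L : Set W)ᶜ = {w | w ∉ perp B L ∧ Q w = 0} ∪ {w | w ∉ perp B L ∧ Q w = 1} := by
    ext w
    have := zmod2_cases (Q w)
    simp only [Set.mem_compl_iff, SetLike.mem_coe, Set.mem_union, Set.mem_ofPred_eq]
    tauto
  have c1 := Set.ncard_add_ncard_compl (perp B L : Set W)
  rw [e2, Set.ncard_union_eq (Set.disjoint_left.2 fun w h1 h2 => by
    have := h1.2.symm.trans h2.2; simp at this)] at c1
  rw [e1, Set.ncard_union_eq (Set.disjoint_left.2 fun w h1 h2 => h2.1 fun l hl => hLL l hl w h1)]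
  simp only [← Nat.card_coe_set_eq, SetLike.coe_sort_coe] at *
  omega

theorem not_rank_two_faithful [Finite H] [Finite W] [Group.IsSolvable H] [FaithfulSMul H W]
    (hB : ∀ w, (∀ v, B w v = 0) → w = 0) (halt : ∀ w, B w w = 0)
    (hinv : ∀ (h : H) u v, B (h • u) (h • v) = B u v)
    (hiso : ∀ U : AddSubgroup W, Inv H U → (∀ u ∈ U, ∀ v ∈ U, B u v = 0) → U = ⊥)
    {Q : W → ZMod 2} (hQ : ∀ u v, Q (u + v) = Q u + Q v + B u v) (h3 : ¬ 3 ∣ Nat.card H)
    (hQH : ∀ (h : H) w, Q (h • w) = Q w) (L : AddSubgroup W) (hL : Nat.card L = 4)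
    (hLQ : ∀ l ∈ L, Q l = 0) (hmax : ∀ w, (∀ l ∈ L, B l w = 0) → Q w = 0 → w ∈ L) : False := by
  have c1 := card_perp_le hQ L hL hmax
  have c2 := card_sing hQ L hLQ hmax
  have c3 := card_mul_card_perp hB L
  rw [hL] at c2 c3
  obtain ⟨l, hl, hl0⟩ := (AddSubgroup.bot_or_exists_ne_zero L).resolve_left
    (by rintro rfl; simp at hL)
  rcases subsingleton_or_nontrivial H with hH | hH
  · have := eight_lt_card halt hinv hiso h3 (U := L)
      (fun g v hv => by rwa [Subsingleton.elim g 1, one_smul]) (by rintro rfl; simp at hL)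
    omega
  obtain ⟨p, hp, N, hN, hN0, hNp⟩ := Cfsg.Agent.S0048.exists_normal_pgroup H
  let C : AddSubgroup W :=
    { carrier := {w | ∀ g ∈ N, g • w = w}
      zero_mem' := fun g _ => smul_zero g
      add_mem' := fun ha hb g hg => by rw [smul_add, ha g hg, hb g hg]
      neg_mem' := fun ha g hg => by rw [smul_neg, ha g hg] }
  have hC : Inv H C := fun g v hv n hn => by
    have := hv _ (hN.conj_mem n hn g⁻¹)
    rwa [inv_inv, mul_smul, mul_smul, inv_smul_eq_iff] at this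
  have c4 := card_mul_card_perp hB C
  by_cases h0 : C = ⊥
  · have fix : ∀ S : Set W, 0 ∈ S → {x | x ∈ S ∧ ∀ g ∈ N, g • x = x}.ncard = 1 := fun S hS => by
      rw [Set.ncard_eq_one]
      refine ⟨0, Set.eq_singleton_iff_unique_mem.2 ⟨⟨hS, fun g _ => smul_zero g⟩, fun x hx => ?_⟩⟩
      exact AddSubgroup.mem_bot.1 (h0 ▸ (hx.2 : x ∈ C))
    have m1 := Cfsg.Lib.Perm.ncard_modEq_ncard_fixed hp N hNp (Set.univ : Set W) Set.finite_univ
      (fun _ _ _ _ => trivial)
    have m2 := Cfsg.Lib.Perm.ncard_modEq_ncard_fixed hp N hNp {w | Q w = 0} (Set.toFinite _)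
      (fun g _ x hx => (hQH g x).trans hx)
    rw [fix _ (Set.mem_univ _), Set.ncard_univ] at m1
    rw [fix _ (hLQ 0 (zero_mem L))] at m2
    have d1 := m1.dvd
    have d2 := m2.dvd
    have d3 : (p : ℤ) ∣ ((27 : ℕ) : ℤ) := by
      have := dvd_sub (d1.mul_left 3) (d2.mul_left 8)
      rwa [show (3 : ℤ) * ((1 : ℕ) - Nat.card W) - 8 * ((1 : ℕ) - {w | Q w = 0}.ncard) = (27 : ℕ) by
        omega] at this
    have d4 : p = 3 := (Nat.prime_dvd_prime_iff_eq hp Nat.prime_three).1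
      (hp.dvd_of_dvd_pow (n := 3) (Int.natCast_dvd_natCast.1 d3))
    subst d4
    haveI : Fact (Nat.Prime 3) := ⟨hp⟩
    rcases hNp.card_eq_or_dvd with h | h
    · exact hN0 (Subgroup.card_eq_one.1 h)
    · exact h3 (h.trans N.card_subgroup_dvd_card)
  have h1 : perp B C ≠ ⊥ := fun h => by
    rw [h, AddSubgroup.card_bot, mul_one] at c4
    have := AddSubgroup.eq_top_of_card_eq _ c4
    refine hN0 (eq_bot_iff.2 fun g hg => eq_of_smul_eq_smul (α := W) fun w => ?_)
    rw [one_smul]; exact (this ▸ AddSubgroup.mem_top w : w ∈ C) g hg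
  have a := eight_lt_card halt hinv hiso h3 hC h0
  have b := eight_lt_card halt hinv hiso h3 (hC.perp hinv) h1
  nlinarith

theorem not_rank_two [Finite H] [Finite W] [Group.IsSolvable H]
    (hB : ∀ w, (∀ v, B w v = 0) → w = 0) (halt : ∀ w, B w w = 0)
    (hinv : ∀ (h : H) u v, B (h • u) (h • v) = B u v)
    (hiso : ∀ U : AddSubgroup W, Inv H U → (∀ u ∈ U, ∀ v ∈ U, B u v = 0) → U = ⊥)
    {Q : W → ZMod 2} (hQ : ∀ u v, Q (u + v) = Q u + Q v + B u v) (h3 : ¬ 3 ∣ Nat.card H)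
    (hQH : ∀ (h : H) w, Q (h • w) = Q w) (L : AddSubgroup W) (hL : Nat.card L = 4)
    (hLQ : ∀ l ∈ L, Q l = 0) (hmax : ∀ w, (∀ l ∈ L, B l w = 0) → Q w = 0 → w ∈ L) : False := by
  let φ := DistribMulAction.toModuleAut (S := H) ℤ W
  haveI : Finite φ.range := Finite.of_surjective _ φ.rangeRestrict_surjective
  haveI : Group.IsSolvable φ.range := Group.isSolvable_of_surjective φ.rangeRestrict_surjective
  refine not_rank_two_faithful (H := φ.range) hB halt ?_ (fun U hU => hiso U fun g =>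
    hU ⟨φ g, g, rfl⟩) hQ (fun h => h3 (h.trans (Subgroup.card_range_dvd φ))) ?_ L hL hLQ hmax
  · rintro ⟨_, g, rfl⟩; exact hinv g
  · rintro ⟨_, g, rfl⟩; exact hQH g

end Cfsg.Lib.Base
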