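import Cfsg.Agent.Base.Aniso
import Cfsg.Agent.Base.Quad2
import Cfsg.Agent.Base.Iface

/-!
# Bases of size two over the field with three elements
-/

set_option autoImplicit false
set_option linter.unusedSectionVars false

namespace Cfsg.Lib.Base

open Subgroup Setup

universe u

theorem Sec.card_mul {Γ : Type*} [Group Γ] {M C H N : Subgroup Γ} {Ω : Type*} [AddCommGroup Ω]
    [DistribMulAction H Ω] {pr : Γ → Ω} (s : Sec M C H pr) (hC : C ≤ N) (hN : N ≤ M)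
    (X : AddSubgroup Ω) (hX : ∀ ω, ω ∈ X ↔ ∃ a ∈ N, pr a = ω) :
    Nat.card X * Nat.card C = Nat.card N := by
  let f : N →* Multiplicative Ω := MonoidHom.mk' (fun a => Multiplicative.ofAdd (pr a))
    fun a b => congrArg Multiplicative.ofAdd (s.mul _ (hN a.2) _ (hN b.2))
  have h1 : f.ker = C.subgroupOf N := by
    ext a
    exact s.eq_zero _ (hN a.2)
  have h2 : Nat.card f.range = Nat.card X := Nat.card_congr (Equiv.subtypeEquiv Multiplicative.toAdd
    fun ω => by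
      rw [hX]
      exact ⟨fun ⟨a, ha⟩ => ⟨a, a.2, congrArg Multiplicative.toAdd ha⟩,
        fun ⟨a, ha, e⟩ => ⟨⟨a, ha⟩, congrArg Multiplicative.ofAdd e⟩⟩)
  rw [← f.ker.card_mul_index, index_ker, h2, h1, Nat.card_congr (subgroupOfEquivOfLe hC).toEquiv,
    mul_comm]

theorem sq_lt_three_pow (n : ℕ) : n * n < 3 ^ n := by
  induction n with
  | zero => simp
  | succ n ih =>
    have : n < 3 ^ n := Nat.lt_pow_self (by norm_num)
    rw [pow_succ]
    nlinarith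

variable {K : Type*} {V Γ : Type u} [Field K] [AddCommGroup V] [Module K V] [Group Γ]
  [DistribMulAction Γ V] [Nontrivial V] {S : Setup K V Γ} {r : ℕ} {M D : Subgroup Γ} {v : V}

theorem Heis.card_le_sq [Finite V] (h : Heis S r M) {H : Subgroup Γ} {W : Type*} [AddCommGroup W]
    [Finite W] [DistribMulAction H W] {pr : Γ → W} (s : Sec M S.U H pr) :
    Nat.card W ≤ Module.finrank K V * Module.finrank K V := by
  classical
  have := Fintype.ofFinite W
  choose n hn hn' using s.surj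
  let f : M → Module.End K V := fun a => lin (S := S) ⟨a, h.le_A a.2⟩
  have key : LinearIndependent K fun ω => f ⟨n ω, hn ω⟩ := by
    refine Fintype.linearIndependent_iff.2 fun c hc ω => ?_
    have h1 := eq_zero_of_weights (K := K)
      (fun t : M => LinearMap.mulLeft K (f t) ∘ₗ LinearMap.mulRight K (f t⁻¹))
      (fun ω t => (S.cm t (n ω) : K)) (fun ω ω' h1 => by
        rw [← hn' ω, ← hn' ω', s.eq_iff (hn _) (hn _)]
        refine h.mem_U (mul_mem (inv_mem (hn _)) (hn _)) fun b hb => ?_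
        rw [h.cm_swap hb (mul_mem (inv_mem (hn _)) (hn _)), h.cm_mul_right hb (inv_mem (hn _)) (hn _),
          h.cm_inv_right hb (hn _), Units.ext (congrFun h1 ⟨b, hb⟩), inv_mul_cancel, inv_one])
      (Finset.univ.erase ω) (Finset.notMem_erase _ _) (fun ω => c ω • f ⟨n ω, hn ω⟩)
      (fun ω t => LinearMap.ext fun w => by
        change (t : Γ) • c ω • n ω • (t : Γ)⁻¹ • w = (S.cm t (n ω) : K) • c ω • n ω • w
        rw [smul_smul (h.le_A t.2), h.smul_smul_eq t.2 (hn ω), smul_inv_smul, smul_comm])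
      ((Finset.add_sum_erase _ (fun ω => c ω • f ⟨n ω, hn ω⟩) (Finset.mem_univ ω)).trans hc)
    obtain ⟨w, hw⟩ := exists_ne (0 : V)
    have h2 : c ω • n ω • w = 0 := LinearMap.congr_fun h1 w
    exact (smul_eq_zero.1 h2).resolve_right (by rwa [smul_eq_zero_iff_eq])
  simpa [Module.finrank_linearMap] using key.fintype_card_le_finrank

theorem units_three [Finite K] (hK : Nat.card K = 3) (u : Kˣ) : u = 1 ∨ u = -1 :=
  units_sq_eq_one (by
    have := pow_card_eq_one' (x := u)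
    rwa [Nat.card_units, hK] at this)

theorem one_ne_neg_one_three [Finite K] (hK : Nat.card K = 3) : (1 : Kˣ) ≠ -1 := fun e => by
  have : Subsingleton Kˣ := ⟨fun a b => by
    rcases units_three hK a with rfl | rfl <;> rcases units_three hK b with rfl | rfl <;> simp [← e]⟩
  have h1 := Nat.card_of_subsingleton (1 : Kˣ)
  rw [Nat.card_units, hK] at h1
  omega

theorem mem_A_three [Finite K] [FaithfulSMul Γ V] (hK : Nat.card K = 3) (g : Γ) : g ∈ S.A := by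
  rintro _ ⟨u, rfl⟩
  rcases units_three hK u with rfl | rfl
  · simp
  · exact (mul_inv_eq_iff_eq_mul.1 (S.conj_neg_one g)).symm

/-- The vector whose only eigen-elements are the scalars times `1` and `s`. -/
theorem exists_vec [Finite Γ] (h : Heis S 2 M) (e : Eig S M D v) {s e₁ : Γ} (hs : s ∈ D)
    (sv : s • v = v) (he : e₁ ∈ M) (se : S.cm s e₁ = -1) {H : Subgroup Γ} {Ω : Type*}
    [AddCommGroup Ω] [Finite Ω] [DistribMulAction H Ω] {pr : Γ → Ω} (sc : Sec M (Cz M D) H pr)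
    (h8 : 4 < Nat.card Ω) : ∃ x : V, x ≠ 0 ∧ s • x = x ∧
      ∀ m ∈ M, m • x = x → m = 1 ∨ m = s := by
  classical
  have := Fintype.ofFinite Ω
  have hsec : ∀ ω, ∃ m ∈ M, pr m = ω ∧ (ω = 0 → m = 1) := fun ω => by
    by_cases h0 : ω = 0
    · exact ⟨1, one_mem _, h0 ▸ sc.one, fun _ => rfl⟩
    obtain ⟨a, ha, rfl⟩ := sc.surj ω
    exact ⟨a, ha, rfl, fun h1 => absurd h1 h0⟩
  choose n hn hn' hn0 using hsec
  have hsM := e.le hs
  have two : ∀ ω : Ω, ω + ω = 0 := fun ω => by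
    rw [← two_nsmul]
    exact sc.nsmul_eq_zero (fun a ha => e.le_Cz h (e.U_le h (h.pow a ha))) ω
  have wd : ∀ d ∈ D, ∀ a ∈ M, S.cm d (n (pr a)) = S.cm d a := fun d hd a ha => by
    have h1 := (sc.eq_iff (hn _) ha).1 (hn' _)
    conv_rhs => rw [← mul_inv_cancel_left (n (pr a)) a, h.cm_mul_right (e.le hd) (hn _) h1.1,
      (h.cm_eq_one (e.le hd) h1.1).2 (h1.2 d hd), mul_one]
  have add : ∀ d ∈ D, ∀ ω ω', S.cm d (n (ω + ω')) = S.cm d (n ω) * S.cm d (n ω') :=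
    fun d hd ω ω' => by
      rw [← h.cm_mul_right (e.le hd) (hn _) (hn _), ← wd d hd _ (mul_mem (hn ω) (hn ω')),
        sc.mul _ (hn _) _ (hn _), hn', hn']
  have cases : ∀ a ∈ M, ∀ b ∈ M, S.cm a b = 1 ∨ S.cm a b = -1 := fun a ha b hb =>
    units_sq_eq_one (h.cm_pow ha hb)
  have z0 : ∀ d ∈ D, S.cm d (n 0) = 1 := fun d hd => by
    rw [hn0 0 rfl, h.cm_U_right (e.le hd) (one_mem _)]
  obtain ⟨ω₀, ω₁, a0, a1, b0, b1, b2⟩ : ∃ ω₀ ω₁, S.cm s (n ω₀) = 1 ∧ S.cm s (n ω₁) = 1 ∧ ω₀ ≠ 0 ∧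
      ω₁ ≠ 0 ∧ ω₁ ≠ ω₀ := by
    have key : ∀ a b : Ω, ∃ ω, S.cm s (n ω) = 1 ∧ ω ≠ a ∧ ω ≠ b := fun a b => by
      by_contra hc
      push Not at hc
      have h1 : (Finset.univ : Finset Ω) ⊆ {a, b, a + pr e₁, b + pr e₁} := fun ω _ => by
        rcases cases s hsM _ (hn ω) with h2 | h2
        · have := hc ω h2
          simp only [Finset.mem_insert, Finset.mem_singleton]
          tauto
        · have := hc (ω + pr e₁) (by rw [add s hs, h2, wd s hs _ he, se]; simp)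
          have h3 : ∀ c, ω + pr e₁ = c → ω = c + pr e₁ := fun c hc => by
            rw [← hc, add_assoc, two, add_zero]
          simp only [Finset.mem_insert, Finset.mem_singleton]
          by_cases h4 : ω + pr e₁ = a
          exacts [Or.inr (Or.inr (Or.inl (h3 _ h4))), Or.inr (Or.inr (Or.inr (h3 _ (this h4))))]
      have h2 := (Finset.card_le_card h1).trans Finset.card_le_four
      rw [Finset.card_univ, ← Nat.card_eq_fintype_card] at h2
      omega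
    obtain ⟨ω₀, a0, b0, -⟩ := key 0 0
    obtain ⟨ω₁, a1, b1, b2⟩ := key 0 ω₀
    exact ⟨ω₀, ω₁, a0, a1, b0, b1, b2⟩
  let T : Ω → Prop := fun ω => S.cm s (n ω) = 1 ∧ ω ≠ ω₀
  let X : Ω → V := fun ω => if T ω then v else 0
  have hX : ∀ ω, X ω ∈ V0 D v := fun ω => by
    simp only [X]
    split_ifs
    exacts [self_mem_V0, zero_mem _]
  have T0 : T 0 := ⟨z0 s hs, b0.symm⟩
  have hx0 : ∑ ω, n ω • X ω ≠ 0 := fun h0 => e.ne (by
    have := e.indep h sc (fun ω => n ω • X ω) (fun ω => ⟨_, hn ω, hn' ω, _, hX ω, rfl⟩)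
      (fun _ => 0) (fun ω => ⟨_, hn ω, hn' ω, 0, zero_mem _, (smul_zero _).symm⟩) (by simpa using h0) 0
    simpa [X, T0, hn0 0 rfl] using this)
  have hsx : s • ∑ ω, n ω • X ω = ∑ ω, n ω • X ω := by
    rw [Finset.smul_sum]
    refine Finset.sum_congr rfl fun ω _ => ?_
    simp only [X]
    split_ifs with h1
    · rw [h.smul_smul_eq hsM (hn ω), h1.1, sv, Units.val_one, one_smul]
    · simp
  refine ⟨_, hx0, hsx, fun m hm h1 => ?_⟩
  have key : ∀ ω, m • n ω • X ω = n (pr m + ω) • X (pr m + ω) := fun ω => by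
    have := e.indep h sc (fun ω => m • n (pr m + ω) • X (pr m + ω)) (fun ω =>
      ⟨_, mul_mem hm (hn (pr m + ω)), by rw [sc.mul _ hm _ (hn _), hn', ← add_assoc, two, zero_add],
        _, hX _, (mul_smul _ _ _).symm⟩) (fun ω => n ω • X ω)
      (fun ω => ⟨_, hn ω, hn' ω, _, hX ω, rfl⟩) (by
        rw [← Finset.smul_sum, ← h1]
        exact congrArg _ (Equiv.sum_comp (Equiv.addLeft (pr m)) fun ω => n ω • X ω)) (pr m + ω)
    rwa [← add_assoc, two, zero_add] at this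
  have hT : ∀ ω, T ω → T (pr m + ω) := fun ω h2 => by_contra fun h3 => e.ne (by
    simpa [X, h2, h3, smul_eq_zero_iff_eq] using key ω)
  have hm0 : pr m = 0 := by_contra fun h2 => (hT (pr m + ω₀) ⟨by
    rw [add s hs, a0, mul_one, ← add_zero (pr m), (hT 0 T0).1], by simpa using h2⟩).2
      (by rw [← add_assoc, two, zero_add])
  simp only [hm0, zero_add] at key
  have mv : m • v = v := by simpa [X, T0, hn0 0 rfl] using key 0
  have mD : m ∈ D := (e.mem m).2 ⟨hm, 1, by rw [mv, one_smul]⟩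
  have c1 : ∀ ω, T ω → S.cm m (n ω) = 1 := fun ω h2 => by
    have h3 := key ω
    simp only [X, if_pos h2] at h3
    rw [h.smul_smul_eq hm (hn ω), mv] at h3
    exact Units.ext (eq_of_smul_eq (v := n ω • v) (by simpa [smul_eq_zero_iff_eq] using e.ne)
      (by simpa using h3))
  have c2 : ∀ a ∈ M, S.cm s a = 1 → S.cm m a = 1 := fun a ha h2 => by
    rw [← wd m mD a ha]
    by_cases h3 : pr a = ω₀
    · rw [h3, show ω₀ = ω₁ + (ω₁ + ω₀) by rw [← add_assoc, two, zero_add], add m mD, c1 _ ⟨a1, b2⟩,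
        c1 _ ⟨by rw [add s hs, a0, a1, one_mul], by simpa using b1⟩, one_mul]
    · exact c1 _ ⟨by rw [wd s hs a ha, h2], h3⟩
  have c3 : ∀ b ∈ M, (∀ a ∈ M, S.cm s a = 1 → S.cm b a = 1) → S.cm b e₁ = 1 → b ∈ S.U :=
    fun b hb h2 h3 => h.mem_U hb fun a ha => (cases s hsM a ha).elim (h2 a ha) fun h4 => by
      have := h2 _ (mul_mem ha he) (by rw [h.cm_mul_right hsM ha he, h4, se]; simp)
      rwa [h.cm_mul_right hb ha he, h3, mul_one] at this
  rcases cases m hm _ he with h2 | h2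
  · exact Or.inl (eq_one_of_smul (c3 m hm c2 h2) hx0 h1)
  · refine Or.inr (inv_mul_eq_one.1 (eq_one_of_smul (c3 _ (mul_mem (inv_mem hsM) hm)
      (fun a ha h3 => ?_) ?_) hx0 (by rw [mul_smul, h1, inv_smul_eq_iff, hsx]))).symm
    · rw [h.cm_mul_left (inv_mem hsM) hm ha, h.cm_inv_left hsM ha, h3, c2 a ha h3]; simp
    · rw [h.cm_mul_left (inv_mem hsM) hm he, h.cm_inv_left hsM he, h2, se]; simp

/-- The sign of a unit. -/
noncomputable def sgU (u : Kˣ) : ZMod 2 := open Classical in if u = 1 then 0 else 1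

theorem sgU_eq_zero {u : Kˣ} : sgU u = 0 ↔ u = 1 := by simp [sgU]

theorem sgU_mul [Finite K] (hK : Nat.card K = 3) (u w : Kˣ) : sgU (u * w) = sgU u + sgU w := by
  have := (one_ne_neg_one_three hK).symm
  rcases units_three hK u with rfl | rfl <;> rcases units_three hK w with rfl | rfl <;>
    simp [sgU, this]
  rfl

theorem base_three_aux [Finite Γ] [Finite K] [Finite V] [FaithfulSMul Γ V] [Group.IsSolvable Γ]
    (hK : Nat.card K = 3) (h : Heis S 2 M)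
    (hM : ∀ g ∈ S.A, g ∈ centralizer (M : Set Γ) → g ∈ S.U) (h3 : ¬ 3 ∣ Nat.card Γ) (ih : IH V)
    {W : Type u} [AddCommGroup W] [Finite W] [Module (ZMod 2) W]
    [DistribMulAction (⊤ : Subgroup Γ) W] {pr : Γ → W} (sw : Sec M S.U ⊤ pr) : HasBase Γ V 2 := by
  classical
  have hA : ∀ g : Γ, g ∈ S.A := mem_A_three hK
  have h3' : ¬ 3 ∣ Nat.card (⊤ : Subgroup Γ) := by rwa [card_top]
  choose n hn hn' using sw.surj
  have rep : ∀ a ∈ M, (n (pr a))⁻¹ * a ∈ S.U := fun a ha => (sw.eq_iff (hn _) ha).1 (hn' _)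
  have wd : ∀ a ∈ M, ∀ b ∈ M, S.cm a (n (pr b)) = S.cm a b := fun a ha b hb => by
    conv_rhs => rw [← mul_inv_cancel_left (n (pr b)) b, h.cm_mul_right ha (hn _) (h.U_le (rep b hb)),
      h.cm_U_right ha (rep b hb), mul_one]
  have wd' : ∀ a ∈ M, ∀ b ∈ M, S.cm (n (pr a)) b = S.cm a b := fun a ha b hb => by
    rw [h.cm_swap hb (hn _), wd b hb a ha, h.cm_swap hb ha]
  have sum : ∀ a b, a + b = pr (n a * n b) := fun a b => by
    rw [sw.mul _ (hn _) _ (hn _), hn', hn']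
  have z0 : n 0 ∈ S.U := (sw.eq_zero _ (hn 0)).1 (hn' 0)
  let B : LinearMap.BilinForm (ZMod 2) W := LinearMap.mk₂ (ZMod 2)
    (fun a b => sgU (S.cm (n a) (n b)))
    (fun a a' b => by
      rw [sum, wd' _ (mul_mem (hn _) (hn _)) _ (hn _), h.cm_mul_left (hn _) (hn _) (hn _), sgU_mul hK])
    (fun c a b => by
      rcases zmod2_cases c with rfl | rfl
      · rw [zero_smul, zero_smul, h.cm_U_left z0 (hn _), sgU_eq_zero]
      · rw [one_smul, one_smul])
    (fun a b b' => by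
      rw [sum, wd _ (hn _) _ (mul_mem (hn _) (hn _)), h.cm_mul_right (hn _) (hn _) (hn _), sgU_mul hK])
    (fun c a b => by
      rcases zmod2_cases c with rfl | rfl
      · rw [zero_smul, zero_smul, h.cm_U_right (hn _) z0, sgU_eq_zero]
      · rw [one_smul, one_smul])
  have hB : ∀ a ∈ M, ∀ b ∈ M, B (pr a) (pr b) = sgU (S.cm a b) := fun a ha b hb => by
    change sgU (S.cm (n (pr a)) (n (pr b))) = _
    rw [wd _ (hn _) b hb, wd' a ha b hb]
  have hB0 : ∀ a ∈ M, ∀ b ∈ M, B (pr a) (pr b) = 0 ↔ a * b = b * a := fun a ha b hb => by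
    rw [hB a ha b hb, sgU_eq_zero, h.cm_eq_one ha hb]
  have all : ∀ {P : W → Prop}, (∀ a ∈ M, P (pr a)) → ∀ w, P w := fun hP w => hn' w ▸ hP _ (hn w)
  have sq : ∀ a ∈ M, ∀ b ∈ M, S.sc ((a * b) ^ 2) = S.sc (a ^ 2) * S.sc (b ^ 2) * S.cm b a :=
    fun a ha b hb => ι_injective (S := S) (by
      rw [mul_comm _ (S.cm b a), map_mul, map_mul, ι_sc (h.pow _ (mul_mem ha hb)), ι_sc (h.pow a ha),
        ι_sc (h.pow b hb), h.mul_pow_eq ha hb]
      simp)
  have spl : ∀ a ∈ M, Spl S 2 a ↔ S.sc (a ^ 2) = 1 := fun a ha => by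
    refine ⟨fun ⟨u, hu⟩ => ?_, fun h1 => ⟨1, by rw [← ι_sc (h.pow a ha), h1, one_pow]⟩⟩
    rw [hu, sc_ι]
    rcases units_three hK u with rfl | rfl <;> simp
  let Q : W → ZMod 2 := fun w => sgU (S.sc (n w ^ 2))
  have hQ : ∀ a ∈ M, Q (pr a) = sgU (S.sc (a ^ 2)) := fun a ha => by
    conv_rhs => rw [← mul_inv_cancel_left (n (pr a)) a, sq _ (hn _) _ (h.U_le (rep a ha)),
      h.cm_U_left (rep a ha) (hn _), (spl _ (h.U_le (rep a ha))).1 (spl_of_mem_U (rep a ha)),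
      mul_one, mul_one]
  have hQ0 : ∀ a ∈ M, Q (pr a) = 0 ↔ Spl S 2 a := fun a ha => by
    rw [hQ a ha, sgU_eq_zero, spl a ha]
  have nd : ∀ w, (∀ w', B w w' = 0) → w = 0 := all fun a ha h1 => (sw.eq_zero a ha).2
    (h.mem_U ha fun b hb => sgU_eq_zero.1 ((hB a ha b hb).symm.trans (h1 _)))
  have alt : ∀ w, B w w = 0 := all fun a ha => (hB0 a ha a ha).2 rfl
  have inv : ∀ (g : (⊤ : Subgroup Γ)) w w', B (g • w) (g • w') = B w w' := fun g => all fun a ha =>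
    all fun b hb => by
      rw [← sw.conj g a ha, ← sw.conj g b hb, hB _ (h.conj_mem ha _) _ (h.conj_mem hb _),
        hB a ha b hb, cm_conj (hA _) (h.comm a ha b hb)]
  have qadd : ∀ w w', Q (w + w') = Q w + Q w' + B w w' := all fun a ha => all fun b hb => by
    rw [← sw.mul a ha b hb, hQ _ (mul_mem ha hb), sq a ha b hb, sgU_mul hK, sgU_mul hK, hQ a ha,
      hQ b hb, alt_symm alt, hB b hb a ha]
  have qinv : ∀ (g : (⊤ : Subgroup Γ)) w, Q (g • w) = Q w := fun g => all fun a ha => by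
    rw [← sw.conj g a ha, hQ _ (h.conj_mem ha _), hQ a ha, conj_pow, ← hA g _ (h.pow a ha),
      mul_inv_cancel_right]
  have iso : ∀ X : AddSubgroup W, Inv (⊤ : Subgroup Γ) X → (∀ u ∈ X, ∀ w ∈ X, B u w = 0) → X = ⊥ :=
    fun X hX h1 => by
      let N : Subgroup Γ :=
        { carrier := {a | a ∈ M ∧ pr a ∈ X}
          one_mem' := ⟨one_mem _, sw.one ▸ zero_mem _⟩
          mul_mem' := fun ha hb => ⟨mul_mem ha.1 hb.1, sw.mul _ ha.1 _ hb.1 ▸ add_mem ha.2 hb.2⟩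
          inv_mem' := fun ha => ⟨inv_mem ha.1, sw.inv ha.1 ▸ neg_mem ha.2⟩ }
      have h2 := S.max N ⟨fun a ha g => ⟨h.conj_mem ha.1 g, sw.conj ⟨g, trivial⟩ a ha.1 ▸
        hX _ _ ha.2⟩⟩ (fun a ha b hb => (hB0 a ha.1 b hb.1).1 (h1 _ ha.2 _ hb.2))
        fun u hu => ⟨h.U_le hu, (sw.eq_zero u (h.U_le hu)).2 hu ▸ zero_mem _⟩
      exact eq_bot_iff.2 (all fun a ha h4 => (sw.eq_zero a ha).2 (h2 ⟨ha, h4⟩))
  have lag : ∀ {D : Subgroup Γ}, Lag S 2 M D → ∃ k : ℕ, k ≠ 2 ∧ 2 ^ k * 2 ^ k ≤ Nat.card W ∧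
      ∀ {H : Subgroup Γ} {Ω : Type u} [AddCommGroup Ω] [DistribMulAction H Ω] {p : Γ → Ω},
        Sec M (Cz M D) H p → Nat.card Ω = 2 ^ k := fun {D} hD => by
    let X : AddSubgroup W :=
      { carrier := {w | ∃ a ∈ D, pr a = w}
        zero_mem' := ⟨1, one_mem _, sw.one⟩
        add_mem' := by
          rintro _ _ ⟨a, ha, rfl⟩ ⟨b, hb, rfl⟩
          exact ⟨_, mul_mem ha hb, sw.mul _ (hD.le ha) _ (hD.le hb)⟩
        neg_mem' := by
          rintro _ ⟨a, ha, rfl⟩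
          exact ⟨_, inv_mem ha, sw.inv (hD.le ha)⟩ }
    have hp : ∀ a ∈ M, pr a ∈ perp B X ↔ a ∈ Cz M D := fun a ha =>
      ⟨fun h1 => ⟨ha, fun d hd => (hB0 d (hD.le hd) a ha).1 (h1 _ ⟨d, hd, rfl⟩)⟩, by
        rintro h1 _ ⟨d, hd, rfl⟩
        exact (hB0 d (hD.le hd) a ha).2 (h1.2 d hd)⟩
    obtain ⟨k, hk⟩ : ∃ k, Nat.card X = 2 ^ k := ⟨_,
      (Module.natCard_eq_pow_finrank (K := ZMod 2) (V := AddSubgroup.toZModSubmodule 2 X)).trans
        (by rw [Nat.card_zmod])⟩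
    have c1 := card_mul_card_perp nd X
    refine ⟨k, fun h1 => ?_, ?_, fun {H Ω} _ _ p sc => ?_⟩
    · refine not_rank_two nd alt inv iso qadd h3' qinv X (by rw [hk, h1]; rfl) ?_
        (all fun a ha h2 h4 => ⟨a, hD.max a ((hp a ha).1 h2) ((hQ0 a ha).1 h4), rfl⟩)
      rintro _ ⟨d, hd, rfl⟩
      exact (hQ0 d (hD.le hd)).2 (hD.spl d hd)
    · rw [← hk, ← c1]
      refine Nat.mul_le_mul_left _ (card_le_card_perp ?_)
      rintro _ ⟨a, ha, rfl⟩ _ ⟨b, hb, rfl⟩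
      exact (hB0 a (hD.le ha) b (hD.le hb)).2 (hD.comm hb a ha)
    have c2 := sw.card_mul h.U_le le_rfl ⊤ fun ω => ⟨fun _ => sw.surj ω, fun _ => trivial⟩
    have c3 := sc.card_mul inf_le_left le_rfl ⊤ fun ω => ⟨fun _ => sc.surj ω, fun _ => trivial⟩
    have c4 := sw.card_mul (N := Cz M D) (le_inf h.U_le (hD.U_le.trans hD.comm)) inf_le_left
      (perp B X) (all fun a ha => ⟨fun h1 => ⟨a, (hp a ha).1 h1, rfl⟩,
        fun ⟨b, hb, h1⟩ => h1 ▸ (hp b hb.1).2 hb⟩)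
    rw [AddSubgroup.card_top] at c2 c3
    rw [← c4, ← c2, ← c1, mul_assoc] at c3
    exact (Nat.eq_of_mul_eq_mul_right (Nat.mul_pos Nat.card_pos Nat.card_pos) c3).trans hk
  have big : (∀ {D : Subgroup Γ}, Lag S 2 M D → ∀ k : ℕ, (∀ {H : Subgroup Γ} {Ω : Type u}
      [AddCommGroup Ω] [DistribMulAction H Ω] {p : Γ → Ω}, Sec M (Cz M D) H p →
        Nat.card Ω = 2 ^ k) → 2 ≤ k) ∨ HasBase Γ V 2 := by
    refine or_iff_not_imp_left.2 fun hc => ?_
    push Not at hc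
    obtain ⟨D, hD, k, h1, h2⟩ := hc
    have F : Fam S {2} fun _ => M := ⟨by simpa using h, by simp, fun g hg h4 => hM g hg (h4 2 (by simp))⟩
    obtain ⟨x, y, hx, e, hy, core⟩ := F.exists_core (L := fun _ => D) (by simpa using hD)
    refine F.hasBase hx e (fun _ : Fin 1 => y) (fun r hr _ => hy r hr)
      (fun g h4 h5 => core g h4 (h5 0)) fun r hr => ?_
    obtain ⟨Ω, _, _, _, p, sc⟩ := (e r hr).exists_sec h
    refine (e r hr).locGood h sc (fun _ => some ()) (fun g _ ω => ?_) (by simp [holes])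
      (fun _ _ => x) (fun _ _ => Submodule.subset_span ⟨1, one_mem _, one_smul _ _⟩)
      (fun _ h0 => hx (congrFun h0 0)) fun _ _ c _ _ h1 => ⟨rfl, h1 0⟩
    by_cases h0 : ω = 0
    · rw [h0, smul_zero]
    have h4 := h1 sc
    interval_cases k
    · exact (Nat.card_eq_one_iff_unique.1 h4).1.elim _ _
    · obtain ⟨z, -, hz⟩ := (Nat.card_eq_two_iff' (0 : Ω)).1 h4
      exact (hz _ (mt (smul_eq_zero_iff_eq g).1 h0)).trans (hz _ h0).symm
  refine big.elim (fun big => ?_) id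
  have h16 : 16 < Nat.card W := by
    obtain ⟨D, hD, -⟩ := h.exists_lag (one_mem M) (spl_of_mem_U (one_mem _))
    obtain ⟨k, h1, h2, h4⟩ := lag hD
    have h5 := Nat.pow_le_pow_right two_pos (show 3 ≤ k by have := big hD k h4; omega)
    nlinarith
  obtain ⟨z, hz⟩ := (ih (⊤ : Subgroup Γ) W ((h.card_le_sq sw).trans_lt (by
      rw [Module.natCard_eq_pow_finrank (K := K) (V := V), hK]; exact sq_lt_three_pow _))
    inferInstance (cr_of_iso nd inv iso)).2 (Or.inr (Or.inl ⟨h3', add_self_two⟩))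
  obtain ⟨w₁, w₂, h0, h12, hw⟩ : ∃ w₁ w₂ : W, w₁ ≠ 0 ∧ w₁ ≠ w₂ ∧ ∀ g : (⊤ : Subgroup Γ),
      g • w₁ = w₁ → g • w₂ = w₂ → ∀ w : W, g • w = w := by
    have k : ∀ g : (⊤ : Subgroup Γ), g • z 0 = z 0 → g • z 1 = z 1 → ∀ w : W, g • w = w :=
      fun g a b => hz g (Fin.forall_fin_two.2 ⟨a, b⟩)
    by_cases a : z 0 = 0 <;> by_cases b : z 0 = z 1
    · have := Finite.one_lt_card_iff_nontrivial.1 (show 1 < Nat.card W by omega)
      obtain ⟨w, hw⟩ := exists_ne (0 : W)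
      exact ⟨w, 0, hw, hw, fun g _ _ => k g (by rw [a, smul_zero]) (by rw [← b, a, smul_zero])⟩
    · exact ⟨z 1, z 0, fun c => b (a.trans c.symm), Ne.symm b, fun g c d => k g d c⟩
    · exact ⟨z 0, 0, a, a, fun g c _ => k g c (b ▸ c)⟩
    · exact ⟨z 0, z 1, a, b, k⟩
  obtain ⟨w, q0, q1, q2⟩ := exists_sing nd alt qadd h16 h0 h12
  obtain ⟨s₀, hs₀, rfl⟩ := sw.surj w
  obtain ⟨e₁, he₁, rfl⟩ := sw.surj w₁
  obtain ⟨e₂, he₂, rfl⟩ := sw.surj w₂
  obtain ⟨D, hD, hsD⟩ := h.exists_lag hs₀ ((hQ0 _ hs₀).1 q0)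
  obtain ⟨v, e⟩ := hD.exists_eig h
  obtain ⟨s, hs, sv, hps⟩ : ∃ s ∈ D, s • v = v ∧ pr s = pr s₀ := by
    obtain ⟨u, hu⟩ := e.exists_unit hsD
    exact ⟨_, mul_mem (hD.U_le (ι_mem u⁻¹)) hsD, by rw [mul_smul, hu, S.ι_smul]; simp,
      by rw [sw.mul _ (h.ι_mem _) _ hs₀, (sw.eq_zero _ (h.ι_mem _)).2 (ι_mem _), zero_add]⟩
  rw [← hps] at q0 q1 q2
  have hsM := hD.le hs
  have se₁ : S.cm s e₁ = -1 := (units_three hK _).resolve_left fun h1 => by
    rw [hB s hsM _ he₁, sgU_eq_zero.2 h1] at q1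
    exact zero_ne_one q1
  have se₂ : S.cm s e₂ = 1 := sgU_eq_zero.1 ((hB s hsM _ he₂).symm.trans q2)
  obtain ⟨Ω, _, _, _, p, sc⟩ := e.exists_sec h
  obtain ⟨x, hx, sx, hst⟩ := exists_vec h e hs sv he₁ se₁ sc (by
    obtain ⟨k, h1, -, h4⟩ := lag hD
    rw [h4 sc]
    exact lt_of_lt_of_le (by norm_num)
      (Nat.pow_le_pow_right two_pos (show 3 ≤ k by have := big hD k h4; omega)))
  have two : ∀ a : V, a + a = 0 → a = 0 := fun a ha => by_contra fun h1 =>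
    one_ne_neg_one_three hK (ι_eq_of_smul (S := S) h1 (by
      simpa [S.ι_smul, eq_neg_iff_add_eq_zero] using ha))
  have s1 : s • e₁ • x = -(e₁ • x) := by rw [h.smul_smul_eq hsM he₁, se₁, sx]; simp
  have s2 : s • e₂ • x = e₂ • x := by rw [h.smul_smul_eq hsM he₂, se₂, sx]; simp
  refine ⟨![x, e₁ • x + e₂ • x], fun g hg => ?_⟩
  have g0 : g • x = x := hg 0
  have g1 : g • (e₁ • x + e₂ • x) = e₁ • x + e₂ • x := hg 1
  have g0' : g⁻¹ • x = x := inv_smul_eq_iff.2 g0.symm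
  have gs : g * s = s * g := by
    rcases hst _ (h.conj_mem hsM g) (by rw [mul_smul, mul_smul, g0', sx, g0]) with h1 | h1
    · rw [conj_eq_one_iff.1 h1, h.cm_U_left (one_mem _) he₁] at se₁
      exact (one_ne_neg_one_three hK se₁).elim
    · exact mul_inv_eq_iff_eq_mul.1 h1
  have g2 : g • (-(e₁ • x) + e₂ • x) = -(e₁ • x) + e₂ • x := by
    rw [← s1, ← s2, ← smul_add, ← mul_smul, gs, mul_smul, g1]
  rw [smul_add] at g1
  rw [smul_add, smul_neg] at g2
  have ge₁ : g • e₁ • x = e₁ • x := sub_eq_zero.1 (two _ (by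
    linear_combination (norm := abel) g1 - g2))
  have ge₂ : g • e₂ • x = e₂ • x := by rwa [ge₁, add_right_inj] at g1
  let g' : (⊤ : Subgroup Γ) := ⟨g, trivial⟩
  have alt2 : ∀ a ∈ M, g • a • x = a • x → g' • pr a = pr a ∨ g' • pr a = pr a + pr s :=
    fun a ha h1 => by
      rw [← sw.conj g' a ha, ← sw.mul a ha s hsM]
      exact (hst _ (mul_mem (inv_mem ha) (h.conj_mem ha g)) (by
        rw [mul_smul, mul_smul, mul_smul, g0', h1, inv_smul_smul])).imp
        (fun h2 => congrArg pr (inv_mul_eq_one.1 h2).symm)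
        fun h2 => congrArg pr (inv_mul_eq_iff_eq_mul.1 h2)
  have f1 : g' • pr e₁ = pr e₁ := (alt2 _ he₁ ge₁).resolve_right fun h1 => by
    have := qinv g' (pr e₁)
    rw [h1, qadd, q0, alt_symm alt, q1, add_zero, add_eq_left] at this
    exact one_ne_zero this
  have f2 : g' • pr e₂ = pr e₂ := (alt2 _ he₂ ge₂).resolve_right fun h1 => by
    have := inv g' (pr e₁) (pr e₂)
    rw [h1, f1, map_add, alt_symm alt _ (pr s), q1, add_eq_left] at this
    exact one_ne_zero this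
  have hU : ∀ a ∈ M, a⁻¹ * (g * a * g⁻¹) ∈ S.U := fun a ha =>
    (sw.eq_iff ha (h.conj_mem ha g)).1 ((sw.conj g' a ha).trans (hw g' f1 f2 _)).symm
  obtain ⟨b, hb, h1⟩ := h.exists_cm (fun a => S.sc (a⁻¹ * (g * a * g⁻¹))) (fun a ha b hb =>
    ι_injective (S := S) (by
      rw [map_mul, ι_sc (hU _ (mul_mem ha hb)), ι_sc (hU a ha), ι_sc (hU b hb)]
      calc _ = b⁻¹ * (a⁻¹ * (g * a * g⁻¹)) * (g * b * g⁻¹) := by group
        _ = _ := by rw [← hA b⁻¹ _ (hU a ha), mul_assoc])) fun u hu => by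
      rw [← hA g u hu, mul_inv_cancel_right, inv_mul_cancel, ← map_one S.ι, sc_ι]
  have h2 : b⁻¹ * g ∈ S.U := hM _ (hA _) fun a ha => by
    have h2 := ι_sc (hU a ha)
    rw [h1 a ha, eq_inv_mul_iff_mul_eq, ← ι_comm (hA a)] at h2
    have h4 := h.mul_eq hb ha
    rw [← mul_assoc, h2] at h4
    calc a * (b⁻¹ * g) = b⁻¹ * (b * a) * (b⁻¹ * g) := by group
      _ = _ := by rw [h4]; group
  rcases hst g (by simpa using mul_mem hb (h.U_le h2)) g0 with rfl | rfl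
  · exact one_smul Γ
  · exact absurd ((smul_eq_zero_iff_eq e₁).1 (two _ (by
      rw [← eq_neg_iff_add_eq_zero, ← s1, ge₁]))) hx

theorem base_three [Finite Γ] [Finite K] [Finite V] [FaithfulSMul Γ V] [Group.IsSolvable Γ]
    (hK : Nat.card K = 3) (h : Heis S 2 M)
    (hM : ∀ g ∈ S.A, g ∈ centralizer (M : Set Γ) → g ∈ S.U) (h3 : ¬ 3 ∣ Nat.card Γ) (ih : IH V) :
    HasBase Γ V 2 := by
  have := h.normal
  have := S.normal
  obtain ⟨W, _, _, _, pr, sw⟩ := exists_sec (M := M) (C := S.U) (H := ⊤) h.comm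
    le_normalizer_of_normal le_normalizer_of_normal
  exact @base_three_aux K V Γ _ _ _ _ _ _ S M _ _ _ _ _ hK h hM h3 ih W _ _
    (AddCommGroup.zmodModule (sw.nsmul_eq_zero h.pow)) _ pr sw

end Cfsg.Lib.Base
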