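import Cfsg.Agent.Base.Prim
import Cfsg.Agent.Base.Five
import Cfsg.Agent.Base.Three

/-!
# The primitive case of the base size theorem
-/

set_option autoImplicit false

namespace Cfsg.Lib.Base

open Subgroup Setup

universe u

theorem primCase : PrimCase.{u} := by
  intro G V _ _ _ _ _ _ hs hp ih
  have := hp.1.1
  obtain ⟨K, _, _, _, Γ, _, _, _, _, _, S, hd, f, hf⟩ := hp.exists_setup
  have key : ∀ k, HasBase Γ V k → HasBase G V k := fun k ⟨x, hx⟩ =>
    ⟨x, fun g hg v => (hf g v).symm.trans (hx (f g) (fun i => (hf g _).trans (hg i)) v)⟩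
  obtain ⟨P, M, h⟩ := exists_fam S
  refine ⟨key _ (h.hasBase_of_locGood fun r hr L x e => e.locGood_triple (h.heis r hr)),
    fun h2 => key _ ?_⟩
  have hq : Nat.card K = Nat.card Kˣ + 1 := by
    rw [Nat.card_units, Nat.sub_add_cancel Nat.card_pos]
  have hV : Nat.card K ∣ Nat.card V := by
    obtain ⟨v, hv⟩ := exists_ne (0 : V)
    exact AddSubgroup.card_dvd_of_injective (LinearMap.toSpanSingleton K V v).toAddMonoidHom
      (smul_left_injective K hv)
  have hcop : ∀ h2P : 2 ∈ P, ¬ M 2 ≤ S.U → ∀ p, p ≠ 1 → p ∣ Nat.card K → ¬ p ∣ S.U.index := by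
    intro h2P hM p hp h3 h4
    rcases h2 with h2 | ⟨-, h2⟩ | h2
    · exact h2.not_two_dvd_nat (((h.heis 2 h2P).dvd_index hM).trans hd)
    · obtain ⟨u, h5, h6⟩ := (h.heis 2 h2P).exists_cm_ne hM
      obtain ⟨v, hv⟩ := exists_ne (0 : V)
      refine h5 (Units.ext (eq_of_smul_eq hv ?_))
      rw [(units_sq_eq_one h6).resolve_left h5]
      simpa [neg_eq_iff_add_eq_zero] using h2 v
    · exact hp (Nat.eq_one_of_dvd_coprimes h2 (h4.trans hd) (h3.trans hV))
  by_cases hsp : 2 ∈ P ∧ ¬ M 2 ≤ S.U ∧ (Nat.card Kˣ = 2 ∨ Nat.card Kˣ = 4)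
  · obtain ⟨h2P, hM, h3⟩ := hsp
    have h4 : ∀ g ∈ S.A, g ∈ centralizer (M 2 : Set Γ) → g ∈ S.U := fun g hg h4 =>
      h.cent g hg fun r hr => by
        by_cases h5 : M r ≤ S.U
        · exact centralizer_le h5 hg
        have h6 := (h.heis r hr).dvd_card h5
        have h7 : r ∣ 2 ^ 2 := by rcases h3 with h3 | h3 <;> exact h6.trans (by rw [h3]; decide)
        rwa [(Nat.prime_dvd_prime_iff_eq (h.heis r hr).prime Nat.prime_two).1
          ((h.heis r hr).prime.dvd_of_dvd_pow h7)]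
    rcases h3 with h3 | h3
    · refine base_three (by omega) (h.heis 2 h2P) h4 (fun h5 => ?_) ih
      rw [← S.U.card_mul_index, Nat.card_congr (MonoidHom.ofInjective ι_injective).symm.toEquiv, h3,
        Nat.prime_three.dvd_mul] at h5
      exact hcop h2P hM 3 (by decide) (by omega) (h5.resolve_left (by decide))
    · exact base_five (by omega) (h.heis 2 h2P) h4
  refine h.hasBase_of_locGood fun r hr L x e => e.locGood_pair (h.heis r hr) ih ?_ ?_
  · rintro rfl hM
    exact ⟨fun h3 => hsp ⟨hr, hM, Or.inl h3⟩, fun h3 => hsp ⟨hr, hM, Or.inr h3⟩,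
      fun h3 => hcop hr hM 3 (by decide) (by omega)⟩
  · rintro rfl hM h3
    rcases h2 with h2 | ⟨h2, -⟩ | h2
    · exact h2.of_dvd_nat hd
    · exact absurd (((h.heis 3 hr).dvd_index hM).trans hd) h2
    · exact Nat.odd_iff.2 (Nat.two_dvd_ne_zero.1 fun h4 => absurd
        (Nat.eq_one_of_dvd_coprimes h2 (h4.trans hd) (Dvd.dvd.trans (by omega) hV)) (by decide))

end Cfsg.Lib.Base
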