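import Cfsg.Agent.Base.RedMult
import Cfsg.Agent.Solv.MinNormal

/-!
# Distinguishing colourings for primitive solvable permutation groups
-/

set_option autoImplicit false

namespace Cfsg.Lib.Base

universe u

section Colour

variable (H : Type*) {M : Type*} [Group H] [AddCommGroup M] [DistribMulAction H M]

/-- A colouring preserved by no non-trivial affine map. -/
def AffDist {C : Type*} (col : M → C) : Prop :=
  ∀ (h : H) (m : M), (∀ v, col (h • v + m) = col v) → ∀ v, h • v + m = v

variable {H}

theorem affDist_of_rigid {C : Type*} {c₀ : C} {col : M → C} (h0 : ∀ v, col v = c₀ ↔ v = 0)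
    (hr : ∀ h : H, (∀ v, col (h • v) = col v) → ∀ v : M, h • v = v) : AffDist H col := by
  intro h m hm
  have hm0 : m = 0 := by
    have := hm 0
    rw [smul_zero, zero_add, (h0 0).2 rfl] at this
    exact (h0 m).1 this
  subst hm0
  simp only [add_zero] at hm ⊢
  exact hr h hm

theorem exists_affDist_five (hb : HasBase H M 3) : ∃ col : M → Fin 5, AffDist H col := by
  classical
  obtain ⟨x, y, z, hb⟩ := hasBase_three.1 hb
  let col : M → Fin 5 := fun v =>
    if v = 0 then 0 else if v = x then 1 else if v = y then 2 else if v = z then 3 else 4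
  have key : ∀ v w, col v = col w → w = 0 ∨ w = x ∨ w = y ∨ w = z → v = w := by
    intro v w h hw
    simp only [col] at h
    split_ifs at h <;> simp_all
  refine ⟨col, affDist_of_rigid (c₀ := 0) (fun v => ?_) fun h hh => hb h ?_ ?_ ?_⟩
  · simp only [col]
    split_ifs <;> simp_all
  · exact key _ _ (hh x) (by simp)
  · exact key _ _ (hh y) (by simp)
  · exact key _ _ (hh z) (by simp)

theorem exists_affDist_three_of_rigid {C : Type*} [Fintype C] (hC : Fintype.card C = 2)
    {col : M → C} (hr : Rigid H col) : ∃ col : M → Fin 3, AffDist H col := by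
  classical
  let e : C ≃ Fin 2 := Fintype.equivFinOfCardEq hC
  refine ⟨fun v => if v = 0 then 0 else (e (col v)).succ,
    affDist_of_rigid (c₀ := 0) (fun v => ?_) fun h hh => hr h fun v hv => ?_⟩
  · split_ifs with h <;> simp [h]
  · have := hh v
    rw [if_neg hv, if_neg (by rwa [smul_eq_zero_iff_eq])] at this
    exact e.injective (Fin.succ_injective _ this)

theorem exists_affDist_three_of_char_two [Finite H] (hH : ¬ 3 ∣ Nat.card H)
    (h2 : ∀ v : M, v + v = 0) (hb : HasBase H M 2) : ∃ col : M → Fin 3, AffDist H col := by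
  classical
  have main : ∀ x y : M, (∀ g : H, g • x = x → g • y = y → ∀ v : M, g • v = v) →
      (∀ g : H, g • x = y → g • y = x → x = y) → ∃ col : M → Fin 3, AffDist H col := by
    intro x y hb hs
    let col : M → Bool := fun v => decide (v = x ∨ v = y)
    refine exists_affDist_three_of_rigid (C := Bool) (by simp) (col := col) fun g hg => ?_
    have key : ∀ v, v = x ∨ v = y → g • v = x ∨ g • v = y ∨ g • v = v := by
      intro v hv
      by_cases h0 : v = 0
      · right; right; rw [h0, smul_zero]
      · have := hg v h0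
        simp only [col, hv, decide_true, decide_eq_true_eq] at this
        tauto
    have hx : g • x = x ∨ g • x = y := by have := key x (Or.inl rfl); tauto
    have hy : g • y = x ∨ g • y = y := by have := key y (Or.inr rfl); tauto
    rcases hx with hx | hx <;> rcases hy with hy | hy
    · have : y = x := MulAction.injective g (hy.trans hx.symm)
      exact hb g hx (by rw [this, hx])
    · exact hb g hx hy
    · have := hs g hx hy
      exact hb g (by rw [hx, this]) (by rw [hy, this])
    · have : x = y := MulAction.injective g (hx.trans hy.symm)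
      exact hb g (by rw [hx, this]) hy
  obtain ⟨x, y, hb⟩ := hasBase_two.1 hb
  by_cases hs : ∀ g : H, g • x = y → g • y = x → x = y
  · exact main x y hb hs
  push Not at hs
  obtain ⟨a, ha1, ha2, hxy⟩ := hs
  refine main x (x + y) (fun g h1 h3 => hb g h1 ?_) fun b hb1 hb2 => ?_
  · rw [smul_add, h1] at h3
    exact add_left_cancel h3
  · exfalso
    have e2 : x + y + x = y := by rw [add_comm x y, add_assoc, h2, add_zero]
    have hby : b • y = y := by
      calc b • y = b • (x + y + x) := by rw [e2]
        _ = x + (x + y) := by rw [smul_add, hb1, hb2]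
        _ = y := by rw [add_comm, e2]
    have h1 : (a * b) • y = x := by rw [mul_smul, hby, ha2]
    have h3 : (a * b) • x = x + y := by rw [mul_smul, hb1, smul_add, ha1, ha2, add_comm]
    have : (a * b) • y = y := smul_eq_of_pow_smul_eq (n := 3)
      ((Nat.Prime.coprime_iff_not_dvd Nat.prime_three).2 hH)
      (by rw [pow_succ', pow_two, mul_smul, mul_smul (a * b), h1, h3, smul_add, h1, h3, e2])
    exact hxy (h1.symm.trans this)

theorem exists_affDist_two [Finite H] (hH : Odd (Nat.card H)) (h2 : ∀ v : M, v + v = 0 → v = 0)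
    (hb : HasBase H M 2) : ∃ col : M → Fin 2, AffDist H col := by
  classical
  have hneg : ∀ (g : H) (v : M), g • v = -v → v = 0 := by
    intro g v hg
    have : g • v = v := smul_eq_of_pow_smul_eq (n := 2) (Nat.coprime_two_left.2 hH)
      (by rw [pow_two, mul_smul, hg, smul_neg, hg, neg_neg])
    refine h2 v ?_
    rw [hg] at this
    exact neg_eq_iff_add_eq_zero.1 this
  have main : ∀ x y : M, (∀ g : H, g • x = x → g • y = y → ∀ v : M, g • v = v) →
      (∀ g : H, g • x = y - x → g • y = -x → x = 0) → ∃ col : M → Fin 2, AffDist H col := by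
    intro x y hb hs
    refine ⟨fun v => if v = 0 ∨ v = x ∨ v = y then 0 else 1, fun g m hg => ?_⟩
    have key : ∀ v, v = 0 ∨ v = x ∨ v = y → g • v + m = 0 ∨ g • v + m = x ∨ g • v + m = y := by
      intro v hv
      have := hg v
      simp only [hv, if_true] at this
      by_contra hc
      rw [if_neg hc] at this
      exact absurd this (by decide)
    have hinj : ∀ v w, g • v + m = g • w + m → v = w := fun v w h =>
      MulAction.injective g (add_right_cancel h)
    have hm := key 0 (Or.inl rfl)
    rw [smul_zero, zero_add] at hm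
    have hm0 : m = 0 := by
      by_contra hm0
      have hm1 : g • m + m ≠ 0 := fun h => hm0 (hneg g m (eq_neg_iff_add_eq_zero.2 h))
      have hm2 : g • m + m ≠ m := fun h => hm0 (hinj m 0 (by rw [h, smul_zero, zero_add]))
      have hm' := key m hm
      have hm'' := key _ hm'
      have hm3 : g • (g • m + m) + m ≠ m := fun h =>
        hm1 (hinj _ 0 (by rw [h, smul_zero, zero_add]))
      have hm4 : g • (g • m + m) + m ≠ g • m + m := fun h => hm2 (hinj _ _ h)
      rcases hm with hm | hm | hm
      · exact hm0 hm
      · subst hm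
        have h1 : g • m + m = y := by tauto
        rw [h1] at hm'' hm3 hm4
        have h3 : g • y + m = 0 := by tauto
        exact hm0 (hs g (eq_sub_iff_add_eq.2 h1) (eq_neg_iff_add_eq_zero.2 h3))
      · subst hm
        have h1 : g • m + m = x := by tauto
        rw [h1] at hm'' hm3 hm4 hm1
        have h3 : g • x + m = 0 := by tauto
        have h4 : g⁻¹ • m = -x := by
          rw [inv_smul_eq_iff, smul_neg, eq_neg_iff_add_eq_zero, add_comm, h3]
        refine hm1 (hs g⁻¹ ?_ h4)
        rw [inv_smul_eq_iff, smul_sub, eq_neg_iff_add_eq_zero.2 h3, sub_neg_eq_add, h1]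
    subst hm0
    simp only [add_zero] at key ⊢
    have hz : ∀ v : M, g • v = 0 → g • v = v := fun v h => by
      rw [(smul_eq_zero_iff_eq g).1 h, smul_zero]
    have hx : g • x = x ∨ g • x = y := by
      rcases key x (by simp) with h | h
      · exact Or.inl (hz x h)
      · exact h
    have hy : g • y = x ∨ g • y = y := by
      rcases key y (by simp) with h | h
      · exact Or.inr (hz y h)
      · exact h
    have hsq : ∀ v : M, g • g • v = v → g • v = v := fun v hv =>
      smul_eq_of_pow_smul_eq (n := 2) (Nat.coprime_two_left.2 hH) (by rw [pow_two, mul_smul, hv])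
    rcases hx with hx | hx <;> rcases hy with hy | hy
    · have : y = x := MulAction.injective g (hy.trans hx.symm)
      exact hb g hx (by rw [this, hx])
    · exact hb g hx hy
    · exact hb g (hsq x (by rw [hx, hy])) (hsq y (by rw [hy, hx]))
    · have : x = y := MulAction.injective g (hx.trans hy.symm)
      exact hb g (by rw [hx, this]) hy
  obtain ⟨x, y, hb⟩ := hasBase_two.1 hb
  by_cases hs : ∀ g : H, g • x = y - x → g • y = -x → x = 0
  · exact main x y hb hs
  push Not at hs
  obtain ⟨a, ha1, ha2, hx⟩ := hs
  refine main x (-y) (fun g h1 h3 => hb g h1 ?_) fun b _ hb2 => ?_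
  · rw [smul_neg] at h3
    exact neg_injective h3
  · rw [smul_neg, neg_inj] at hb2
    have : (a * a * b) • y = -y := by
      rw [mul_smul, mul_smul, hb2, ha1, smul_sub, ha1, ha2]
      abel
    rw [hneg _ _ this, smul_zero] at hb2
    exact hb2.symm

end Colour

section Affine

open scoped IsMulCommutative

/-- A primitive solvable permutation group is affine. -/
theorem exists_affine {G : Type u} [Group G] [Finite G] (hG : Group.IsSolvable G) {H : Subgroup G}
    (hH : IsCoatom H) :
    ∃ (M : Type u) (_ : AddCommGroup M) (_ : DistribMulAction H M) (e : G ⧸ H ≃ M),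
      Irr H M ∧ ∀ g : G, ∃ (h : H) (m : M), ∀ c, e (g • c) = h • e c + m := by
  let N := H.normalCore
  let π := QuotientGroup.mk' N
  have hπ : Function.Surjective π := QuotientGroup.mk'_surjective N
  have hnt : Nontrivial (G ⧸ N) := by
    rw [QuotientGroup.nontrivial_iff]
    intro h
    exact hH.1 (top_le_iff.1 (h ▸ H.normalCore_le))
  obtain ⟨A, hA⟩ := Solv.exists_isMinNormal (G ⧸ N)
  have hAn : A.Normal := hA.normal
  have hAc : IsMulCommutative A := hA.isMulCommutative
  have hcore : ∀ K : Subgroup (G ⧸ N), K.Normal → K.comap π ≤ H → K = ⊥ := by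
    intro K hK h
    have h1 : K.comap π ≤ N := Subgroup.normal_le_normalCore.2 h
    rw [eq_bot_iff]
    intro x hx
    obtain ⟨g, rfl⟩ := hπ x
    exact (QuotientGroup.eq_one_iff g).2 (h1 hx)
  have hsup : H ⊔ A.comap π = ⊤ := by
    refine hH.2 _ (lt_of_le_of_ne le_sup_left fun h => hA.ne_bot (hcore A hAn ?_))
    exact le_sup_right.trans h.ge
  have hdec : ∀ g : G, ∃ a : A, ∃ h : H, π g = a * π h := by
    intro g
    have : g ∈ A.comap π ⊔ H := by rw [sup_comm, hsup]; trivial
    obtain ⟨a, ha, h, hh, rfl⟩ := (Subgroup.mem_sup_of_normal_left).1 this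
    exact ⟨⟨π a, ha⟩, ⟨h, hh⟩, by simp⟩
  -- invariant subgroups of `A` are normal
  have hnorm : ∀ K : Subgroup (G ⧸ N), K ≤ A → (∀ h : H, ∀ x ∈ K, π h * x * (π h)⁻¹ ∈ K) →
      K.Normal := by
    intro K hK hK'
    refine ⟨fun x hx g => ?_⟩
    obtain ⟨g, rfl⟩ := hπ g
    obtain ⟨a, h, hg⟩ := hdec g
    have h1 := hK' h x hx
    have h2 : (a : G ⧸ N) * (π h * x * (π h)⁻¹) = (π h * x * (π h)⁻¹) * a :=
      congrArg Subtype.val (mul_comm a ⟨_, hK h1⟩)
    have : π g * x * (π g)⁻¹ = π h * x * (π h)⁻¹ := by
      rw [hg, mul_inv_rev, ← mul_assoc, mul_inv_eq_iff_eq_mul, ← h2]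
      simp only [mul_assoc]
    rwa [this]
  have hNH : ∀ g : G, π g ∈ H.map π → g ∈ H := by
    rintro g ⟨h, hh, hg⟩
    have : h⁻¹ * g ∈ N := QuotientGroup.eq.1 hg
    simpa using H.mul_mem hh (H.normalCore_le this)
  have hinf : ∀ a : A, ∀ h : H, (a : G ⧸ N) = π h → a = 1 := by
    intro a h hah
    have := hcore (A ⊓ H.map π) (hnorm _ inf_le_left fun k x hx =>
      ⟨hAn.conj_mem _ hx.1 _, (H.map π).mul_mem
        ((H.map π).mul_mem (Subgroup.mem_map_of_mem π k.2) hx.2)
        ((H.map π).inv_mem (Subgroup.mem_map_of_mem π k.2))⟩) fun g hg => hNH g hg.2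
    have h2 : (a : G ⧸ N) ∈ A ⊓ H.map π := ⟨a.2, hah ▸ Subgroup.mem_map_of_mem π h.2⟩
    rw [this] at h2
    exact Subtype.ext h2
  let act : DistribMulAction H (Additive A) :=
    { smul := fun h a => Additive.ofMul (MulAut.conjNormal (π h) a.toMul)
      one_smul := fun a => by
        change Additive.ofMul (MulAut.conjNormal (π (1 : G)) a.toMul) = a
        simp
      mul_smul := fun h k a => by
        change Additive.ofMul (MulAut.conjNormal (π (h * k : G)) a.toMul) =
          Additive.ofMul (MulAut.conjNormal (π h) (MulAut.conjNormal (π k) a.toMul))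
        simp only [map_mul, MulAut.mul_apply]
      smul_zero := fun h => by
        change Additive.ofMul (MulAut.conjNormal (π h) (1 : A)) = 0
        simp
      smul_add := fun h a b => by
        change Additive.ofMul (MulAut.conjNormal (π h) (a.toMul * b.toMul)) =
          Additive.ofMul (MulAut.conjNormal (π h) a.toMul) +
            Additive.ofMul (MulAut.conjNormal (π h) b.toMul)
        simp only [map_mul, ofMul_mul] }
  have hact : ∀ (h : H) (a : Additive A),
      (((h • a).toMul : A) : G ⧸ N) = π h * (a.toMul : A) * (π h)⁻¹ := fun _ _ => rfl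
  choose θ η hθ using hdec
  have huniq : ∀ (g : G) (a : A) (h : H), π g = a * π h → θ g = a := by
    intro g a h hg
    have h1 : ((a⁻¹ * θ g : A) : G ⧸ N) = π (h * (η g)⁻¹ : H) := by
      have := (hθ g).symm.trans hg
      simp only [Subgroup.coe_mul, Subgroup.coe_inv, map_mul, map_inv]
      rw [inv_mul_eq_iff_eq_mul, ← mul_assoc, eq_mul_inv_iff_mul_eq, this]
    exact (inv_mul_eq_one.1 (hinf _ _ h1)).symm
  have hiff : ∀ g g' : G, θ g = θ g' ↔ g⁻¹ * g' ∈ H := by
    intro g g'
    constructor
    · intro h
      refine hNH _ ⟨(η g : G)⁻¹ * η g', H.mul_mem (H.inv_mem (η g).2) (η g').2, ?_⟩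
      simp only [map_mul, map_inv]
      rw [hθ g, hθ g', h]
      group
    · intro h
      refine (huniq g' (θ g) (η g * ⟨_, h⟩) ?_).symm
      simp only [Subgroup.coe_mul, map_mul, map_inv]
      rw [← mul_assoc, ← hθ g]
      group
  let f : G ⧸ H → Additive A := Quotient.lift (fun g => Additive.ofMul (θ g)) fun g g' h =>
    congrArg _ ((hiff g g').2 (QuotientGroup.leftRel_apply.1 h))
  have hf : ∀ g : G, f (g : G ⧸ H) = Additive.ofMul (θ g) := fun _ => rfl
  have hbij : Function.Bijective f := by
    constructor
    · intro c d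
      induction c using QuotientGroup.induction_on
      induction d using QuotientGroup.induction_on
      intro h
      exact QuotientGroup.eq.2 ((hiff _ _).1 (Additive.ofMul.injective h))
    · intro a
      obtain ⟨g, hg⟩ := hπ (a.toMul : A)
      exact ⟨g, by rw [hf, huniq g a.toMul 1 (by simp [hg])]; rfl⟩
  refine ⟨Additive A, inferInstance, act, Equiv.ofBijective f hbij, ⟨?_, fun U hU => ?_⟩,
    fun g => ⟨η g, Additive.ofMul (θ g), fun c => ?_⟩⟩
  · have := (Subgroup.nontrivial_iff_ne_bot A).2 hA.ne_bot
    infer_instance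
  · let K : Subgroup (G ⧸ N) := (AddSubgroup.toSubgroup' U).map A.subtype
    have hK : K.Normal := hnorm K (Subgroup.map_subtype_le _) (by
      rintro h _ ⟨a, ha, rfl⟩
      exact ⟨(h • Additive.ofMul a).toMul, hU h _ ha, rfl⟩)
    by_cases h0 : K = ⊥
    · left
      rw [eq_bot_iff]
      intro a ha
      have : ((a.toMul : A) : G ⧸ N) ∈ K := ⟨a.toMul, ha, rfl⟩
      rw [h0] at this
      exact congrArg Additive.ofMul (Subtype.ext this : a.toMul = 1)
    · right
      have h1 := hA.eq_of_le h0 (Subgroup.map_subtype_le _)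
      rw [eq_top_iff]
      intro a _
      have : ((a.toMul : A) : G ⧸ N) ∈ K := h1.symm ▸ a.toMul.2
      obtain ⟨b, hb, hab⟩ := this
      have : b = a.toMul := Subtype.ext hab
      subst this
      exact hb
  · induction c using QuotientGroup.induction_on with
    | H x =>
      change f ((g * x : G) : G ⧸ H) = η g • f (x : G ⧸ H) + Additive.ofMul (θ g)
      rw [hf, hf, add_comm, huniq (g * x) (θ g * (η g • Additive.ofMul (θ x)).toMul) (η g * η x)]
      · rfl
      · simp only [Subgroup.coe_mul, map_mul, hact, toMul_ofMul]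
        rw [hθ g, hθ x]
        group

/-- Transport of a distinguishing colouring. -/
theorem dist_of_affDist {G H M I C : Type*} [Group G] [Group H] [AddCommGroup M]
    [DistribMulAction H M] [MulAction G I] (e : I ≃ M)
    (he : ∀ g : G, ∃ (h : H) (m : M), ∀ c, e (g • c) = h • e c + m) {col : M → C}
    (hc : AffDist H col) : Dist G (col ∘ e) := by
  intro g hg i
  obtain ⟨h, m, hm⟩ := he g
  apply e.injective
  rw [hm]
  refine hc h m (fun v => ?_) _
  obtain ⟨c, rfl⟩ := e.surjective v
  rw [← hm]
  exact hg c

end Affine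

end Cfsg.Lib.Base
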