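import Cfsg.Agent.Base.RedMain
import Cfsg.Agent.Solv.FixProd
import Cfsg.Agent.Solv.FrattiniP
import Cfsg.Agent.Solv.HallSeparable

/-!
# Consequences of the base size theorem for coprime actions and Hall subgroups
-/

set_option autoImplicit false

namespace Cfsg.Lib.Base

open Cfsg.Lib.Solv Cfsg.Lib.Solv.Act Cfsg.Lib.Solv.Coprime
open scoped Pointwise

universe u

theorem exists_proj {V : Type*} [AddCommGroup V] (p : ℕ) [Fact p.Prime] [Module (ZMod p) V]
    (U : AddSubgroup V) : ∃ π : V →+ V, (∀ v, π v ∈ U) ∧ ∀ u ∈ U, π u = u := by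
  obtain ⟨W₀, hW₀⟩ := Submodule.exists_isCompl (AddSubgroup.toZModSubmodule p U)
  exact ⟨((AddSubgroup.toZModSubmodule p U).subtype.comp
    ((AddSubgroup.toZModSubmodule p U).projectionOnto W₀ hW₀)).toAddMonoidHom,
    fun v => ((AddSubgroup.toZModSubmodule p U).projectionOnto W₀ hW₀ v).2,
    fun u hu => congrArg Subtype.val (Submodule.projectionOnto_apply_left hW₀ ⟨u, hu⟩)⟩

/-- Maschke's theorem for an elementary abelian additive group. -/
theorem cr_of_coprime {G V : Type*} [Group G] [Finite G] [AddCommGroup V] [Finite V]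
    [DistribMulAction G V] {p : ℕ} (hp : p.Prime) (hV : ∀ v : V, p • v = 0)
    (hc : (Nat.card G).Coprime (Nat.card V)) : CR G V := by
  classical
  intro U hU
  have : Fact p.Prime := ⟨hp⟩
  have : Fintype G := Fintype.ofFinite G
  obtain ⟨π, hπU, hπ⟩ := @exists_proj V _ p _ (AddCommGroup.zmodModule hV) U
  let ρ : V →+ V :=
    { toFun := fun v => ∑ g : G, g⁻¹ • (π (g • v) : V)
      map_zero' := by simp
      map_add' := fun v w => by simp [Finset.sum_add_distrib] }
  have hρ : ∀ v, ρ v = ∑ g : G, g⁻¹ • (π (g • v) : V) := fun _ => rfl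
  have h1 : ∀ v, ρ v ∈ U := fun v => sum_mem fun g _ => hU _ _ (hπU (g • v))
  have h2 : ∀ u ∈ U, ρ u = Nat.card G • u := fun u hu => by
    rw [hρ, Finset.sum_congr rfl fun g _ => by rw [hπ _ (hU g u hu), inv_smul_smul]]
    simp
  have h3 : ∀ (a : G) v, ρ (a • v) = a • ρ v := fun a v => by
    rw [hρ, hρ, Finset.smul_sum, ← Equiv.sum_comp (Equiv.mulRight a⁻¹)]
    simp [mul_smul]
  have h4 : ∀ u ∈ U, ρ u = 0 → u = 0 := fun u hu h => by
    rw [h2 u hu] at h
    exact AddMonoid.addOrderOf_eq_one_iff.1 (Nat.eq_one_of_dvd_coprimes hc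
      (addOrderOf_dvd_of_nsmul_eq_zero h) (addOrderOf_dvd_natCard u))
  refine ⟨ρ.ker, fun g v hv => by
    rw [AddMonoidHom.mem_ker] at hv ⊢; rw [h3, hv, smul_zero], ?_, ?_⟩
  · rw [eq_bot_iff]
    exact fun u hu => h4 u hu.1 hu.2
  · rw [eq_top_iff]
    intro v _
    let f : U → U := fun u => ⟨ρ u, h1 u⟩
    have hf : Function.Injective f := fun a b hab => Subtype.ext (sub_eq_zero.1
      (h4 _ (U.sub_mem a.2 b.2) (by rw [map_sub]; exact sub_eq_zero.2 (congrArg Subtype.val hab))))
    obtain ⟨u, hu⟩ := Finite.surjective_of_injective hf ⟨ρ v, h1 v⟩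
    refine AddSubgroup.mem_sup.2 ⟨u, u.2, v - u, ?_, by abel⟩
    rw [AddMonoidHom.mem_ker, map_sub]
    exact sub_eq_zero.2 (congrArg Subtype.val hu).symm

open Classical in
theorem card_le_eq_sum {L Z : Type*} [PartialOrder L] [Fintype L] [Fintype Z] (k : Z → L) (B : L) :
    Nat.card {z // B ≤ k z} = (Finset.univ.filter fun z => k z = B).card +
      ∑ C ∈ Finset.univ.filter (B < ·), (Finset.univ.filter fun z => k z = C).card := by
  rw [Nat.card_eq_fintype_card, Fintype.card_subtype,
    Finset.card_eq_sum_card_fiberwise (f := k) (t := Finset.univ.filter (B ≤ ·))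
      (fun z hz => by simpa using hz),
    ← Finset.add_sum_erase _ _ (a := B) (by simp)]
  congr 1
  · congr 1
    ext z
    simp only [Finset.mem_filter, Finset.mem_univ, true_and, and_iff_right_iff_imp]
    exact fun h => h.ge
  · refine Finset.sum_congr ?_ fun C hC => ?_
    · ext C
      simp [lt_iff_le_and_ne, and_comm, eq_comm]
    · congr 1
      ext z
      simp only [Finset.mem_filter, Finset.mem_univ, true_and, and_iff_right_iff_imp] at hC ⊢
      exact fun h => h ▸ hC.le

/-- Equal numbers of points above each element give equal fibres. -/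
theorem exists_eq_of_card_le {L X Y : Type*} [PartialOrder L] [Finite L] [Finite X] [Finite Y]
    (f : X → L) (g : Y → L) (h : ∀ B, Nat.card {x // B ≤ f x} = Nat.card {y // B ≤ g y}) (y : Y) :
    ∃ x, f x = g y := by
  classical
  have := Fintype.ofFinite L
  have := Fintype.ofFinite X
  have := Fintype.ofFinite Y
  have key : ∀ B : L, (Finset.univ.filter fun x => f x = B).card =
      (Finset.univ.filter fun y => g y = B).card := by
    intro B
    induction B using WellFoundedGT.induction with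
    | ind B ih =>
      have h1 := h B
      rw [card_le_eq_sum, card_le_eq_sum, Finset.sum_congr rfl fun C hC => ih C (by simpa using hC)] at h1
      exact Nat.add_right_cancel h1
  have h1 : 0 < (Finset.univ.filter fun x => f x = g y).card := by
    rw [key]
    exact Finset.card_pos.2 ⟨y, by simp⟩
  obtain ⟨x, hx⟩ := Finset.card_pos.1 h1
  exact ⟨x, by simpa using hx⟩

section Coprime

variable {A : Type*} [Group A] [Finite A]

open scoped IsMulCommutative in
theorem base_elemAb (hP : PrimCase.{u}) (hA : Group.IsSolvable A) {Q : Type u} [Group Q] [Finite Q]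
    {p : ℕ} (hp : p.Prime) [hQ : ElemAb p Q] (hc : (Nat.card A).Coprime (Nat.card Q))
    (φ : A →* MulAut Q) : ∃ x y : Q, ∀ a, φ a x = x → φ a y = y → ∀ q, φ a q = q := by
  have := ElemAb.isMulCommutative p Q
  let act : DistribMulAction A (Additive Q) :=
    { smul := fun a v => Additive.ofMul (φ a v.toMul)
      one_smul := fun v => by
        change Additive.ofMul (φ 1 v.toMul) = v
        simp
      mul_smul := fun a b v => by
        change Additive.ofMul (φ (a * b) v.toMul) = Additive.ofMul (φ a (φ b v.toMul))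
        simp only [map_mul, MulAut.mul_apply]
      smul_zero := fun a => by
        change Additive.ofMul (φ a 1) = 0
        simp
      smul_add := fun a v w => by
        change Additive.ofMul (φ a (v.toMul * w.toMul)) =
          Additive.ofMul (φ a v.toMul) + Additive.ofMul (φ a w.toMul)
        simp only [map_mul, ofMul_mul] }
  have hcr : CR A (Additive Q) := cr_of_coprime hp
    (fun v => congrArg Additive.ofMul (hQ.pow_eq_one v.toMul)) hc
  obtain ⟨x, y, h⟩ := hasBase_two.1 ((concl_of_primCase hP hA hcr).2 (Or.inr (Or.inr hc)))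
  exact ⟨x.toMul, y.toMul, fun a h1 h2 q => congrArg Additive.toMul
    (h a (congrArg Additive.ofMul h1) (congrArg Additive.ofMul h2) (Additive.ofMul q))⟩

theorem base_pGroup (hP : PrimCase.{u}) (hA : Group.IsSolvable A) {Q : Type u} [Group Q] [Finite Q]
    {p : ℕ} [hp : Fact p.Prime] (hQ : IsPGroup p Q) (hc : (Nat.card A).Coprime (Nat.card Q))
    (φ : A →* MulAut Q) : ∃ x y : Q, ∀ a, φ a x = x → φ a y = y → ∀ q, φ a q = q := by
  have hinv : ∀ a, ∀ x ∈ frattini Q, φ a x ∈ frattini Q := fun a x hx =>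
    (mem_frattini_equiv (φ a)).2 hx
  have := elemAb_quotient_frattini hQ
  obtain ⟨x, y, h⟩ := base_elemAb hP hA hp.out
    (hc.coprime_dvd_right (Subgroup.card_quotient_dvd_card _)) (quotAut φ (frattini Q) hinv)
  induction x using QuotientGroup.induction_on with | H x => ?_
  induction y using QuotientGroup.induction_on with | H y => ?_
  refine ⟨x, y, fun a h1 h2 => ?_⟩
  have h3 := h a (by rw [quotAut_mk, h1]) (by rw [quotAut_mk, h2])
  have h4 : fix φ (Subgroup.zpowers a) = ⊤ := by
    refine eq_top_of_sup_eq_top_of_le_frattini le_rfl ?_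
    rw [eq_top_iff]
    intro g _
    obtain ⟨z, hz, hgz⟩ := exists_mul_mem_fix (φ := φ) (B := Subgroup.zpowers a) (H := frattini Q)
      (fun b _ => hinv b)
      ((hc.coprime_dvd_left (Subgroup.card_subgroup_dvd_card _)).coprime_dvd_right
        (Subgroup.card_subgroup_dvd_card _)) (Or.inl inferInstance) (g := g) (fun b hb => by
          have h5 : Subgroup.zpowers a ≤ (quotAut φ (frattini Q) hinv).ker :=
            (Subgroup.zpowers_le).2 (MulEquiv.ext h3)
          have h6 : quotAut φ (frattini Q) hinv b g = g := by rw [h5 hb]; rfl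
          rw [quotAut_mk] at h6
          exact QuotientGroup.eq.1 h6.symm)
    simpa using mul_mem (Subgroup.mem_sup_left hgz) (Subgroup.mem_sup_right (inv_mem hz))
  intro q
  exact mem_fix_zpowers.1 (h4 ▸ Subgroup.mem_top q)

/-- Two points with trivial common stabilizer for a coprime action of a solvable group. -/
theorem base_coprime (hP : PrimCase.{u}) (hA : Group.IsSolvable A) {K : Type u} [Group K] [Finite K]
    (hc : (Nat.card A).Coprime (Nat.card K)) (φ : A →* MulAut K) :
    ∃ x y : K, ∀ a, φ a x = x → φ a y = y → ∀ q, φ a q = q := by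
  classical
  have hc' : ∀ B : Subgroup A, (Nat.card B).Coprime (Nat.card (⊤ : Subgroup K)) := fun B => by
    rw [Subgroup.card_top]; exact hc.coprime_dvd_left B.card_subgroup_dvd_card
  have hs : ∀ B : Subgroup A, Group.IsSolvable B ∨ Group.IsSolvable (⊤ : Subgroup K) := fun B =>
    Or.inl inferInstance
  have h1 : ∀ p : (Nat.card K).primeFactors, ∃ S : Subgroup K, (∀ B : Subgroup A,
      Nat.card (S ⊓ fix φ B : Subgroup K) = p.1 ^ (Nat.card (fix φ B)).factorization p) ∧
      ∃ x ∈ S, ∃ y ∈ S, ∀ a, φ a x = x → φ a y = y → ∀ q ∈ S, φ a q = q := by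
    rintro ⟨p, hp⟩
    have hp' := Nat.prime_of_mem_primeFactors hp
    have : Fact p.Prime := ⟨hp'⟩
    obtain ⟨S, -, hS, hi, hinv⟩ := Act.exists_invariant_sylow (φ := φ) (inv_top ⊤) (hc' ⊤) (hs ⊤) p
    have h : ∀ a, ∀ x ∈ S, φ a x ∈ S := fun a => hinv a (Subgroup.mem_top a)
    refine ⟨S, fun B => ?_, ?_⟩
    · have := not_dvd_relIndex_centralizer (R_le_normalizer_L_top (φ := φ) B) (hcop_LR (hc' B))
        (hsolv_LR (hs B)) (L_le_L.2 le_top) (isPGroup_L.2 hS) (by rwa [relIndex_L])
        (R_le_normalizer_L.2 fun b _ => h b)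
      rw [L_top_inf_centralizer_R, relIndex_L] at this
      obtain ⟨k, hk⟩ := IsPGroup.iff_card.1 (hS.to_le (inf_le_left (b := fix φ B)))
      rw [← FixProd.factorization_card_inf this, hk, hp'.factorization_pow, Finsupp.single_eq_same]
    · obtain ⟨x, y, hxy⟩ := base_pGroup hP hA hS (hc.coprime_dvd_right S.card_subgroup_dvd_card)
        (restrictAut φ S h)
      exact ⟨x, x.2, y, y.2, fun a h1 h2 q hq => congrArg Subtype.val
        (hxy a (Subtype.ext h1) (Subtype.ext h2) ⟨q, hq⟩)⟩
  choose S hS x hx y hy hxy using h1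
  have hprod : ∀ B : Subgroup A,
      Nat.card (fix φ B) = ∏ p, Nat.card (S p ⊓ fix φ B : Subgroup K) := by
    intro B
    simp only [hS]
    rw [Finset.prod_coe_sort (Nat.card K).primeFactors
      fun p => p ^ (Nat.card (fix φ B)).factorization p]
    conv_lhs => rw [← Nat.prod_factorization_pow_eq_self (Nat.card_pos (α := fix φ B)).ne']
    refine Finsupp.prod_of_support_subset _ ?_ _ (by simp)
    exact Nat.primeFactors_mono (Subgroup.card_subgroup_dvd_card _) Nat.card_pos.ne'
  let st : K → Subgroup A := fun k => (MulAction.stabilizer (MulAut K) k).comap φ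
  have hst : ∀ k a, a ∈ st k ↔ φ a k = k := fun _ _ => Iff.rfl
  have h2 := exists_eq_of_card_le st (fun z : ∀ p, S p => ⨅ p, st (z p)) fun B => by
    refine (hprod B).trans ?_
    rw [← Nat.card_pi]
    refine Nat.card_congr
      { toFun := fun z => ⟨fun p => ⟨z p, (z p).2.1⟩, le_iInf fun p => (z p).2.2⟩
        invFun := fun z p => ⟨z.1 p, (z.1 p).2, le_iInf_iff.1 z.2 p⟩
        left_inv := fun _ => rfl
        right_inv := fun _ => rfl }
  obtain ⟨x', hx'⟩ := h2 fun p => ⟨x p, hx p⟩
  obtain ⟨y', hy'⟩ := h2 fun p => ⟨y p, hy p⟩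
  refine ⟨x', y', fun a h3 h4 => ?_⟩
  rw [← hst, hx', Subgroup.mem_iInf] at h3
  rw [← hst, hy', Subgroup.mem_iInf] at h4
  have h5 : ∀ p, S p ≤ fix φ (Subgroup.zpowers a) := fun p q hq =>
    mem_fix_zpowers.2 (hxy p a (h3 p) (h4 p) q hq)
  have h6 : fix φ (⊥ : Subgroup A) = ⊤ := by
    rw [eq_top_iff]
    intro k _ b hb
    rw [Subgroup.mem_bot.1 hb, map_one]
    rfl
  have h7 : Nat.card (fix φ (Subgroup.zpowers a)) = Nat.card (fix φ (⊥ : Subgroup A)) := by
    rw [hprod, hprod, h6]
    exact Finset.prod_congr rfl fun p _ => by rw [inf_of_le_left (h5 p), inf_top_eq]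
  rw [h6, Subgroup.card_top] at h7
  intro q
  exact mem_fix_zpowers.1 (Subgroup.eq_top_of_card_eq _ h7 ▸ Subgroup.mem_top q)

end Coprime

/-- Three conjugates of a Hall subgroup of a `π`-solvable group meeting in the core. -/
theorem hall_three_conj (hP : PrimCase.{u}) {G : Type u} [Group G] [Finite G] {π : Set ℕ}
    (hG : HasPiSeries (piSolvableFamily π) G) {H : Subgroup G} (hH : IsPiHall π H) :
    ∃ x y : G, H ⊓ MulAut.conj x • H ⊓ MulAut.conj y • H = piCore π G := by
  let N := piCore π G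
  let f := QuotientGroup.mk' N
  have hQ := hG.quotient N
  let K := piCore πᶜ (G ⧸ N)
  have hCK : Subgroup.centralizer (K : Set (G ⧸ N)) ≤ K := by
    refine centralizer_piCore_le (hQ.mono ?_) (by rw [compl_compl]; exact piCore_quotient_piCore π G)
    rintro σ (⟨p, hp, -, rfl⟩ | rfl)
    · exact ⟨πᶜᶜ, by simp, by simpa using hp⟩
    · exact ⟨πᶜ, by simp, subset_rfl⟩
  have hπ : IsPiNum π (Nat.card (H.map f)) := (isPiHall_iff.1 hH).1.card_map f
  have hK : IsPiNum πᶜ (Nat.card K) := isPiNum_card_piCore _ _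
  have hinf : H.map f ⊓ K = ⊥ := inf_eq_bot_of_isPiNum hπ hK
  obtain ⟨x, y, hxy⟩ := base_coprime hP
    (isSolvable_of_hasPiSeries_of_isPiNum (H.map f) (hQ.subgroup _) hπ) (hπ.coprime hK)
    ((MulAut.conjNormal (H := K)).comp (H.map f).subtype)
  obtain ⟨x', hx'⟩ := QuotientGroup.mk'_surjective N x
  obtain ⟨y', hy'⟩ := QuotientGroup.mk'_surjective N y
  refine ⟨x', y', le_antisymm ?_ ?_⟩
  · rintro g ⟨⟨hg, hgx⟩, hgy⟩
    have key : ∀ (z : K) (z' : G), f z' = z → g ∈ MulAut.conj z' • H →
        ((MulAut.conjNormal (H := K)).comp (H.map f).subtype) ⟨f g, g, hg, rfl⟩ z = z := by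
      intro z z' hz hgz
      rw [Coprime.mem_conj_smul] at hgz
      have h1 : (z : G ⧸ N)⁻¹ * (f g * z * (f g)⁻¹) ∈ H.map f ⊓ K := by
        refine ⟨⟨z'⁻¹ * g * z' * g⁻¹, H.mul_mem hgz (H.inv_mem hg), ?_⟩, K.mul_mem (K.inv_mem z.2)
          ((inferInstance : K.Normal).conj_mem _ z.2 _)⟩
        simp only [map_mul, map_inv, hz, mul_assoc]
      rw [hinf, Subgroup.mem_bot, inv_mul_eq_one] at h1
      exact Subtype.ext h1.symm
    have h2 := hxy _ (key x x' hx' hgx) (key y y' hy' hgy)
    have h3 : f g ∈ H.map f ⊓ K := by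
      refine ⟨⟨g, hg, rfl⟩, hCK fun k hk => ?_⟩
      have : f g * k * (f g)⁻¹ = k := congrArg Subtype.val (h2 ⟨k, hk⟩)
      exact (mul_inv_eq_iff_eq_mul.1 this).symm
    rw [hinf, Subgroup.mem_bot] at h3
    exact (QuotientGroup.eq_one_iff g).1 h3
  · have h1 : N ≤ H := piCore_le_of_isPiHall hH
    have h2 : ∀ z : G, N ≤ MulAut.conj z • H := fun z n hn => Coprime.mem_conj_smul.2 (h1 (by
      simpa using (inferInstance : N.Normal).conj_mem _ hn z⁻¹))
    exact le_inf (le_inf h1 (h2 _)) (h2 _)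

end Cfsg.Lib.Base
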