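import Cfsg.Agent.Base.RedCol
import Cfsg.Agent.Base.Rigid

/-!
# Reduction of the base size theorem to the primitive case
-/

set_option autoImplicit false

namespace Cfsg.Lib.Base

open scoped Pointwise

universe u

section Res

variable {G V : Type*} [Group G] [AddCommGroup V] [DistribMulAction G V]

/-- The action on an invariant subgroup. -/
@[instance_reducible]
def resAct {U : AddSubgroup V} (hU : Inv G U) : DistribMulAction G U where
  smul g u := ⟨g • (u : V), hU g u u.2⟩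
  one_smul u := Subtype.ext (one_smul G (u : V))
  mul_smul g h u := Subtype.ext (mul_smul g h (u : V))
  smul_zero g := Subtype.ext (smul_zero g)
  smul_add g u v := Subtype.ext (smul_add g (u : V) v)

theorem CR.res (h : CR G V) {U : AddSubgroup V} (hU : Inv G U) : @CR G _ U _ (resAct hU) := by
  let _ := resAct hU
  intro X hX
  obtain ⟨Y, hY, h1, h2⟩ := h (X.map U.subtype) (by
    rintro g _ ⟨x, hx, rfl⟩
    exact ⟨g • x, hX g x hx, rfl⟩)
  refine ⟨Y.addSubgroupOf U, fun g y hy => hY g _ hy, ?_, ?_⟩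
  · rw [eq_bot_iff]
    intro x hx
    have : (x : V) ∈ X.map U.subtype ⊓ Y := ⟨⟨x, hx.1, rfl⟩, hx.2⟩
    rw [h1] at this
    exact Subtype.ext this
  · rw [eq_top_iff]
    intro u _
    have : (u : V) ∈ X.map U.subtype ⊔ Y := h2 ▸ AddSubgroup.mem_top _
    obtain ⟨_, ⟨x, hx, rfl⟩, y, hy, hxy⟩ := AddSubgroup.mem_sup.1 this
    refine AddSubgroup.mem_sup.2 ⟨x, hx, u - x, ?_, by abel⟩
    have : ((u - x : U) : V) = y := by
      rw [AddSubgroup.coe_sub, ← hxy]; simp
    rw [AddSubgroup.mem_addSubgroupOf, this]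
    exact hy

theorem Irr.cr (h : Irr G V) : CR G V := by
  intro U hU
  rcases h.2 U hU with rfl | rfl
  · exact ⟨⊤, fun _ _ _ => trivial, by simp, by simp⟩
  · exact ⟨⊥, fun g v hv => by rw [AddSubgroup.mem_bot.1 hv, smul_zero]; exact zero_mem _,
      by simp, by simp⟩

theorem Irr.exists_prime [Finite V] (h : Irr G V) :
    ∃ p : ℕ, p.Prime ∧ p ∣ Nat.card V ∧ ∀ v : V, p • v = 0 := by
  have := h.1
  obtain ⟨p, hp, hd⟩ := Nat.exists_prime_and_dvd (Finite.one_lt_card (α := V)).ne'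
  have : Fact p.Prime := ⟨hp⟩
  obtain ⟨x, hx⟩ := exists_prime_addOrderOf_dvd_card' p hd
  refine ⟨p, hp, hd, ?_⟩
  let U : AddSubgroup V := (nsmulAddMonoidHom p : V →+ V).ker
  have hU : ∀ v, v ∈ U ↔ p • v = 0 := fun v => Iff.rfl
  rcases h.2 U (fun g v hv => by rw [hU] at hv ⊢; rw [smul_comm, hv, smul_zero]) with h0 | h0
  · have : x ∈ U := by rw [hU, ← hx]; exact addOrderOf_nsmul_eq_zero x
    rw [h0, AddSubgroup.mem_bot] at this
    rw [this, addOrderOf_zero] at hx
    exact absurd hx.symm hp.ne_one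
  · intro v
    rw [← hU, h0]; trivial

omit [Group G] [DistribMulAction G V] in
theorem H2.of_dvd {G' V' : Type*} [AddCommGroup V'] (h : H2 G V) (h1 : Nat.card G' ∣ Nat.card G)
    (h2 : Nat.card V' ∣ Nat.card V) (h3 : (∀ v : V, v + v = 0) → ∀ v : V', v + v = 0) :
    H2 G' V' := by
  rcases h with h | h | h
  · exact Or.inl (h.of_dvd_nat h1)
  · exact Or.inr (Or.inl ⟨fun h' => h.1 (h'.trans h1), h3 h.2⟩)
  · exact Or.inr (Or.inr ((h.coprime_dvd_left h1).coprime_dvd_right h2))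

theorem hasBase_of_sum {U W : AddSubgroup V} (hU : Inv G U) (hW : Inv G W) (h1 : U ⊓ W = ⊥)
    (h2 : U ⊔ W = ⊤) {k : ℕ} (bU : @HasBase G _ U (resAct hU).toMulAction k)
    (bW : @HasBase G _ W (resAct hW).toMulAction k) : HasBase G V k := by
  obtain ⟨x, hx⟩ := bU
  obtain ⟨y, hy⟩ := bW
  refine ⟨fun i => x i + y i, fun g hg v => ?_⟩
  have key : ∀ i, g • (x i : V) = x i ∧ g • (y i : V) = y i := by
    intro i
    have h3 : g • (x i : V) + g • (y i : V) = x i + y i := by rw [← smul_add]; exact hg i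
    have h4 : g • (x i : V) - x i = y i - g • (y i : V) := by
      rw [sub_eq_sub_iff_add_eq_add, h3, add_comm]
    have h5 : g • (x i : V) - x i ∈ U ⊓ W :=
      ⟨U.sub_mem (hU g _ (x i).2) (x i).2, h4 ▸ W.sub_mem (y i).2 (hW g _ (y i).2)⟩
    rw [h1, AddSubgroup.mem_bot] at h5
    rw [h5] at h4
    exact ⟨sub_eq_zero.1 h5, (sub_eq_zero.1 h4.symm).symm⟩
  have hv : v ∈ U ⊔ W := h2 ▸ AddSubgroup.mem_top _
  obtain ⟨a, ha, b, hb, rfl⟩ := AddSubgroup.mem_sup.1 hv
  have e1 := congrArg Subtype.val (hx g (fun i => Subtype.ext (key i).1) ⟨a, ha⟩)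
  have e2 := congrArg Subtype.val (hy g (fun i => Subtype.ext (key i).2) ⟨b, hb⟩)
  rw [smul_add]
  exact congrArg₂ (· + ·) e1 e2

/-- A block of imprimitivity with a maximal stabilizer. -/
theorem exists_blocks [Finite G] [Finite V] (hirr : Irr G V) (hnp : ¬ Prim G V) :
    ∃ (H : Subgroup G) (W W' : AddSubgroup V), IsCoatom H ∧ Inv H W ∧ Disjoint W W' ∧
      (∀ g ∉ H, ∀ w ∈ W, g • w ∈ W') ∧ W ≠ ⊥ := by
  have : ¬ ∀ S : Set (AddSubgroup V), (∀ g : G, ∀ U ∈ S, g • U ∈ S) → sSupIndep S → sSup S = ⊤ →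
    ⊥ ∉ S → S.Subsingleton := fun h => hnp ⟨hirr, h⟩
  push Not at this
  obtain ⟨S, hS, hind, -, hbot, W₀, hW₀, W₁, hW₁, hne⟩ := this
  have hH₀ : MulAction.stabilizer G W₀ ≠ ⊤ := by
    intro h
    have hinv : Inv G W₀ := fun g v hv => by
      have h1 : g • W₀ = W₀ := (h ▸ Subgroup.mem_top g : g ∈ MulAction.stabilizer G W₀)
      exact h1 ▸ AddSubgroup.smul_mem_pointwise_smul v g W₀ hv
    rcases hirr.2 W₀ hinv with h0 | h0
    · exact hbot (h0 ▸ hW₀)
    · have := hind.pairwiseDisjoint hW₀ hW₁ hne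
      rw [Function.onFun, id, id, h0, top_disjoint] at this
      exact hbot (this ▸ hW₁)
  obtain ⟨H, hH, hle⟩ := (eq_top_or_exists_le_coatom _).resolve_left hH₀
  let T : Set S := {U | ∃ h ∈ H, h • W₀ = U}
  refine ⟨H, ⨆ U ∈ T, (U : AddSubgroup V), ⨆ U ∈ Tᶜ, (U : AddSubgroup V), hH, ?_,
    ((sSupIndep_iff S).1 hind).disjoint_biSup_biSup' disjoint_compl_right (Set.toFinite _), ?_, ?_⟩
  · intro h w hw
    have : (⨆ U ∈ T, (U : AddSubgroup V)) ≤ (h : G)⁻¹ • ⨆ U ∈ T, (U : AddSubgroup V) := by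
      refine iSup₂_le ?_
      rintro U ⟨k, hk, hU⟩
      rw [← AddSubgroup.pointwise_smul_le_iff]
      exact le_iSup₂_of_le (f := fun (U : S) (_ : U ∈ T) => (U : AddSubgroup V))
        ⟨(h : G) • U, hS _ _ U.2⟩ ⟨h * k, mul_mem h.2 hk, by rw [mul_smul, hU]⟩ le_rfl
    exact AddSubgroup.mem_inv_pointwise_smul_iff.1 (this hw)
  · intro g hg w hw
    have : (⨆ U ∈ T, (U : AddSubgroup V)) ≤ g⁻¹ • ⨆ U ∈ Tᶜ, (U : AddSubgroup V) := by
      refine iSup₂_le ?_
      rintro U ⟨k, hk, hU⟩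
      rw [← AddSubgroup.pointwise_smul_le_iff]
      refine le_iSup₂_of_le (f := fun (U : S) (_ : U ∈ Tᶜ) => (U : AddSubgroup V))
        ⟨g • U, hS _ _ U.2⟩ ?_ le_rfl
      rintro ⟨l, hl, hl'⟩
      have h1 : l⁻¹ * g * k ∈ MulAction.stabilizer G W₀ := by
        rw [MulAction.mem_stabilizer_iff, mul_smul, mul_smul, hU, inv_smul_eq_iff]
        exact hl'.symm
      have h2 := H.mul_mem (H.mul_mem hl (hle h1)) (H.inv_mem hk)
      exact hg (by simpa [mul_assoc] using h2)
    exact AddSubgroup.mem_inv_pointwise_smul_iff.1 (this hw)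
  · intro h
    have : W₀ ≤ ⨆ U ∈ T, (U : AddSubgroup V) :=
      le_iSup₂_of_le (f := fun (U : S) (_ : U ∈ T) => (U : AddSubgroup V)) ⟨W₀, hW₀⟩
        ⟨1, one_mem _, one_smul _ _⟩ le_rfl
    rw [h, le_bot_iff] at this
    exact hbot (this ▸ hW₀)

variable {H : Subgroup G} {W W' : AddSubgroup V}

theorem irr_block (hirr : Irr G V) (hW : Inv H W) (hd : Disjoint W W')
    (hout : ∀ g ∉ H, ∀ w ∈ W, g • w ∈ W') (hW0 : W ≠ ⊥) : @Irr H _ W _ (resAct hW) := by
  let _ := resAct hW
  refine ⟨(AddSubgroup.nontrivial_iff_ne_bot W).2 hW0, fun X hX => ?_⟩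
  rw [or_iff_not_imp_left]
  intro hX0
  let Y : AddSubgroup V :=
    { carrier := {v | ∀ g : G, g • v ∈ X.map W.subtype ⊔ W'}
      zero_mem' := fun g => by rw [smul_zero]; exact zero_mem _
      add_mem' := fun ha hb g => by rw [smul_add]; exact add_mem (ha g) (hb g)
      neg_mem' := fun ha g => by rw [smul_neg]; exact neg_mem (ha g) }
  have hXY : ∀ x ∈ X, (x : V) ∈ Y := by
    intro x hx g
    by_cases hg : g ∈ H
    · exact AddSubgroup.mem_sup_left ⟨(⟨g, hg⟩ : H) • x, hX _ x hx, rfl⟩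
    · exact AddSubgroup.mem_sup_right (hout g hg _ x.2)
  rcases hirr.2 Y (fun g v hv a => by rw [← mul_smul]; exact hv _) with h | h
  · refine absurd ?_ hX0
    rw [eq_bot_iff]
    intro x hx
    have := hXY x hx
    rw [h] at this
    exact Subtype.ext this
  · rw [eq_top_iff]
    intro w _
    have : (w : V) ∈ Y := h ▸ AddSubgroup.mem_top _
    have := this 1
    rw [one_smul] at this
    obtain ⟨_, ⟨x, hx, rfl⟩, y, hy, hxy⟩ := AddSubgroup.mem_sup.1 this
    have h1 : y ∈ W := by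
      have : y = w - x := by rw [← hxy]; simp
      rw [this]; exact sub_mem w.2 x.2
    have h2 : y = 0 := (AddSubgroup.disjoint_def.1 hd) h1 hy
    rw [h2, add_zero] at hxy
    exact (Subtype.ext hxy : x = w) ▸ hx

theorem card_block_lt [Finite V] (hH : H ≠ ⊤) (hd : Disjoint W W')
    (hout : ∀ g ∉ H, ∀ w ∈ W, g • w ∈ W') (hW0 : W ≠ ⊥) : Nat.card W < Nat.card V := by
  obtain ⟨g, hg⟩ : ∃ g, g ∉ H := by
    by_contra h
    push Not at h
    exact hH ((Subgroup.eq_top_iff' H).2 h)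
  obtain ⟨⟨w, hw⟩, hw0⟩ := AddSubgroup.ne_bot_iff_exists_ne_zero.1 hW0
  refine Finite.card_subtype_lt (x := g • w) fun h => hw0 (Subtype.ext ?_)
  exact (smul_eq_zero_iff_eq g).1 ((AddSubgroup.disjoint_def.1 hd) h (hout g hg w hw))

theorem index_lt_card [Finite V] (hd : Disjoint W W')
    (hout : ∀ g ∉ H, ∀ w ∈ W, g • w ∈ W') (hW0 : W ≠ ⊥) : Nat.card (G ⧸ H) < Nat.card V := by
  obtain ⟨⟨w, hw⟩, hw0⟩ := AddSubgroup.ne_bot_iff_exists_ne_zero.1 hW0
  have hw1 : w ≠ 0 := fun h => hw0 (Subtype.ext h)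
  let f : G ⧸ H → {v : V // v ≠ 0} := fun c =>
    ⟨c.out • w, fun h => hw1 ((smul_eq_zero_iff_eq _).1 h)⟩
  have hf : Function.Injective f := by
    intro c d h
    have h1 : c.out • w = d.out • w := congrArg Subtype.val h
    rw [← c.out_eq, ← d.out_eq]
    refine QuotientGroup.eq.2 ?_
    by_contra hc
    have h2 := hout _ hc w hw
    rw [mul_smul, ← h1, inv_smul_smul] at h2
    exact hw1 ((AddSubgroup.disjoint_def.1 hd) hw h2)
  exact (Nat.card_le_card_of_injective f hf).trans_lt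
    (Finite.card_subtype_lt (x := 0) (by simp))

theorem hasBase_of_blocks [Finite G] (hirr : Irr G V) (hW : Inv H W) (hd : Disjoint W W')
    (hout : ∀ g ∉ H, ∀ w ∈ W, g • w ∈ W') (hW0 : W ≠ ⊥) {k c : ℕ}
    (hb : @HasBases H _ W (resAct hW).toMulAction k c) {col : G ⧸ H → Fin c}
    (hcol : Dist G col) : HasBase G V k := by
  classical
  let _ := resAct hW
  have : Fintype (G ⧸ H) := Fintype.ofFinite _
  obtain ⟨b, hb1, hb2⟩ := hb
  have comp : ∀ (x : G ⧸ H → W) (a : G) (d : G ⧸ H), a * d.out ∈ H →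
      a • ∑ c, c.out • (x c : V) - (a * d.out) • (x d : V) ∈ W' := by
    intro x a d had
    rw [Finset.smul_sum, ← Finset.add_sum_erase _ _ (Finset.mem_univ d), mul_smul,
      add_sub_cancel_left]
    refine sum_mem fun c hc => ?_
    rw [← mul_smul]
    refine hout _ (fun h => (Finset.mem_erase.1 hc).1 ?_) _ (x c).2
    rw [← c.out_eq, ← d.out_eq]
    refine QuotientGroup.eq.2 ?_
    simpa using H.mul_mem (H.inv_mem h) had
  refine ⟨fun t => ∑ c, c.out • (b (col c) t : V), fun g hg => ?_⟩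
  have hmem : ∀ d : G ⧸ H, (g • d).out⁻¹ * g * d.out ∈ H := by
    intro d
    rw [mul_assoc, ← QuotientGroup.eq, QuotientGroup.out_eq', ← smul_eq_mul,
      ← MulAction.Quotient.smul_mk, QuotientGroup.out_eq']
  have key : ∀ (d : G ⧸ H) (t : Fin k),
      (⟨_, hmem d⟩ : H) • b (col d) t = b (col (g • d)) t := by
    intro d t
    have h1 := comp (fun c => b (col c) t) (g • d).out⁻¹ (g • d) (by simp)
    have h2 := comp (fun c => b (col c) t) ((g • d).out⁻¹ * g) d (hmem d)
    rw [mul_smul, hg t] at h2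
    have h3 := sub_mem h1 h2
    rw [inv_mul_cancel, one_smul, sub_sub_sub_cancel_left] at h3
    have h4 := (AddSubgroup.disjoint_def.1 hd)
      (sub_mem (hW ⟨_, hmem d⟩ _ (b (col d) t).2) (b (col (g • d)) t).2) h3
    exact Subtype.ext (sub_eq_zero.1 h4)
  have hfix : ∀ d : G ⧸ H, g • d = d := hcol g fun d => (hb2 _ _ _ (key d)).symm
  have htriv : ∀ (d : G ⧸ H), ∀ w ∈ W, g • d.out • w = d.out • w := by
    intro d w hw
    have h1 := congrArg Subtype.val (hb1 (col d) ⟨_, hmem d⟩ (fun t => by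
      rw [key d t, hfix d]) ⟨w, hw⟩)
    have h2 : ((g • d).out⁻¹ * g * d.out) • w = w := h1
    rw [hfix d, mul_smul, mul_smul, inv_smul_eq_iff] at h2
    exact h2
  let Y : AddSubgroup V :=
    { carrier := {v | ∀ a : G, g • a • v = a • v}
      zero_mem' := fun a => by rw [smul_zero, smul_zero]
      add_mem' := fun ha hb a => by rw [smul_add, smul_add, ha a, hb a]
      neg_mem' := fun ha a => by rw [smul_neg, smul_neg, ha a] }
  have hWY : W ≤ Y := by
    intro w hw a
    obtain ⟨h, hh⟩ := QuotientGroup.mk_out_eq_mul H a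
    have := htriv (a : G ⧸ H) _ (hW h⁻¹ w hw)
    rwa [hh, Subgroup.smul_def, ← mul_smul (a * h), Subgroup.coe_inv, mul_inv_cancel_right]
      at this
  rcases hirr.2 Y (fun a v hv a' => by rw [← mul_smul a']; exact hv _) with h | h
  · exact absurd (le_bot_iff.1 (h ▸ hWY)) hW0
  · intro v
    have : v ∈ Y := h ▸ AddSubgroup.mem_top _
    simpa using this 1

end Res

section Image

variable (G V : Type*) [Group G] [AddCommGroup V] [DistribMulAction G V]

/-- The image of the acting group in the permutation group of the module. -/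
abbrev Im : Subgroup (Equiv.Perm V) := (MulAction.toPermHom G V).range

/-- The image acts by additive automorphisms. -/
@[instance_reducible]
def imAct : DistribMulAction (Im G V) V :=
  { (inferInstance : MulAction (Im G V) V) with
    smul_zero := by
      rintro ⟨_, g, rfl⟩
      exact smul_zero g
    smul_add := by
      rintro ⟨_, g, rfl⟩ v w
      exact smul_add g v w }

variable {G V}

theorem inv_im {U : AddSubgroup V} : @Inv (Im G V) _ V _ (imAct G V) U ↔ Inv G U :=
  ⟨fun h g => h ⟨_, g, rfl⟩, fun h => by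
    rintro ⟨_, g, rfl⟩
    exact h g⟩

theorem CR.im (h : CR G V) : @CR (Im G V) _ V _ (imAct G V) := fun U hU =>
  let ⟨W, h1, h2⟩ := h U (inv_im.1 hU)
  ⟨W, inv_im.2 h1, h2⟩

theorem Prim.im (h : Prim G V) : @Prim (Im G V) _ V _ (imAct G V) :=
  ⟨⟨h.1.1, fun U hU => h.1.2 U (inv_im.1 hU)⟩, fun S hS => h.2 S fun g => hS ⟨_, g, rfl⟩⟩

theorem isSolvable_im (h : Group.IsSolvable G) : Group.IsSolvable (Im G V) :=
  Group.isSolvable_of_surjective (MulAction.toPermHom G V).rangeRestrict_surjective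

theorem Concl.of_im (h : @Concl (Im G V) V _ _ (imAct G V)) : Concl G V := by
  have key : ∀ k, @HasBase (Im G V) _ V (imAct G V).toMulAction k → HasBase G V k :=
    fun k ⟨x, hx⟩ => ⟨x, fun g => hx ⟨_, g, rfl⟩⟩
  refine ⟨key _ h.1, fun h2 => key _ (h.2 (h2.of_dvd ?_ dvd_rfl id))⟩
  exact Subgroup.card_dvd_of_surjective _ (MulAction.toPermHom G V).rangeRestrict_surjective

end Image

section Main

variable {G V : Type u} [Group G] [Finite G] [AddCommGroup V] [Finite V] [DistribMulAction G V]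

theorem concl_of_not_prim (hG : Group.IsSolvable G) (hirr : Irr G V) (hnp : ¬ Prim G V)
    (ih : IH V) : Concl G V := by
  obtain ⟨H, W, W', hH, hW, hd, hout, hW0⟩ := exists_blocks hirr hnp
  obtain ⟨M, _, _, e, hM, he⟩ := exists_affine hG hH
  have : Finite M := Finite.of_equiv _ e
  have hMc : Nat.card M = Nat.card (G ⧸ H) := (Nat.card_congr e).symm
  have hMG : Nat.card M ∣ Nat.card G := hMc ▸ H.index_dvd_card
  have hHG : Nat.card H ∣ Nat.card G := H.card_subgroup_dvd_card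
  have ihM := ih H M (hMc ▸ index_lt_card hd hout hW0) inferInstance hM.cr
  let _ := resAct hW
  have hWirr := irr_block hirr hW hd hout hW0
  have hnt : Nontrivial W := hWirr.1
  have ihW := ih H W (card_block_lt hH.1 hd hout hW0) inferInstance hWirr.cr
  have fin : ∀ {k c : ℕ}, HasBases H W k c → (∃ col : M → Fin c, AffDist H col) →
      HasBase G V k := fun hb ⟨col, hc⟩ =>
    hasBase_of_blocks hirr hW hd hout hW0 hb (dist_of_affDist e he hc)
  have c5 := exists_affDist_five ihM.1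
  refine ⟨fin (hasBases_five inferInstance ihW.1) c5, fun h2 => ?_⟩
  have bW : HasBase H W 2 := ihW.2 (h2.of_dvd hHG W.card_addSubgroup_dvd_card
    fun h v => Subtype.ext (h v))
  obtain ⟨r, hr, hrM, hrv⟩ := hM.exists_prime
  have codd : Odd (Nat.card G) → HasBase G V 2 := by
    intro ho
    have hoH := ho.of_dvd_nat hHG
    refine fin (hasBases_odd hoH bW) (exists_affDist_two hoH (fun v hv => ?_) (ihM.2 (Or.inl hoH)))
    have h1 : addOrderOf v ∣ 2 := addOrderOf_dvd_of_nsmul_eq_zero (by rwa [two_nsmul])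
    have h3 : addOrderOf v ∣ Nat.card G := (addOrderOf_dvd_natCard v).trans hMG
    exact AddMonoid.addOrderOf_eq_one_iff.1
      (Nat.eq_one_of_dvd_coprimes (Nat.coprime_two_left.2 ho) h1 h3)
  have c3 : ¬ 3 ∣ Nat.card G → ∃ col : M → Fin 3, AffDist H col := by
    intro h3
    have h3H : ¬ 3 ∣ Nat.card H := fun h => h3 (h.trans hHG)
    by_cases hr2 : r = 2
    · subst hr2
      have hv : ∀ v : M, v + v = 0 := fun v => by rw [← two_nsmul]; exact hrv v
      exact exists_affDist_three_of_char_two h3H hv (ihM.2 (Or.inr (Or.inl ⟨h3H, hv⟩)))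
    · have hr3 : r ≠ 3 := fun h => h3 ((h ▸ hrM).trans hMG)
      have : Fact r.Prime := ⟨hr⟩
      obtain ⟨col, hc, -⟩ := R5 (H := H) (hr.five_le_of_ne_two_of_ne_three hr2 hr3) hrv
      exact exists_affDist_three_of_rigid (by simp) hc
  rcases h2 with h2 | h2 | h2
  · exact codd h2
  · exact fin (hasBases_char_two (fun h => h2.1 (h.trans hHG)) (fun v => Subtype.ext (h2.2 v)) bW)
      (c3 h2.1)
  · obtain ⟨p, hp, hpV, hpv⟩ := hirr.exists_prime
    have hpG : ¬ p ∣ Nat.card G :=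
      (Nat.Prime.coprime_iff_not_dvd hp).1 (h2.coprime_dvd_right hpV).symm
    have hb := hasBases_coprime hp (fun h => hpG (h.trans hHG))
      (fun v : W => Subtype.ext (hpv v)) bW
    by_cases hp2 : p = 2
    · subst hp2
      exact codd (Nat.odd_iff.2 (Nat.two_dvd_ne_zero.1 hpG))
    by_cases hp3 : p = 3
    · subst hp3
      exact fin hb (c3 hpG)
    · exact fin (hb.mono (hp.five_le_of_ne_two_of_ne_three hp2 hp3)) c5

theorem concl_step (hP : PrimCase.{u}) (hG : Group.IsSolvable G) (hcr : CR G V) (ih : IH V) :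
    Concl G V := by
  by_cases hirr : Irr G V
  · by_cases hp : Prim G V
    · let _ := imAct G V
      exact Concl.of_im (hP (Im G V) V (isSolvable_im hG) hp.im ih)
    · exact concl_of_not_prim hG hirr hp ih
  rcases subsingleton_or_nontrivial V with hV | hV
  · exact ⟨⟨0, fun _ _ _ => Subsingleton.elim _ _⟩, fun _ => ⟨0, fun _ _ _ => Subsingleton.elim _ _⟩⟩
  have : ¬ ∀ U : AddSubgroup V, Inv G U → U = ⊥ ∨ U = ⊤ := fun h => hirr ⟨hV, h⟩
  push Not at this
  obtain ⟨U, hU, hU0, hU1⟩ := this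
  obtain ⟨W, hW, h1, h2⟩ := hcr U hU
  have hW1 : W ≠ ⊤ := fun h => hU0 (by rw [← h1, h, inf_top_eq])
  have hlt : ∀ X : AddSubgroup V, X ≠ ⊤ → Nat.card X < Nat.card V := by
    intro X hX
    obtain ⟨v, hv⟩ : ∃ v, v ∉ X := by
      by_contra h
      push Not at h
      exact hX ((AddSubgroup.eq_top_iff' X).2 h)
    exact Finite.card_subtype_lt hv
  have cU := @ih G U _ _ _ _ (resAct hU) (hlt U hU1) hG (hcr.res hU)
  have cW := @ih G W _ _ _ _ (resAct hW) (hlt W hW1) hG (hcr.res hW)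
  exact ⟨hasBase_of_sum hU hW h1 h2 cU.1 cW.1, fun h => hasBase_of_sum hU hW h1 h2
    (cU.2 (h.of_dvd dvd_rfl U.card_addSubgroup_dvd_card fun h v => Subtype.ext (h v)))
    (cW.2 (h.of_dvd dvd_rfl W.card_addSubgroup_dvd_card fun h v => Subtype.ext (h v)))⟩

theorem ih_of_primCase (hP : PrimCase.{u}) (n : ℕ) :
    ∀ (G V : Type u) [Group G] [Finite G] [AddCommGroup V] [Finite V] [DistribMulAction G V],
      Nat.card V = n → Group.IsSolvable G → CR G V → Concl G V := by
  induction n using Nat.strong_induction_on with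
  | _ n ih =>
    intro G V _ _ _ _ _ hn hG hcr
    exact concl_step hP hG hcr fun G' V' _ _ _ _ _ hlt => ih _ (hn ▸ hlt) G' V' rfl

end Main

/-- The base size theorem follows from its primitive case. -/
theorem concl_of_primCase (hP : PrimCase.{u}) {G : Type*} {V : Type u} [Group G] [AddCommGroup V]
    [Finite V] [DistribMulAction G V] (hG : Group.IsSolvable G) (hcr : CR G V) : Concl G V := by
  let _ := imAct G V
  exact Concl.of_im (ih_of_primCase hP _ (Im G V) V rfl (isSolvable_im hG) hcr.im)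

end Cfsg.Lib.Base
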